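/-
The Leech lattice of `Cfsg.Prelude.Def_Sporadic_a`: membership, invariances, evenness.
-/
import Cfsg.Prelude.Def_Sporadic_a

set_option autoImplicit false

namespace Cfsg.Agent.Leech

open Cfsg Finset

/-- Code facts used for the lattice: orthogonality on the generators. -/
theorem zmod2_cases (a : ZMod 2) : a = 0 ∨ a = 1 := by revert a; decide

theorem zmod2_eq_one_of_ne {a : ZMod 2} (h : a ≠ 0) : a = 1 := (zmod2_cases a).resolve_left h

theorem add_self_word {α : Type*} (v : α → ZMod 2) : v + v = 0 :=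
  funext fun i => by rcases zmod2_cases (v i) with h | h <;> simp only [Pi.add_apply, h, Pi.zero_apply] <;> decide

theorem mem_supp {α : Type*} [Fintype α] {w : α → ZMod 2} {i : α} :
    i ∈ support₂ w ↔ w i = 1 := by
  simp only [support₂, mem_filter, mem_univ, true_and]
  exact ⟨zmod2_eq_one_of_ne, fun h => by rw [h]; decide⟩

theorem supp_injective {α : Type*} [Fintype α] : Function.Injective (support₂ (α := α)) := by
  intro v w h
  funext i
  rcases zmod2_cases (v i) with hv | hv <;> rcases zmod2_cases (w i) with hw | hw <;> rw [hv, hw]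
  · exact absurd (mem_supp.1 (h ▸ mem_supp.2 hw)) (by rw [hv]; decide)
  · exact absurd (mem_supp.1 (h.symm ▸ mem_supp.2 hv)) (by rw [hw]; decide)

theorem mem_supports_iff {w : GolayPt → ZMod 2} :
    support₂ w ∈ supports (golayCode : Set (GolayPt → ZMod 2)) ↔ w ∈ golayCode :=
  ⟨fun ⟨_, hv, e⟩ => supp_injective e ▸ hv, fun h => ⟨w, h, rfl⟩⟩

theorem supp_add {α : Type*} [Fintype α] [DecidableEq α] (v w : α → ZMod 2) :
    (support₂ (v + w)).card + 2 * (support₂ v ∩ support₂ w).card =
      (support₂ v).card + (support₂ w).card := by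
  simp only [support₂, ← filter_and, card_filter, mul_sum, ← sum_add_distrib]
  refine sum_congr rfl fun i _ => ?_
  rcases zmod2_cases (v i) with hv | hv <;> rcases zmod2_cases (w i) with hw | hw <;>
    simp only [Pi.add_apply, hv, hw] <;> decide

theorem dot_eq_inter_card {α : Type*} [Fintype α] [DecidableEq α] (v w : α → ZMod 2) :
    ∑ i, v i * w i = ((support₂ v ∩ support₂ w).card : ZMod 2) := by
  rw [card_eq_sum_ones, Nat.cast_sum, support₂, support₂, ← filter_and, sum_filter]
  refine sum_congr rfl fun i _ => ?_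
  rcases zmod2_cases (v i) with hv | hv <;> rcases zmod2_cases (w i) with hw | hw <;>
    simp only [hv, hw] <;> decide

theorem one_mem_code : (1 : GolayPt → ZMod 2) ∈ golayCode :=
  Submodule.subset_span (Set.mem_union_right _ rfl)

theorem qrWord_mem_code (t : ZMod 23) : qrWord t ∈ golayCode :=
  Submodule.subset_span (Set.mem_union_left _ ⟨t, rfl⟩)

theorem gens_dot : ∀ s t : ZMod 23, ((support₂ (qrWord s) ∩ support₂ (qrWord t)).card % 2 = 0 ∧
    (support₂ (qrWord s) ∩ support₂ (1 : GolayPt → ZMod 2)).card % 2 = 0) := by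
  decide +kernel

theorem gens_weight : ∀ s : ZMod 23, (support₂ (qrWord s)).card = 12 := by decide +kernel

theorem code_dot {v w : GolayPt → ZMod 2} (hv : v ∈ golayCode) (hw : w ∈ golayCode) :
    ∑ i, v i * w i = 0 := by
  have base : ∀ a ∈ Set.range qrWord ∪ {(1 : GolayPt → ZMod 2)},
      ∀ b ∈ Set.range qrWord ∪ {(1 : GolayPt → ZMod 2)}, ∑ i, a i * b i = 0 := by
    have h2 : ∀ n : ℕ, n % 2 = 0 → (n : ZMod 2) = 0 := fun n hn => by
      rw [ZMod.natCast_eq_zero_iff]
      omega
    rintro a (⟨s, rfl⟩ | rfl) b (⟨t, rfl⟩ | rfl)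
    · rw [dot_eq_inter_card]; exact h2 _ (gens_dot s t).1
    · rw [dot_eq_inter_card]; exact h2 _ (gens_dot s 0).2
    · rw [dot_eq_inter_card, inter_comm]; exact h2 _ (gens_dot t 0).2
    · decide +kernel
  have hl : ∀ a ∈ golayCode, ∀ b ∈ Set.range qrWord ∪ {(1 : GolayPt → ZMod 2)},
      ∑ i, a i * b i = 0 := by
    intro a ha b hb
    induction ha using Submodule.span_induction with
    | mem x hx => exact base x hx b hb
    | zero => simp
    | add x y _ _ hx hy => simp only [Pi.add_apply, add_mul, sum_add_distrib, hx, hy, add_zero]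
    | smul c x _ hx => simp only [Pi.smul_apply, smul_eq_mul, mul_assoc, ← mul_sum, hx, mul_zero]
  induction hw using Submodule.span_induction with
  | mem x hx => exact hl v hv x hx
  | zero => simp
  | add x y _ _ hx hy => simp only [Pi.add_apply, mul_add, sum_add_distrib, hx, hy, add_zero]
  | smul c x _ hx =>
    simp only [Pi.smul_apply, smul_eq_mul, mul_left_comm _ c, ← mul_sum, hx, mul_zero]

theorem inter_card_even {v w : GolayPt → ZMod 2} (hv : v ∈ golayCode) (hw : w ∈ golayCode) :
    2 ∣ (support₂ v ∩ support₂ w).card := by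
  have := code_dot hv hw
  rwa [dot_eq_inter_card, ZMod.natCast_eq_zero_iff] at this

theorem code_doubly_even {v : GolayPt → ZMod 2} (hv : v ∈ golayCode) :
    4 ∣ (support₂ v).card := by
  induction hv using Submodule.span_induction with
  | mem x hx =>
    rcases hx with ⟨s, rfl⟩ | rfl
    · rw [gens_weight s]; norm_num
    · decide +kernel
  | zero => decide +kernel
  | add x y hx hy ihx ihy =>
    have h := supp_add x y
    obtain ⟨k, hk⟩ := inter_card_even hx hy
    omega
  | smul c x _ hx =>
    rcases zmod2_cases c with rfl | rfl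
    · rw [zero_smul]; decide +kernel
    · rwa [one_smul]

/-- The second binary digit of each coordinate. -/
def hb (x : GolayPt → ℤ) : GolayPt → ZMod 2 := fun i => ((x i / 2 : ℤ) : ZMod 2)

/-- Membership predicate for the lattice. -/
def InL (x : GolayPt → ℤ) : Prop :=
  (∀ i, x i % 2 = x none % 2) ∧ hb x ∈ golayCode ∧ (∑ i, x i) % 8 = (4 * x none) % 8

theorem hb_eq_one_iff {x : GolayPt → ℤ} {i : GolayPt} : hb x i = 1 ↔ x i / 2 % 2 = 1 := by
  rw [hb, show (1 : ZMod 2) = ((1 : ℤ) : ZMod 2) from Int.cast_one.symm, ZMod.intCast_eq_intCast_iff']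
  norm_num

theorem hb_eq_zero_iff {x : GolayPt → ℤ} {i : GolayPt} : hb x i = 0 ↔ x i / 2 % 2 = 0 := by
  rw [hb, show (0 : ZMod 2) = ((0 : ℤ) : ZMod 2) from Int.cast_zero.symm, ZMod.intCast_eq_intCast_iff']
  norm_num

theorem inL_of_leechSet {x : GolayPt → ℤ} (hx : x ∈ leechSet) : InL x := by
  obtain ⟨m, hm, hsum, hk⟩ := hx
  refine ⟨fun i => (hm i).trans (hm none).symm, ?_, ?_⟩
  · rw [← mem_supports_iff]
    convert hk (m % 2 + 2) using 1
    ext i
    rw [mem_supp, mem_filter, hb_eq_one_iff]
    have := hm i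
    simp only [Int.ModEq, mem_univ, true_and] at this ⊢
    omega
  · have := hm none
    simp only [Int.ModEq] at hsum this
    omega

theorem leechSet_of_inL {x : GolayPt → ℤ} (hx : InL x) : x ∈ leechSet := by
  obtain ⟨h1, h2, h3⟩ := hx
  refine ⟨x none, fun i => h1 i, h3, fun k => ?_⟩
  by_cases hk : k % 2 = x none % 2
  · by_cases hk' : k / 2 % 2 = 1
    · refine ⟨hb x, h2, ?_⟩
      ext i
      rw [mem_supp, mem_filter, hb_eq_one_iff]
      have := h1 i
      simp only [Int.ModEq, mem_univ, true_and]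
      omega
    · refine ⟨1 + hb x, add_mem one_mem_code h2, ?_⟩
      ext i
      rw [mem_supp, mem_filter, Pi.add_apply, Pi.one_apply, add_eq_left, hb_eq_zero_iff]
      have := h1 i
      simp only [Int.ModEq, mem_univ, true_and]
      omega
  · refine ⟨0, zero_mem _, ?_⟩
    ext i
    rw [mem_supp, mem_filter, Pi.zero_apply]
    have := h1 i
    simp only [Int.ModEq, mem_univ, true_and, zero_ne_one, false_iff]
    omega

theorem inL_zero : InL 0 := by
  refine ⟨fun i => rfl, ?_, by simp⟩
  have : hb 0 = 0 := funext fun i => by simp [hb]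
  rw [this]
  exact zero_mem _

theorem inL_add {x y : GolayPt → ℤ} (hx : InL x) (hy : InL y) : InL (x + y) := by
  obtain ⟨a1, a2, a3⟩ := hx
  obtain ⟨b1, b2, b3⟩ := hy
  refine ⟨fun i => ?_, ?_, ?_⟩
  · have := a1 i
    have := b1 i
    simp only [Pi.add_apply]
    omega
  · have : hb (x + y) = hb x + hb y + ((x none % 2 * (y none % 2) : ℤ) : ZMod 2) • 1 := by
      funext i
      simp only [hb, Pi.add_apply, Pi.smul_apply, Pi.one_apply, smul_eq_mul, mul_one, ← Int.cast_add]
      rw [ZMod.intCast_eq_intCast_iff', Nat.cast_ofNat]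
      have := a1 i
      have := b1 i
      rcases Int.emod_two_eq_zero_or_one (x none) with h | h <;>
        rcases Int.emod_two_eq_zero_or_one (y none) with h' | h' <;> rw [h, h'] <;> omega
    rw [this]
    exact add_mem (add_mem a2 b2) (Submodule.smul_mem _ _ one_mem_code)
  · simp only [Pi.add_apply, sum_add_distrib]
    omega

theorem inL_neg {x : GolayPt → ℤ} (hx : InL x) : InL (-x) := by
  obtain ⟨a1, a2, a3⟩ := hx
  refine ⟨fun i => ?_, ?_, ?_⟩
  · have := a1 i
    simp only [Pi.neg_apply]
    omega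
  · have : hb (-x) = hb x + ((x none % 2 : ℤ) : ZMod 2) • 1 := by
      funext i
      simp only [hb, Pi.add_apply, Pi.neg_apply, Pi.smul_apply, Pi.one_apply, smul_eq_mul, mul_one,
        ← Int.cast_add]
      rw [ZMod.intCast_eq_intCast_iff', Nat.cast_ofNat]
      have := a1 i
      omega
    rw [this]
    exact add_mem a2 (Submodule.smul_mem _ _ one_mem_code)
  · simp only [Pi.neg_apply, sum_neg_distrib]
    omega

/-- The set `leechSet` as a subgroup. -/
def lattice : AddSubgroup (GolayPt → ℤ) where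
  carrier := {x | InL x}
  zero_mem' := inL_zero
  add_mem' := inL_add
  neg_mem' := inL_neg

theorem lattice_coe : (lattice : Set (GolayPt → ℤ)) = leechSet :=
  Set.ext fun _ => ⟨leechSet_of_inL, inL_of_leechSet⟩

theorem leechLattice_eq : leechLattice = lattice := by
  rw [leechLattice, ← lattice_coe, AddSubgroup.closure_eq]

theorem mem_leechLattice {x : GolayPt → ℤ} : x ∈ leechLattice ↔ InL x := by
  rw [leechLattice_eq]; rfl

theorem comp_mem_code {σ : Equiv.Perm GolayPt} (hσ : σ ∈ M24) {w : GolayPt → ZMod 2}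
    (hw : w ∈ golayCode) : w ∘ σ ∈ golayCode := by
  open scoped Pointwise in
  have h : σ⁻¹ • supports (golayCode : Set (GolayPt → ZMod 2)) = supports _ :=
    MulAction.mem_stabilizer_iff.1 (inv_mem hσ)
  rw [← mem_supports_iff, ← h]
  open scoped Pointwise in
  refine ⟨support₂ w, mem_supports_iff.2 hw, ?_⟩
  open scoped Pointwise in
  ext i
  rw [Finset.mem_smul_finset]
  constructor
  · rintro ⟨j, hj, rfl⟩
    rw [mem_supp] at hj ⊢
    simpa using hj
  · intro hi
    exact ⟨σ i, mem_supp.2 (show w (σ i) = 1 from (mem_supp (w := w ∘ σ)).1 hi), by simp⟩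

theorem inL_comp {σ : Equiv.Perm GolayPt} (hσ : σ ∈ M24) {x : GolayPt → ℤ} (hx : InL x) :
    InL (fun i => x (σ i)) := by
  obtain ⟨a1, a2, a3⟩ := hx
  refine ⟨fun i => (a1 _).trans (a1 _).symm, comp_mem_code hσ a2, ?_⟩
  rw [Equiv.sum_comp σ x]
  dsimp only
  have := a1 (σ none)
  omega

/-- Sum of the coordinates over the support of a code word is divisible by 4. -/
theorem four_dvd_sum_supp {x : GolayPt → ℤ} (hx : InL x) {c : GolayPt → ZMod 2}
    (hc : c ∈ golayCode) : 4 ∣ ∑ i ∈ support₂ c, x i := by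
  obtain ⟨a1, a2, -⟩ := hx
  have h4 : ∀ i, x i = x none % 2 + 2 * (if hb x i = 1 then 1 else 0) + 4 * (x i / 4) := by
    intro i
    have := a1 i
    by_cases h : hb x i = 1
    · rw [if_pos h]; rw [hb_eq_one_iff] at h; omega
    · rw [if_neg h]; rw [hb_eq_one_iff] at h; omega
  rw [sum_congr rfl fun i _ => h4 i]
  rw [sum_add_distrib, sum_add_distrib, sum_const, ← mul_sum, sum_boole, ← mul_sum]
  obtain ⟨k, hk⟩ := code_doubly_even hc
  obtain ⟨l, hl⟩ := inter_card_even hc a2
  have : (support₂ c).filter (fun i => hb x i = 1) = support₂ c ∩ support₂ (hb x) := by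
    ext i; simp [mem_supp]
  rw [this, hk, hl, nsmul_eq_mul]
  push_cast
  exact ⟨k * (x none % 2) + l + ∑ i ∈ support₂ c, x i / 4, by ring⟩

theorem inL_sign {x : GolayPt → ℤ} (hx : InL x) {c : GolayPt → ZMod 2} (hc : c ∈ golayCode) :
    InL (fun i => if i ∈ support₂ c then -x i else x i) := by
  have h4 := four_dvd_sum_supp hx hc
  obtain ⟨a1, a2, a3⟩ := hx
  refine ⟨fun i => ?_, ?_, ?_⟩
  · have := a1 i
    have := a1 none
    dsimp only
    split_ifs <;> omega
  · have : hb (fun i => if i ∈ support₂ c then -x i else x i) =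
        hb x + ((x none % 2 : ℤ) : ZMod 2) • c := by
      funext i
      simp only [hb, Pi.add_apply, Pi.smul_apply, smul_eq_mul]
      have := a1 i
      split_ifs with h
      · rw [mem_supp.1 h, mul_one, ← Int.cast_add, ZMod.intCast_eq_intCast_iff', Nat.cast_ofNat]
        omega
      · rw [mem_supp] at h
        rw [(zmod2_cases (c i)).resolve_right h, mul_zero, add_zero]
    rw [this]
    exact add_mem a2 (Submodule.smul_mem _ _ hc)
  · have hs : (∑ i, if i ∈ support₂ c then -x i else x i) =
        (∑ i, x i) - 2 * ∑ i ∈ support₂ c, x i := by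
      rw [← sum_filter_add_sum_filter_not univ (· ∈ support₂ c) x, sum_ite, sum_neg_distrib]
      rw [filter_univ_mem]
      ring
    rw [hs]
    obtain ⟨k, hk⟩ := h4
    dsimp only
    split_ifs <;> omega

/-- The lattice is even: squared norms are divisible by 16. -/
theorem sixteen_dvd_sqNorm {x : GolayPt → ℤ} (hx : InL x) : 16 ∣ sqNorm x := by
  obtain ⟨a1, a2, a3⟩ := hx
  set m := x none % 2 with hm
  set e : GolayPt → ℤ := fun i => x i / 2 with he
  have hxe : ∀ i, x i = m + 2 * e i := fun i => by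
    have := a1 i
    simp only [he, hm]
    omega
  have hsq : ∀ i, (e i ^ 2 % 4 : ℤ) = if hb x i = 1 then 1 else 0 := by
    intro i
    have hr : e i ^ 2 % 4 = (e i % 4) ^ 2 % 4 := (Int.ModEq.pow 2 (Int.mod_modEq _ _).symm)
    by_cases h : hb x i = 1
    · rw [if_pos h, hr]; rw [hb_eq_one_iff] at h
      have : e i % 4 = 1 ∨ e i % 4 = 3 := by simp only [he]; omega
      rcases this with h | h <;> rw [h] <;> norm_num
    · rw [if_neg h, hr]; rw [hb_eq_one_iff] at h
      have : e i % 4 = 0 ∨ e i % 4 = 2 := by simp only [he]; omega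
      rcases this with h | h <;> rw [h] <;> norm_num
  have hcount : 4 ∣ ∑ i, e i ^ 2 := by
    apply Int.dvd_of_emod_eq_zero
    rw [sum_int_mod, sum_congr rfl fun i _ => hsq i, sum_boole]
    obtain ⟨k, hk⟩ := code_doubly_even a2
    have : (univ.filter fun i => hb x i = 1) = support₂ (hb x) := by ext i; simp [mem_supp]
    rw [this, hk]
    push_cast
    omega
  have hs : ∑ i, x i = 24 * m + 2 * ∑ i, e i := by
    simp only [hxe, sum_add_distrib, ← mul_sum, sum_const, card_univ]
    rw [show Fintype.card GolayPt = 24 from rfl]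
    ring
  have hn : sqNorm x = 24 * m ^ 2 + 4 * m * ∑ i, e i + 4 * ∑ i, e i ^ 2 := by
    have : ∀ i, x i ^ 2 = m ^ 2 + 4 * m * e i + 4 * e i ^ 2 := fun i => by rw [hxe i]; ring
    simp only [sqNorm, this, sum_add_distrib, ← mul_sum, sum_const, card_univ]
    rw [show Fintype.card GolayPt = 24 from rfl]
    ring
  obtain ⟨k, hk⟩ := hcount
  rw [hn, hk]
  rcases Int.emod_two_eq_zero_or_one (x none) with h | h <;> rw [← hm] at h <;>
    rw [h] at hs ⊢ <;> omega

end Cfsg.Agent.Leech
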