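/-
Weight distribution of the length-24 code, by enumeration of bit masks.
-/
import Cfsg.Agent.Lib.Leech.Basic

set_option autoImplicit false

namespace Cfsg.Agent.Leech

open Cfsg Finset

/-- Bit position of a point. -/
def pos : GolayPt → ℕ
  | none => 0
  | some x => x.val + 1

/-- The word of a bit mask. -/
def toWord (n : ℕ) : GolayPt → ZMod 2 := fun p => if n.testBit (pos p) then 1 else 0

/-- All xor combinations of a list. -/
def spanMasks : List ℕ → List ℕ
  | [] => [0]
  | g :: l => spanMasks l ++ (spanMasks l).map (g ^^^ ·)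

/-- A systematic basis: each mask with the list of translates (23 for the all-ones word) adding up to it. -/
def basisData : List (ℕ × List ℕ) :=
  [(10811392, [1, 2, 6]), (16155648, [0, 2, 5, 6]), (8077824, [0, 1, 6, 8, 10]),
   (4038912, [4, 6, 7, 8, 9, 10]), (2019456, [3, 5, 6, 7, 8, 9]), (11243584, [1, 4, 5, 7, 8]),
   (15806496, [0, 1, 2, 3, 4, 7]), (14442512, [3, 4, 5, 6, 8, 10]), (7221256, [2, 3, 4, 5, 7, 9]),
   (9691140, [3, 4, 8]), (4845570, [2, 3, 7]), (13062145, [0, 2, 5, 9, 10, 23])]

/-- The masks of the code words. -/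
def masks : List ℕ := spanMasks (basisData.map Prod.fst)

/-- Number of bits below position 24. -/
def pop (n : ℕ) : ℕ := ((Finset.range 24).filter fun i => n.testBit i).card

/-- The generator words, numbered. -/
def genWord (i : ℕ) : GolayPt → ZMod 2 := if i < 23 then qrWord (i : ZMod 23) else 1

theorem basisData_ok : ∀ d ∈ basisData, ∀ p : GolayPt,
    toWord d.1 p = (d.2.map fun i => genWord i p).sum := by
  decide +kernel

theorem pos_lt (p : GolayPt) : pos p < 24 := by
  cases p with
  | none => simp [pos]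
  | some x => have := ZMod.val_lt x; simp only [pos]; omega

theorem pos_injective : Function.Injective pos := by decide +kernel

theorem pos_surj : ∀ i < 24, ∃ p, pos p = i := by decide +kernel

theorem toWord_xor (a b : ℕ) : toWord (a ^^^ b) = toWord a + toWord b := by
  funext p
  simp only [toWord, Nat.testBit_xor, Pi.add_apply]
  cases a.testBit (pos p) <;> cases b.testBit (pos p) <;> decide

theorem toWord_zero : toWord 0 = 0 := by
  funext p; simp [toWord]

theorem toWord_basis_mem {g : ℕ} (hg : g ∈ basisData.map Prod.fst) : toWord g ∈ golayCode := by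
  obtain ⟨d, hd, rfl⟩ := List.mem_map.1 hg
  have : toWord d.1 = (d.2.map genWord).sum := by
    funext p
    rw [basisData_ok d hd p]
    induction d.2 with
    | nil => rfl
    | cons a l ih => simp only [List.map_cons, List.sum_cons, Pi.add_apply, ih]
  rw [this]
  refine list_sum_mem fun w hw => ?_
  obtain ⟨i, -, rfl⟩ := List.mem_map.1 hw
  unfold genWord
  split_ifs
  · exact qrWord_mem_code _
  · exact one_mem_code

theorem spanMasks_mem_code : ∀ l : List ℕ, (∀ g ∈ l, toWord g ∈ golayCode) →
    ∀ n ∈ spanMasks l, toWord n ∈ golayCode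
  | [], _, n, hn => by
    rw [List.mem_singleton.1 hn, toWord_zero]
    exact zero_mem _
  | g :: l, h, n, hn => by
    have ih := spanMasks_mem_code l fun a ha => h a (List.mem_cons_of_mem _ ha)
    rcases List.mem_append.1 hn with hn | hn
    · exact ih n hn
    · obtain ⟨a, ha, rfl⟩ := List.mem_map.1 hn
      rw [toWord_xor]
      exact add_mem (h g List.mem_cons_self) (ih a ha)

theorem spanMasks_xor : ∀ l : List ℕ, ∀ a ∈ spanMasks l, ∀ b ∈ spanMasks l,
    a ^^^ b ∈ spanMasks l
  | [], a, ha, b, hb => by
    rw [List.mem_singleton.1 ha, List.mem_singleton.1 hb]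
    simp [spanMasks]
  | g :: l, a, ha, b, hb => by
    have ih := spanMasks_xor l
    simp only [spanMasks, List.mem_append, List.mem_map] at ha hb ⊢
    rcases ha with ha | ⟨a, ha, rfl⟩ <;> rcases hb with hb | ⟨b, hb, rfl⟩
    · exact Or.inl (ih a ha b hb)
    · exact Or.inr ⟨a ^^^ b, ih a ha b hb, by
        rw [← Nat.xor_assoc a g b, Nat.xor_comm a g, Nat.xor_assoc]⟩
    · exact Or.inr ⟨a ^^^ b, ih a ha b hb, (Nat.xor_assoc _ _ _).symm⟩
    · refine Or.inl ?_
      have : g ^^^ a ^^^ (g ^^^ b) = a ^^^ b := by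
        rw [Nat.xor_comm g a, Nat.xor_assoc, ← Nat.xor_assoc g g b, Nat.xor_self, Nat.zero_xor]
      rw [this]
      exact ih a ha b hb

/-- The combination of a basis with the prescribed coefficients. -/
def comb : List ℕ → ℕ → ℕ
  | [], _ => 0
  | g :: l, k => (if k.testBit l.length then g else 0) ^^^ comb l k

theorem comb_mem : ∀ (l : List ℕ) (k : ℕ), comb l k ∈ spanMasks l
  | [], k => by simp [comb, spanMasks]
  | g :: l, k => by
    have ih := comb_mem l k
    simp only [comb, spanMasks, List.mem_append, List.mem_map]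
    by_cases h : k.testBit l.length
    · exact Or.inr ⟨_, ih, by rw [if_pos h]⟩
    · exact Or.inl (by rwa [if_neg h, Nat.zero_xor])

/-- The systematic coordinates of the generators. -/
def genLow : List ℕ :=
  [1726, 3452, 2808, 1520, 3040, 1986, 3972, 3850, 3604, 3112, 2130, 166, 332, 664, 1330, 2662, 1228, 2458, 820, 1642, 3286, 2478, 862, 4095]

theorem gens_comb : ∀ i < 24, ∀ p : GolayPt,
    genWord i p = toWord (comb (basisData.map Prod.fst) (genLow.getD i 0)) p := by
  decide +kernel

theorem gens_in_masks (i : ℕ) (hi : i < 24) :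
    ∃ n ∈ masks, ∀ p : GolayPt, genWord i p = toWord n p :=
  ⟨_, comb_mem _ _, gens_comb i hi⟩

theorem mem_code_iff {w : GolayPt → ZMod 2} : w ∈ golayCode ↔ ∃ n ∈ masks, toWord n = w := by
  refine ⟨fun h => ?_, ?_⟩
  · induction h using Submodule.span_induction with
    | mem x hx =>
      rcases hx with ⟨t, rfl⟩ | rfl
      · obtain ⟨n, hn, e⟩ := gens_in_masks t.val ((ZMod.val_lt t).trans (by norm_num))
        refine ⟨n, hn, funext fun p => ?_⟩
        rw [← e p, genWord, if_pos (ZMod.val_lt t), ZMod.natCast_zmod_val]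
      · obtain ⟨n, hn, e⟩ := gens_in_masks 23 (by norm_num)
        exact ⟨n, hn, funext fun p => (e p).symm⟩
    | zero => exact ⟨0, by decide +kernel, toWord_zero⟩
    | add x y _ _ hx hy =>
      obtain ⟨a, ha, rfl⟩ := hx
      obtain ⟨b, hb, rfl⟩ := hy
      exact ⟨_, spanMasks_xor _ a ha b hb, toWord_xor a b⟩
    | smul c x _ hx =>
      rcases zmod2_cases c with rfl | rfl
      · exact ⟨0, by decide +kernel, by rw [zero_smul, toWord_zero]⟩
      · rwa [one_smul]
  · rintro ⟨n, hn, rfl⟩
    exact spanMasks_mem_code _ (fun g hg => toWord_basis_mem hg) n hn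

set_option maxRecDepth 100000 in
theorem masks_low : masks.map (· % 4096) = List.range 4096 := by decide +kernel

set_option maxRecDepth 100000 in
theorem masks_lt : masks.all (fun n => n < 16777216) = true := by decide +kernel

theorem masks_nodup : masks.Nodup :=
  List.Nodup.of_map _ (masks_low ▸ List.nodup_range)

theorem toWord_injOn {a b : ℕ} (ha : a ∈ masks) (hb : b ∈ masks) (h : toWord a = toWord b) :
    a = b := by
  have hlt : ∀ {n}, n ∈ masks → n < 2 ^ 24 := fun {n} hn => by
    simpa using List.all_eq_true.1 masks_lt n hn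
  refine Nat.eq_of_testBit_eq fun i => ?_
  by_cases hi : i < 24
  · obtain ⟨p, rfl⟩ := pos_surj i hi
    have := congrFun h p
    simp only [toWord] at this
    cases hA : a.testBit (pos p) <;> cases hB : b.testBit (pos p) <;> simp [hA, hB] at this ⊢
  · have hp : 2 ^ 24 ≤ 2 ^ i := Nat.pow_le_pow_right (by norm_num) (by omega)
    rw [Nat.testBit_lt_two_pow ((hlt ha).trans_le hp), Nat.testBit_lt_two_pow ((hlt hb).trans_le hp)]

theorem card_supp_toWord (n : ℕ) : (support₂ (toWord n)).card = pop n := by
  rw [pop, ← card_image_of_injective (support₂ (toWord n)) pos_injective]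
  congr 1
  ext i
  simp only [mem_image, mem_supp, toWord, mem_filter, Finset.mem_range]
  constructor
  · rintro ⟨p, hp, rfl⟩
    refine ⟨pos_lt p, ?_⟩
    by_contra hn
    simp [hn] at hp
  · rintro ⟨hi, ht⟩
    obtain ⟨p, rfl⟩ := pos_surj i hi
    exact ⟨p, by simp [ht], rfl⟩

open scoped Classical in
/-- The code words of weight `k`. -/
noncomputable def wordsWt (k : ℕ) : Finset (GolayPt → ZMod 2) :=
  univ.filter fun w => w ∈ golayCode ∧ (support₂ w).card = k

theorem mem_wordsWt {w : GolayPt → ZMod 2} {k : ℕ} :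
    w ∈ wordsWt k ↔ w ∈ golayCode ∧ (support₂ w).card = k := by
  simp [wordsWt]

theorem card_wordsWt (k : ℕ) :
    (wordsWt k).card = (masks.filter fun n => decide (pop n = k)).length := by
  rw [← List.toFinset_card_of_nodup (masks_nodup.filter _)]
  symm
  refine card_bij (fun n _ => toWord n) ?_ ?_ ?_
  · intro n hn
    simp only [List.mem_toFinset, List.mem_filter, decide_eq_true_eq] at hn
    exact mem_wordsWt.2 ⟨mem_code_iff.2 ⟨n, hn.1, rfl⟩, (card_supp_toWord n).trans hn.2⟩
  · intro a ha b hb h
    simp only [List.mem_toFinset, List.mem_filter] at ha hb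
    exact toWord_injOn ha.1 hb.1 h
  · intro w hw
    rw [mem_wordsWt] at hw
    obtain ⟨n, hn, rfl⟩ := mem_code_iff.1 hw.1
    exact ⟨n, by simp [List.mem_filter, hn, ← card_supp_toWord, hw.2], rfl⟩

set_option maxRecDepth 100000 in
theorem weights_count : (masks.filter fun n => decide (pop n = 0)).length = 1 ∧
    (masks.filter fun n => decide (pop n = 8)).length = 759 ∧
    (masks.filter fun n => decide (pop n = 12)).length = 2576 ∧
    (masks.filter fun n => decide (pop n = 16)).length = 759 ∧
    (masks.filter fun n => decide (pop n = 24)).length = 1 := by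
  decide +kernel

set_option maxRecDepth 100000 in
theorem masks_weight : masks.all (fun n => decide (pop n ∈ [0, 8, 12, 16, 24])) = true := by
  decide +kernel

/-- The weights of code words. -/
theorem code_weight {w : GolayPt → ZMod 2} (hw : w ∈ golayCode) :
    (support₂ w).card = 0 ∨ (support₂ w).card = 8 ∨ (support₂ w).card = 12 ∨
      (support₂ w).card = 16 ∨ (support₂ w).card = 24 := by
  obtain ⟨n, hn, rfl⟩ := mem_code_iff.1 hw
  simpa [card_supp_toWord] using List.all_eq_true.1 masks_weight n hn

theorem code_min_weight {w : GolayPt → ZMod 2} (hw : w ∈ golayCode) (h0 : w ≠ 0) :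
    8 ≤ (support₂ w).card := by
  rcases code_weight hw with h | h | h | h | h
  · refine absurd (supp_injective (a₁ := w) (a₂ := 0) ?_) h0
    rw [Finset.card_eq_zero.1 h]
    decide +kernel
  all_goals omega

theorem card_code : Nat.card golayCode = 4096 := by
  classical
  have h : (masks.toFinset.image toWord : Finset (GolayPt → ZMod 2)).card = 4096 := by
    rw [card_image_of_injOn (fun a ha b hb => toWord_injOn (List.mem_toFinset.1 ha)
      (List.mem_toFinset.1 hb)), List.toFinset_card_of_nodup masks_nodup,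
      ← List.length_map (· % 4096), masks_low, List.length_range]
  rw [← h, ← Nat.card_eq_finsetCard]
  exact Nat.card_congr (Equiv.subtypeEquivRight fun w => by simp [mem_code_iff])

theorem sqNorm_ge_32 {x : GolayPt → ℤ} (hx : InL x) (h0 : x ≠ 0) : 32 ≤ sqNorm x := by
  have h16 := sixteen_dvd_sqNorm hx
  obtain ⟨a1, a2, a3⟩ := hx
  have hpos : 0 < sqNorm x := by
    obtain ⟨i, hi⟩ := Function.ne_iff.1 h0
    exact Finset.sum_pos' (fun j _ => sq_nonneg _) ⟨i, mem_univ i, pow_two_pos_of_ne_zero hi⟩
  by_cases hodd : x none % 2 = 1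
  · have : ∀ i, 1 ≤ x i ^ 2 := fun i => by
      have hi : x i ≠ 0 := fun e => by have := a1 i; rw [e] at this; omega
      have := pow_two_pos_of_ne_zero hi
      omega
    have h24 : ∑ _i : GolayPt, (1 : ℤ) ≤ sqNorm x := sum_le_sum fun i _ => this i
    rw [sum_const, card_univ, show Fintype.card GolayPt = 24 from rfl] at h24
    norm_num at h24
    omega
  have heven : ∀ i, x i % 2 = 0 := fun i => by have := a1 i; omega
  have hsub : ∀ (s : Finset GolayPt), (∀ i ∈ s, 4 ≤ x i ^ 2) → 4 * (s.card : ℤ) ≤ sqNorm x := by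
    intro s hs
    calc 4 * (s.card : ℤ) = ∑ _i ∈ s, (4 : ℤ) := by simp [mul_comm]
      _ ≤ ∑ i ∈ s, x i ^ 2 := sum_le_sum hs
      _ ≤ sqNorm x := sum_le_sum_of_subset_of_nonneg (subset_univ s) fun _ _ _ => sq_nonneg _
  by_cases hc : hb x = 0
  · have h4 : ∀ i, x i % 4 = 0 := fun i => by
      have := heven i
      have := hb_eq_zero_iff.1 (congrFun hc i)
      omega
    obtain ⟨i, hi⟩ := Function.ne_iff.1 h0
    by_cases hj : ∃ j, j ≠ i ∧ x j ≠ 0
    · obtain ⟨j, hji, hj⟩ := hj
      have hq : ∀ k, x k ≠ 0 → 16 ≤ x k ^ 2 := fun k hk => by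
        obtain ⟨l, hl⟩ := Int.dvd_of_emod_eq_zero (h4 k)
        rw [hl] at hk ⊢
        have : l ≠ 0 := fun e => hk (by rw [e, mul_zero])
        nlinarith [pow_two_pos_of_ne_zero this]
      have h2 : ∑ k ∈ ({i, j} : Finset GolayPt), x k ^ 2 ≤ sqNorm x :=
        sum_le_sum_of_subset_of_nonneg (subset_univ _) fun _ _ _ => sq_nonneg _
      rw [sum_pair hji.symm] at h2
      linarith [hq i hi, hq j hj]
    · push Not at hj
      have hs : ∑ k, x k = x i := Fintype.sum_eq_single i fun k hk => hj k hk
      have hn : sqNorm x = x i ^ 2 := Fintype.sum_eq_single i fun k hk => by rw [hj k hk]; norm_num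
      obtain ⟨l, hl⟩ : 8 ∣ x i := by
        rw [hs] at a3
        have := heven none
        omega
      have hl0 : l ≠ 0 := fun e => hi (by rw [hl, e, mul_zero]; rfl)
      rw [hn, hl]
      nlinarith [pow_two_pos_of_ne_zero hl0]
  · have h := code_min_weight a2 hc
    have h' := hsub (support₂ (hb x)) fun i hi => by
      rw [mem_supp, hb_eq_one_iff] at hi
      have hne : x i ≠ 0 := fun e => by rw [e] at hi; norm_num at hi
      obtain ⟨l, hl⟩ := Int.dvd_of_emod_eq_zero (heven i)
      rw [hl] at hne ⊢
      have : l ≠ 0 := fun e => hne (by rw [e, mul_zero])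
      nlinarith [pow_two_pos_of_ne_zero this]
    omega

end Cfsg.Agent.Leech
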