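/-
Counting lattice vectors of small norm by parity and code word.
-/
import Cfsg.Agent.Lib.Leech.CodeWeights

set_option autoImplicit false

namespace Cfsg.Agent.Leech

open Cfsg Finset

/-- Number of sequences with entries in the given lists, squares summing to `N`, entries to `s` mod 8. -/
def cnt : List (List ℤ) → ℕ → ℤ → ℕ
  | [], N, s => if N = 0 ∧ s % 8 = 0 then 1 else 0
  | A :: l, N, s => (A.map fun v => if v.natAbs ^ 2 ≤ N then cnt l (N - v.natAbs ^ 2) (s - v) else 0).sum

theorem cnt_perm {l l' : List (List ℤ)} (h : l.Perm l') : ∀ N s, cnt l N s = cnt l' N s := by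
  induction h with
  | nil => intro _ _; rfl
  | cons A _ ih => intro N s; simp only [cnt, ih]
  | swap A B l =>
    intro N s
    simp only [cnt]
    have comm : ∀ (X Y : List ℤ) (g : ℤ → ℤ → ℕ),
        (X.map fun v => (Y.map fun u => g v u).sum).sum =
          (Y.map fun u => (X.map fun v => g v u).sum).sum := by
      intro X Y g
      induction X with
      | nil => simp
      | cons x X ih => simp only [List.map_cons, List.sum_cons, ih, List.sum_map_add]
    have push : ∀ (c : Prop) [Decidable c] (Y : List ℤ) (f : ℤ → ℕ),
        (if c then (Y.map f).sum else 0) = (Y.map fun u => if c then f u else 0).sum := by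
      intro c _ Y f
      by_cases h : c
      · simp only [if_pos h]
      · simp only [if_neg h]; simp
    simp only [push]
    rw [comm B A]
    refine congrArg List.sum (List.map_congr_left fun u _ => ?_)
    refine congrArg List.sum (List.map_congr_left fun v _ => ?_)
    rw [← ite_and, ← ite_and]
    refine if_congr (by omega) ?_ rfl
    rw [Nat.sub_sub, Nat.sub_sub, add_comm, sub_sub, sub_sub, add_comm v u]
  | trans _ _ ih ih' => intro N s; rw [ih, ih']

/-- Vectors with entries in given lists, with the two conditions. -/
def boxSet {n : ℕ} (A : Fin n → List ℤ) (N : ℕ) (s : ℤ) : Finset (Fin n → ℤ) :=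
  (Fintype.piFinset fun i => (A i).toFinset).filter fun x =>
    ∑ i, (x i).natAbs ^ 2 = N ∧ (∑ i, x i - s) % 8 = 0

theorem card_boxSet : ∀ {n : ℕ} (A : Fin n → List ℤ), (∀ i, (A i).Nodup) → ∀ (N : ℕ) (s : ℤ),
    (boxSet A N s).card = cnt (List.ofFn A) N s
  | 0, A, _, N, s => by
    rw [List.ofFn_zero, cnt, boxSet, card_filter, Fintype.piFinset_of_isEmpty, univ_unique,
      sum_singleton]
    simp only [univ_eq_empty, sum_empty]
    exact if_congr (by constructor <;> rintro ⟨h1, h2⟩ <;> exact ⟨h1.symm, by omega⟩) rfl rfl
  | n + 1, A, hA, N, s => by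
    rw [List.ofFn_succ, cnt, ← List.sum_toFinset _ (hA 0)]
    rw [boxSet]
    rw [card_eq_sum_card_fiberwise (f := fun x : Fin (n + 1) → ℤ => x 0) (t := (A 0).toFinset)
      (fun x hx => Fintype.mem_piFinset.1 (mem_filter.1 hx).1 0)]
    refine sum_congr rfl fun v hv => ?_
    split_ifs with hv2
    · rw [← card_boxSet (fun i => A i.succ) (fun i => hA _)]
      refine card_bij' (fun x _ i => x i.succ) (fun y _ => Fin.cons v y) ?_ ?_ ?_ ?_
      · intro x hx
        simp only [boxSet, mem_filter, Fintype.mem_piFinset, Fin.sum_univ_succ] at hx ⊢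
        obtain ⟨⟨hp, h1, h2⟩, rfl⟩ := hx
        exact ⟨fun i => hp i.succ, by omega, by omega⟩
      · intro y hy
        simp only [boxSet, mem_filter, Fintype.mem_piFinset, Fin.sum_univ_succ, Fin.cons_succ,
          Fin.cons_zero, Fin.forall_fin_succ] at hy ⊢
        obtain ⟨hp, h1, h2⟩ := hy
        exact ⟨⟨⟨hv, hp⟩, by omega, by omega⟩, trivial⟩
      · intro x hx
        obtain ⟨-, rfl⟩ := mem_filter.1 hx
        exact Fin.cons_self_tail x
      · intro y _
        funext i
        simp
    · rw [card_eq_zero]
      refine eq_empty_of_forall_notMem fun x hx => hv2 ?_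
      simp only [boxSet, mem_filter] at hx
      rw [← hx.2, ← hx.1.2.1]
      exact single_le_sum (f := fun i => (x i).natAbs ^ 2) (fun _ _ => Nat.zero_le _) (mem_univ 0)

/-- Shift of a row by `k`, keeping 65 entries. -/
def shiftRow (k : ℕ) (r : List ℕ) : List ℕ := (List.replicate k 0 ++ r).take 65

/-- Pointwise sum of rows. -/
def addRow : List ℕ → List ℕ → List ℕ := List.zipWith (· + ·)

/-- New row. -/
def rowOf (T : List (List ℕ)) (s : ℕ) : List ℤ → List ℕ
  | [] => List.replicate 65 0
  | v :: A => addRow (shiftRow (v.natAbs ^ 2) (T.getD (((s : ℤ) - v) % 8).toNat [])) (rowOf T s A)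

/-- Table of `cnt` for `N ≤ 64`. -/
def tbl : List (List ℤ) → List (List ℕ)
  | [] => (List.range 8).map fun s => (if s = 0 then 1 else 0) :: List.replicate 64 0
  | A :: l => (List.range 8).map fun s => rowOf (tbl l) s A

theorem tbl_spec : ∀ l : List (List ℤ), ∀ s < 8, ∃ r, (tbl l).getD s [] = r ∧ r.length = 65 ∧
    ∀ N < 65, r.getD N 0 = cnt l N (s : ℤ)
  | [], s, hs => by
    refine ⟨_, rfl, ?_, ?_⟩
    · simp [tbl, List.getD_eq_getElem?_getD, List.getElem?_map, List.getElem?_range hs]
    · intro N hN
      simp only [tbl, List.getD_eq_getElem?_getD, List.getElem?_map, List.getElem?_range hs,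
        Option.map_some, Option.getD_some, cnt]
      rcases N with _ | N
      · simp only [List.getElem?_cons_zero, Option.getD_some, true_and]
        exact if_congr (by omega) rfl rfl
      · rw [List.getElem?_cons_succ, List.getElem?_replicate, if_pos (by omega), Option.getD_some,
          if_neg (by omega)]
  | A :: l, s, hs => by
    have ih := tbl_spec l
    have hper : ∀ (t : ℤ) N, cnt l N t = cnt l N ((t % 8).toNat : ℤ) := by
      have : ∀ (l : List (List ℤ)) (t t' : ℤ) N, t % 8 = t' % 8 → cnt l N t = cnt l N t' := by
        intro l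
        induction l with
        | nil => intro t t' N h; simp only [cnt, h]
        | cons B l ihl =>
          intro t t' N h
          simp only [cnt]
          refine congrArg List.sum (List.map_congr_left fun v _ => ?_)
          split_ifs
          · exact ihl _ _ _ (by omega)
          · rfl
      intro t N
      exact this l _ _ N (by omega)
    have hrow : ∀ B : List ℤ, (rowOf (tbl l) s B).length = 65 ∧ ∀ N < 65,
        (rowOf (tbl l) s B).getD N 0 =
          (B.map fun v => if v.natAbs ^ 2 ≤ N then cnt l (N - v.natAbs ^ 2) ((s : ℤ) - v) else 0).sum := by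
      intro B
      induction B with
      | nil =>
        refine ⟨List.length_replicate, fun N hN => ?_⟩
        simp only [rowOf, List.getD_eq_getElem?_getD, List.getElem?_replicate, if_pos hN, List.map_nil, List.sum_nil, Option.getD_some]
      | cons v B ihB =>
        obtain ⟨r, hr, hrl, hrc⟩ := ih (((s : ℤ) - v) % 8).toNat (by omega)
        have hl1 : (shiftRow (v.natAbs ^ 2) r).length = 65 := by
          simp [shiftRow, hrl]
        refine ⟨?_, fun N hN => ?_⟩
        · simp only [rowOf, addRow, hr, List.length_zipWith, hl1, ihB.1, min_self]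
        · have h2 := ihB.2 N hN
          rw [List.map_cons, List.sum_cons, ← h2]
          simp only [rowOf, addRow, hr, List.getD_eq_getElem?_getD]
          rw [List.getElem?_zipWith, List.getElem?_eq_getElem (show N < _ by rw [hl1]; exact hN),
            List.getElem?_eq_getElem (show N < _ by rw [ihB.1]; exact hN)]
          simp only [Option.getD_some, Option.map_some, Option.bind_some]
          congr 1
          simp only [shiftRow, List.getElem_take, List.getElem_append, List.length_replicate,
            List.getElem_replicate]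
          split_ifs with h1 h2 <;> first | omega | rfl | skip
          all_goals
            have h3 := hrc (N - v.natAbs ^ 2) (by omega)
            rw [List.getD_eq_getElem _ _ (show N - v.natAbs ^ 2 < r.length by omega)] at h3
            rw [h3, hper ((s : ℤ) - v)]
    refine ⟨_, rfl, ?_, ?_⟩
    · simp [tbl, List.getD_eq_getElem?_getD, List.getElem?_map, List.getElem?_range hs, (hrow A).1]
    · intro N hN
      simp only [tbl, cnt]
      simp only [List.getD_eq_getElem?_getD, List.getElem?_map, List.getElem?_range hs,
        Option.map_some, Option.getD_some]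
      rw [← List.getD_eq_getElem?_getD]
      exact (hrow A).2 N hN

theorem cnt_eq_tbl (l : List (List ℤ)) {N : ℕ} (hN : N < 65) {s : ℕ} (hs : s < 8) :
    cnt l N (s : ℤ) = ((tbl l).getD s []).getD N 0 := by
  obtain ⟨r, hr, -, hc⟩ := tbl_spec l s hs
  rw [hr, hc N hN]

open scoped Classical in
theorem ncard_parity_vectors (m : ℕ) (a b : List ℤ) (ha : a.Nodup) (hb' : b.Nodup)
    (ham : ∀ v ∈ a, v % 2 = m ∧ v / 2 % 2 = 1) (hbm : ∀ v ∈ b, v % 2 = m ∧ v / 2 % 2 = 0) (N : ℕ) :
    {x : GolayPt → ℤ | InL x ∧ (∀ i, x i ∈ a ∨ x i ∈ b) ∧ sqNorm x = N}.ncard =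
      ∑ w ∈ ([0, 8, 12, 16, 24] : List ℕ).toFinset, (wordsWt w).card *
        cnt (List.replicate w a ++ List.replicate (24 - w) b) N (4 * m) := by
  obtain ⟨e⟩ : Nonempty (GolayPt ≃ Fin 24) :=
    ⟨Fintype.equivFinOfCardEq (show Fintype.card GolayPt = 24 from rfl)⟩
  let lab : (GolayPt → ZMod 2) → GolayPt → List ℤ := fun c i => if c i = 1 then a else b
  let fib : (GolayPt → ZMod 2) → Finset (Fin 24 → ℤ) :=
    fun c => boxSet (fun j => lab c (e.symm j)) N (4 * m)
  let code : Finset (GolayPt → ZMod 2) := univ.filter (· ∈ golayCode)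
  have hfib : ∀ c ∈ code, ∀ y ∈ fib c,
      (fun i => y (e i)) ∈ {x : GolayPt → ℤ | InL x ∧ (∀ i, x i ∈ a ∨ x i ∈ b) ∧ sqNorm x = N} ∧
      hb (fun i => y (e i)) = c := by
    intro c hc y hy
    simp only [fib, lab, boxSet, mem_filter, Fintype.mem_piFinset, List.mem_toFinset] at hy
    obtain ⟨hp, h1, h2⟩ := hy
    have hp' : ∀ i, y (e i) ∈ lab c i := fun i => by simpa [lab] using hp (e i)
    have hpar : ∀ i, y (e i) % 2 = m := fun i => by
      have := hp' i
      simp only [lab] at this
      split_ifs at this
      · exact (ham _ this).1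
      · exact (hbm _ this).1
    have hh : hb (fun i => y (e i)) = c := by
      funext i
      have := hp' i
      simp only [lab] at this
      split_ifs at this with hci
      · rw [hci, hb_eq_one_iff]; exact (ham _ this).2
      · rw [(zmod2_cases (c i)).resolve_right hci, hb_eq_zero_iff]; exact (hbm _ this).2
    refine ⟨⟨⟨fun i => (hpar i).trans (hpar none).symm, ?_, ?_⟩, fun i => ?_, ?_⟩, hh⟩
    · rw [hh]; exact (mem_filter.1 hc).2
    · rw [Equiv.sum_comp e y]
      have := hpar none
      dsimp only
      omega
    · have := hp' i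
      simp only [lab] at this
      split_ifs at this
      · exact Or.inl this
      · exact Or.inr this
    · rw [sqNorm, Equiv.sum_comp e (fun j => y j ^ 2), ← h1]
      push_cast
      exact sum_congr rfl fun j _ => (sq_abs _).symm
  have hset : {x : GolayPt → ℤ | InL x ∧ (∀ i, x i ∈ a ∨ x i ∈ b) ∧ sqNorm x = N} =
      ↑((code.sigma fib).image fun p => fun i => p.2 (e i)) := by
    ext x
    simp only [coe_image, Set.mem_image, mem_coe, mem_sigma]
    constructor
    · rintro ⟨hx, hab, hn⟩
      refine ⟨⟨hb x, fun j => x (e.symm j)⟩, ⟨by simp [code, hx.2.1], ?_⟩, by simp⟩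
      simp only [fib, lab, boxSet, mem_filter, Fintype.mem_piFinset, List.mem_toFinset]
      refine ⟨fun j => ?_, ?_, ?_⟩
      · rcases hab (e.symm j) with h | h
        · rw [if_pos (hb_eq_one_iff.2 (ham _ h).2)]; exact h
        · rw [if_neg (by rw [hb_eq_zero_iff.2 (hbm _ h).2]; decide)]; exact h
      · rw [Equiv.sum_comp e.symm (fun i => (x i).natAbs ^ 2), ← Nat.cast_inj (R := ℤ), ← hn, sqNorm]
        push_cast
        exact sum_congr rfl fun j _ => sq_abs _
      · have h3 := hx.2.2
        have hm : x none % 2 = m := by
          rcases hab none with h | h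
          · exact (ham _ h).1
          · exact (hbm _ h).1
        rw [Equiv.sum_comp e.symm x]
        omega
    · rintro ⟨⟨c, y⟩, ⟨hc, hy⟩, rfl⟩
      exact (hfib c hc y hy).1
  rw [hset, Set.ncard_coe_finset, card_image_of_injOn, card_sigma,
    ← sum_fiberwise_of_maps_to (g := fun c => (support₂ c).card)
      (t := ([0, 8, 12, 16, 24] : List ℕ).toFinset)]
  · refine sum_congr rfl fun w _ => ?_
    have hW : code.filter (fun c => (support₂ c).card = w) = wordsWt w := by
      ext c; simp [code, mem_wordsWt]
    rw [hW]
    refine sum_const_nat fun c hc => ?_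
    rw [mem_wordsWt] at hc
    rw [card_boxSet _ (fun j => by simp only [lab]; split_ifs <;> assumption)]
    apply cnt_perm
    rw [← Multiset.coe_eq_coe, ← Multiset.coe_add, Multiset.coe_replicate, Multiset.coe_replicate]
    have h1 : ((List.ofFn fun j => lab c (e.symm j)) : Multiset (List ℤ)) =
        univ.val.map (lab c) := by
      rw [← Fin.univ_val_map, ← Finset.map_univ_equiv e.symm, map_val, Multiset.map_map]
      rfl
    rw [h1, ← Multiset.filter_add_not (fun i => c i = 1) (univ : Finset GolayPt).val, Multiset.map_add]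
    have hcard : (support₂ c).card + (univ.filter fun i => ¬ c i = 1).card = 24 := by
      rw [show support₂ c = univ.filter fun i => c i = 1 by ext i; simp [mem_supp],
        card_filter_add_card_filter_not]
      rfl
    congr 1
    · rw [Multiset.map_congr rfl (g := fun _ => a) fun i hi => if_pos (Multiset.mem_filter.1 hi).2,
        Multiset.map_const', ← filter_val]
      congr 1
      rw [← hc.2]
      exact congrArg card (by ext i; simp [mem_supp])
    · rw [Multiset.map_congr rfl (g := fun _ => b) fun i hi => if_neg (Multiset.mem_filter.1 hi).2,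
        Multiset.map_const', ← filter_val]
      congr 1
      change (univ.filter fun i => ¬ c i = 1).card = _
      omega
  · intro c hc
    rcases code_weight (mem_filter.1 hc).2 with h | h | h | h | h <;> simp [h]
  · rintro ⟨c, y⟩ hp ⟨c', y'⟩ hp' h
    rw [mem_coe, mem_sigma] at hp hp'
    have hc := (hfib c hp.1 y hp.2).2
    have hc' := (hfib c' hp'.1 y' hp'.2).2
    dsimp only at h
    obtain rfl : c = c' := by rw [← hc, ← hc', h]
    congr
    funext j
    simpa using congrFun h (e.symm j)

end Cfsg.Agent.Leech
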