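/-
Sizes of the shells of norm 32, 48, 64, with their shapes.
-/
import Cfsg.Agent.Lib.Leech.Count

set_option autoImplicit false

namespace Cfsg.Agent.Leech

open Cfsg Finset

/-- The value of the weighted count, from the table. -/
def shellVal (m : ℕ) (a b : List ℤ) (N : ℕ) : ℕ :=
  let f := fun w => ((tbl (List.replicate w a ++ List.replicate (24 - w) b)).getD ((4 * m) % 8) []).getD N 0
  f 0 + 759 * f 8 + 2576 * f 12 + 759 * f 16 + f 24

theorem ncard_shell (m : ℕ) (hm : m < 2) (a b : List ℤ) (ha : a.Nodup) (hb' : b.Nodup)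
    (ham : ∀ v ∈ a, v % 2 = m ∧ v / 2 % 2 = 1) (hbm : ∀ v ∈ b, v % 2 = m ∧ v / 2 % 2 = 0)
    {N : ℕ} (hN : N < 65) :
    {x : GolayPt → ℤ | InL x ∧ (∀ i, x i ∈ a ∨ x i ∈ b) ∧ sqNorm x = N}.ncard = shellVal m a b N := by
  rw [ncard_parity_vectors m a b ha hb' ham hbm N]
  obtain ⟨h0, h8, h12, h16, h24⟩ := weights_count
  have hcast : (4 * (m : ℤ)) = ((4 * m % 8 : ℕ) : ℤ) := by omega
  simp only [List.toFinset_cons, List.toFinset_nil]
  rw [sum_insert (by decide), sum_insert (by decide), sum_insert (by decide), sum_insert (by decide),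
    sum_insert (by decide), sum_empty]
  simp only [card_wordsWt, h0, h8, h12, h16, h24, shellVal, hcast,
    cnt_eq_tbl _ hN (show 4 * m % 8 < 8 by omega), one_mul, add_zero]
  ring

/-- Even coordinate values, second digit 1 / 0. -/
def evA : List ℤ := [-6, -2, 2, 6]
@[inherit_doc evA] def evB : List ℤ := [-8, -4, 0, 4, 8]
/-- Odd coordinate values, second digit 1 / 0. -/
def odA : List ℤ := [-5, -1, 3, 7]
@[inherit_doc odA] def odB : List ℤ := [-7, -3, 1, 5]

theorem shell_values :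
    [shellVal 0 evA evB 32, shellVal 1 odA odB 32, shellVal 0 evA evB 48, shellVal 1 odA odB 48,
      shellVal 0 evA evB 64, shellVal 1 odA odB 64, shellVal 0 [-2, 2] [0] 48,
      shellVal 0 [-2, 2] [-4, 0, 4] 48, shellVal 1 [-1, 3] [-3, 1] 48,
      shellVal 1 [-5, -1, 3] [-3, 1, 5] 48] =
    [98256, 98304, 8384512, 8388608, 199066704, 198967296, 5275648, 8384512, 8290304, 8388608] := by
  decide +kernel

/-- The even / odd vectors of norm `N`. -/
def evenShell (N : ℕ) : Set (GolayPt → ℤ) :=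
  {x | InL x ∧ (∀ i, x i ∈ evA ∨ x i ∈ evB) ∧ sqNorm x = N}
@[inherit_doc evenShell] def oddShell (N : ℕ) : Set (GolayPt → ℤ) :=
  {x | InL x ∧ (∀ i, x i ∈ odA ∨ x i ∈ odB) ∧ sqNorm x = N}

theorem coord_bound {x : GolayPt → ℤ} (h : sqNorm x ≤ 64) (i : GolayPt) : -8 ≤ x i ∧ x i ≤ 8 := by
  have : x i ^ 2 ≤ 64 :=
    le_trans (Finset.single_le_sum (f := fun j => x j ^ 2) (fun _ _ => sq_nonneg _) (mem_univ i)) h
  constructor <;> nlinarith

theorem shell_mem {x : GolayPt → ℤ} (hx : InL x) {N : ℕ} (hN : N ≤ 64) (hn : sqNorm x = N) :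
    (x none % 2 = 0 ∧ x ∈ evenShell N) ∨ (x none % 2 = 1 ∧ x ∈ oddShell N) := by
  have hb := coord_bound (x := x) (by rw [hn]; exact_mod_cast hN)
  rcases Int.emod_two_eq_zero_or_one (x none) with h | h
  · refine Or.inl ⟨h, hx, fun i => ?_, hn⟩
    have hp := hx.1 i
    obtain ⟨h1, h2⟩ := hb i
    interval_cases (x i) <;> first | decide | omega
  · refine Or.inr ⟨h, hx, fun i => ?_, hn⟩
    have hp := hx.1 i
    obtain ⟨h1, h2⟩ := hb i
    interval_cases (x i) <;> first | decide | omega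

theorem evenShell_parity {N : ℕ} {x : GolayPt → ℤ} (hx : x ∈ evenShell N) : x none % 2 = 0 := by
  rcases hx.2.1 none with h | h <;> simp only [evA, evB, List.mem_cons, List.not_mem_nil, or_false] at h <;> omega

theorem oddShell_parity {N : ℕ} {x : GolayPt → ℤ} (hx : x ∈ oddShell N) : x none % 2 = 1 := by
  rcases hx.2.1 none with h | h <;> simp only [odA, odB, List.mem_cons, List.not_mem_nil, or_false] at h <;> omega

theorem shell_eq {N : ℕ} (hN : N ≤ 64) :
    {x : GolayPt → ℤ | x ∈ leechLattice ∧ sqNorm x = N} = evenShell N ∪ oddShell N := by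
  ext x
  constructor
  · rintro ⟨hx, hn⟩
    rcases shell_mem (mem_leechLattice.1 hx) hN hn with h | h
    · exact Or.inl h.2
    · exact Or.inr h.2
  · rintro (h | h) <;> exact ⟨mem_leechLattice.2 h.1, h.2.2⟩

theorem shell_finite {N : ℕ} (hN : N ≤ 64) :
    {x : GolayPt → ℤ | InL x ∧ sqNorm x = N}.Finite := by
  refine (Set.Finite.pi' fun _ : GolayPt => (Set.finite_Icc (-8 : ℤ) 8)).subset
    fun x hx i => coord_bound (by rw [hx.2]; exact_mod_cast hN) i

theorem ncard_evenShell {N : ℕ} (hN : N < 65) : (evenShell N).ncard = shellVal 0 evA evB N :=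
  ncard_shell 0 (by norm_num) _ _ (by decide) (by decide) (by decide) (by decide) hN

theorem ncard_oddShell {N : ℕ} (hN : N < 65) : (oddShell N).ncard = shellVal 1 odA odB N :=
  ncard_shell 1 (by norm_num) _ _ (by decide) (by decide) (by decide) (by decide) hN

theorem ncard_shell_total {N : ℕ} (hN : N ≤ 64) :
    {x : GolayPt → ℤ | x ∈ leechLattice ∧ sqNorm x = N}.ncard =
      shellVal 0 evA evB N + shellVal 1 odA odB N := by
  rw [shell_eq hN, Set.ncard_union_eq ?_ ((shell_finite hN).subset fun x hx => ⟨hx.1, hx.2.2⟩)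
    ((shell_finite hN).subset fun x hx => ⟨hx.1, hx.2.2⟩), ncard_evenShell (by omega),
    ncard_oddShell (by omega)]
  refine Set.disjoint_left.2 fun x h h' => ?_
  have := evenShell_parity h
  have := oddShell_parity h'
  omega

end Cfsg.Agent.Leech
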