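/-
Index, generation by minimal vectors, and classes modulo 2 of the Leech lattice.
-/
import Cfsg.Agent.Lib.Leech.Shells

set_option autoImplicit false

namespace Cfsg.Agent.Leech

open Cfsg Finset

theorem sqNorm_add (x y : GolayPt → ℤ) : sqNorm (x + y) = sqNorm x + 2 * dotInt x y + sqNorm y := by
  simp only [sqNorm, dotInt, mul_sum, ← sum_add_distrib, Pi.add_apply]
  exact sum_congr rfl fun i _ => by ring

theorem sqNorm_sub (x y : GolayPt → ℤ) : sqNorm (x - y) = sqNorm x - 2 * dotInt x y + sqNorm y := by
  simp only [sqNorm, dotInt, mul_sum, ← sum_add_distrib, ← sum_sub_distrib, Pi.sub_apply]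
  exact sum_congr rfl fun i _ => by ring

theorem sqNorm_two_nsmul (x : GolayPt → ℤ) : sqNorm (2 • x) = 4 * sqNorm x := by
  simp only [sqNorm, mul_sum, Pi.smul_apply, nsmul_eq_mul]
  exact sum_congr rfl fun i _ => by push_cast; ring

/-- Short congruent vectors: equal, opposite, or orthogonal of norm 64. -/
theorem congr_short {x y z : GolayPt → ℤ} (hy : InL y) (hz : InL z) (hxn : sqNorm x ≤ 64)
    (hyn : sqNorm y ≤ 64) (h : x - y = 2 • z) :
    x = y ∨ x = -y ∨ (sqNorm x = 64 ∧ sqNorm y = 64 ∧ dotInt x y = 0) := by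
  by_cases hz0 : z = 0
  · left
    rw [hz0, smul_zero, sub_eq_zero] at h
    exact h
  by_cases hzy : z + y = 0
  · right; left
    rw [eq_neg_of_add_eq_zero_left hzy] at h
    rw [sub_eq_iff_eq_add] at h
    rw [h]
    funext i
    simp
    ring
  right; right
  have h' : x + y = 2 • (z + y) := by
    rw [smul_add, ← h, two_nsmul]
    abel
  have a := sqNorm_ge_32 hz hz0
  have b := sqNorm_ge_32 (inL_add hz hy) hzy
  have e1 := sqNorm_sub x y
  have e2 := sqNorm_add x y
  rw [h, sqNorm_two_nsmul] at e1
  rw [h', sqNorm_two_nsmul] at e2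
  omega

/-- At most 48 vectors of norm 64, pairwise equal, opposite or orthogonal. -/
theorem frame_bound (S : Finset (GolayPt → ℤ)) (hn : ∀ v ∈ S, sqNorm v = 64)
    (h : ∀ v ∈ S, ∀ u ∈ S, v = u ∨ v = -u ∨ dotInt v u = 0) : S.card ≤ 48 := by
  classical
  have hcoord : ∀ i, ∑ v ∈ S, v i ^ 2 ≤ 128 := by
    intro i
    set T := ∑ v ∈ S, v i ^ 2 with hT
    set w : GolayPt → ℤ := fun j => ∑ v ∈ S, v i * v j with hw
    have hwi : w i = T := by simp only [hw, hT]; exact sum_congr rfl fun v _ => by ring
    have h1 : w i ^ 2 ≤ sqNorm w :=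
      Finset.single_le_sum (f := fun j => w j ^ 2) (fun _ _ => sq_nonneg _) (mem_univ i)
    have h2 : sqNorm w = ∑ v ∈ S, ∑ u ∈ S, v i * u i * dotInt v u := by
      have e1 : ∀ j, w j ^ 2 = ∑ v ∈ S, ∑ u ∈ S, v i * u i * (v j * u j) := fun j => by
        simp only [hw, sq]
        rw [sum_mul_sum]
        exact sum_congr rfl fun v _ => sum_congr rfl fun u _ => by ring
      simp only [sqNorm, e1, dotInt, mul_sum]
      rw [sum_comm]
      exact sum_congr rfl fun v _ => sum_comm
    have hdd : ∀ v ∈ S, dotInt v v = 64 := fun v hv => by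
      rw [← hn v hv]; exact sum_congr rfl fun j _ => (sq _).symm
    have h3 : ∀ v ∈ S, ∑ u ∈ S, v i * u i * dotInt v u ≤ 128 * v i ^ 2 := by
      intro v hv
      calc ∑ u ∈ S, v i * u i * dotInt v u
          = ∑ u ∈ S.filter (fun u => u = v ∨ u = -v), v i * u i * dotInt v u := by
            symm
            refine sum_subset (filter_subset _ _) fun u hu hu' => ?_
            rcases h v hv u hu with rfl | e | e
            · exact absurd (mem_filter.2 ⟨hu, Or.inl rfl⟩) hu'
            · exact absurd (mem_filter.2 ⟨hu, Or.inr (by rw [e, neg_neg])⟩) hu'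
            · rw [e, mul_zero]
        _ = ∑ _u ∈ S.filter (fun u => u = v ∨ u = -v), 64 * v i ^ 2 := by
            refine sum_congr rfl fun u hu => ?_
            rcases (mem_filter.1 hu).2 with rfl | rfl
            · rw [hdd _ hv]; ring
            · have : dotInt v (-v) = -64 := by
                rw [← hdd v hv]; simp [dotInt]
              rw [this, Pi.neg_apply]; ring
        _ ≤ 128 * v i ^ 2 := by
            rw [sum_const, nsmul_eq_mul]
            have hc : ((S.filter (fun u => u = v ∨ u = -v)).card : ℤ) ≤ 2 := by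
              exact_mod_cast (card_le_card (t := {v, -v}) fun u hu => by
                rcases (mem_filter.1 hu).2 with rfl | rfl <;> simp).trans card_le_two
            nlinarith [sq_nonneg (v i)]
    have h4 : sqNorm w ≤ 128 * T := by
      rw [h2, hT, mul_sum]
      exact sum_le_sum h3
    rw [hwi] at h1
    nlinarith
  have h5 : ∑ v ∈ S, sqNorm v ≤ 24 * 128 := by
    simp only [sqNorm]
    rw [sum_comm]
    calc ∑ i, ∑ v ∈ S, v i ^ 2 ≤ ∑ _i : GolayPt, (128 : ℤ) := sum_le_sum fun i _ => hcoord i
      _ = 24 * 128 := by rw [sum_const, card_univ, show Fintype.card GolayPt = 24 from rfl]; rfl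
  rw [sum_congr rfl hn, sum_const, nsmul_eq_mul] at h5
  omega

/-- Reduction mod 2. -/
def red2 : (GolayPt → ℤ) →+ (GolayPt → ZMod 2) where
  toFun e := fun i => (e i : ZMod 2)
  map_zero' := by funext i; simp
  map_add' a b := by funext i; simp

/-- Doubling. -/
def dbl : (GolayPt → ℤ) →+ (GolayPt → ℤ) := nsmulAddMonoidHom 2

theorem dbl_apply (x : GolayPt → ℤ) (i : GolayPt) : dbl x i = 2 * x i := by
  simp [dbl, nsmul_eq_mul]

theorem red2_surjective : Function.Surjective red2 := fun w =>
  ⟨fun i => ((w i).val : ℤ), funext fun i => by simp [red2]⟩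

theorem dbl_injective : Function.Injective dbl := fun a b h => funext fun i => by
  have := congrFun h i
  rw [dbl_apply, dbl_apply] at this
  omega

theorem index_range_dbl : dbl.range.index = 2 ^ 24 := by
  have : dbl.range = red2.ker := by
    ext x
    simp only [AddMonoidHom.mem_range, AddMonoidHom.mem_ker, funext_iff, red2, AddMonoidHom.coe_mk,
      ZeroHom.coe_mk, Pi.zero_apply, ZMod.intCast_zmod_eq_zero_iff_dvd, dbl_apply]
    exact ⟨fun ⟨y, hy⟩ i => ⟨y i, (hy i).symm⟩,
      fun h => ⟨fun i => x i / 2, fun i => Int.mul_ediv_cancel' (h i)⟩⟩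
  rw [this, AddSubgroup.index_ker, AddMonoidHom.range_eq_top_of_surjective _ red2_surjective,
    Nat.card_congr AddSubgroup.topEquiv.toEquiv, Nat.card_eq_fintype_card, Fintype.card_fun]
  rfl

/-- Preimage of the code. -/
def codeLift : AddSubgroup (GolayPt → ℤ) := golayCode.toAddSubgroup.comap red2

theorem index_codeLift : codeLift.index = 2 ^ 12 := by
  rw [codeLift, AddSubgroup.index_comap_of_surjective _ red2_surjective]
  have h := AddSubgroup.card_mul_index golayCode.toAddSubgroup
  have hc : Nat.card golayCode.toAddSubgroup = 4096 := card_code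
  rw [hc, Nat.card_eq_fintype_card, Fintype.card_fun,
    show Fintype.card GolayPt = 24 from rfl, show Fintype.card (ZMod 2) = 2 from rfl] at h
  omega

/-- Halves of the even lattice vectors. -/
def halfEven : AddSubgroup (GolayPt → ℤ) where
  carrier := {e | red2 e ∈ golayCode ∧ 4 ∣ ∑ i, e i}
  zero_mem' := ⟨by rw [map_zero]; exact zero_mem _, by simp⟩
  add_mem' := fun ha hb => ⟨by rw [map_add]; exact add_mem ha.1 hb.1, by
    simp only [Pi.add_apply, sum_add_distrib]; exact dvd_add ha.2 hb.2⟩
  neg_mem' := fun ha => ⟨by rw [map_neg]; exact neg_mem ha.1, by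
    simp only [Pi.neg_apply, sum_neg_distrib]; exact dvd_neg.2 ha.2⟩

theorem sum_even_of_codeLift {e : GolayPt → ℤ} (he : red2 e ∈ golayCode) : 2 ∣ ∑ i, e i := by
  apply (ZMod.intCast_zmod_eq_zero_iff_dvd _ 2).1
  have := code_dot he one_mem_code
  push_cast
  simpa [red2] using this

theorem index_halfEven : halfEven.index = 2 ^ 13 := by
  have hle : halfEven ≤ codeLift := fun e he => he.1
  rw [← AddSubgroup.relIndex_mul_index hle, index_codeLift]
  suffices halfEven.relIndex codeLift = 2 by rw [this]; norm_num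
  have hmem : (Pi.single none 2 : GolayPt → ℤ) ∈ codeLift := by
    show red2 _ ∈ golayCode
    have : red2 (Pi.single none 2) = 0 := by
      funext i
      cases i <;> simp [red2, Pi.single_apply]
      decide
    rw [this]; exact zero_mem _
  rw [AddSubgroup.relIndex, AddSubgroup.index_eq_two_iff]
  refine ⟨⟨_, hmem⟩, fun b => ?_⟩
  obtain ⟨k, hk⟩ := sum_even_of_codeLift b.2
  simp only [AddSubgroup.mem_addSubgroupOf, AddSubgroup.coe_add]
  have hs : ∑ i, ((b : GolayPt → ℤ) + (Pi.single none 2 : GolayPt → ℤ)) i = (∑ i, (b : GolayPt → ℤ) i) + 2 := by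
    simp [sum_add_distrib]
  have hiff : ∀ e : GolayPt → ℤ, e ∈ codeLift → (e ∈ halfEven ↔ 4 ∣ ∑ i, e i) := fun e he =>
    ⟨fun h => h.2, fun h => ⟨he, h⟩⟩
  rw [hiff _ b.2, hiff _ (add_mem b.2 hmem), hs, hk]
  simp only [xor_def]
  omega

/-- The odd minimal vector (-3, 1²³). -/
def oddVec : GolayPt → ℤ := fun p => if p = none then -3 else 1

theorem hb_oddVec : hb oddVec = 0 := by decide +kernel

theorem inL_oddVec : InL oddVec :=
  ⟨by decide +kernel, hb_oddVec ▸ zero_mem _, by decide +kernel⟩

theorem map_dbl_halfEven {x : GolayPt → ℤ} :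
    x ∈ halfEven.map dbl ↔ InL x ∧ x none % 2 = 0 := by
  constructor
  · rintro ⟨e, ⟨he1, he2⟩, rfl⟩
    refine ⟨⟨fun i => by simp only [dbl_apply]; omega, ?_, ?_⟩, by simp only [dbl_apply]; omega⟩
    · have : hb (dbl e) = red2 e := funext fun i => by
        simp only [hb, dbl_apply, red2, AddMonoidHom.coe_mk, ZeroHom.coe_mk]
        rw [Int.mul_ediv_cancel_left _ (by norm_num)]
      rw [this]; exact he1
    · simp only [dbl_apply, ← mul_sum]
      omega
  · rintro ⟨⟨h1, h2, h3⟩, h0⟩
    have he : x = dbl (fun i => x i / 2) := funext fun i => by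
      have := h1 i
      rw [dbl_apply]
      omega
    refine ⟨fun i => x i / 2, ⟨h2, ?_⟩, he.symm⟩
    rw [he] at h3
    simp only [dbl_apply, ← mul_sum] at h3
    dsimp only
    omega

theorem index_lattice : lattice.index = 2 ^ 36 := by
  have hle : halfEven.map dbl ≤ lattice := fun x hx => (map_dbl_halfEven.1 hx).1
  have h := AddSubgroup.relIndex_mul_index hle
  rw [AddSubgroup.index_map_of_injective _ dbl_injective, index_halfEven, index_range_dbl] at h
  have h2 : (halfEven.map dbl).relIndex lattice = 2 := by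
    rw [AddSubgroup.relIndex, AddSubgroup.index_eq_two_iff]
    refine ⟨⟨oddVec, inL_oddVec⟩, fun b => ?_⟩
    simp only [AddSubgroup.mem_addSubgroupOf, AddSubgroup.coe_add, map_dbl_halfEven]
    have hb0 : InL (b : GolayPt → ℤ) := b.2
    have hs : InL ((b : GolayPt → ℤ) + oddVec) := inL_add hb0 inL_oddVec
    simp only [hb0, hs, true_and, Pi.add_apply, show oddVec none = -3 from rfl]
    simp only [xor_def]
    omega
  rw [h2] at h
  omega

/-- Twice the lattice. -/
def twoLattice : AddSubgroup (GolayPt → ℤ) := lattice.map dbl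

theorem mem_twoLattice {x : GolayPt → ℤ} : x ∈ twoLattice ↔ ∃ z, InL z ∧ x = 2 • z :=
  ⟨fun ⟨z, hz, e⟩ => ⟨z, hz, e.symm⟩, fun ⟨z, hz, e⟩ => ⟨z, hz, e.symm⟩⟩

theorem relIndex_twoLattice : twoLattice.relIndex lattice = 2 ^ 24 := by
  have hle : twoLattice ≤ lattice := by
    rintro x ⟨z, hz, rfl⟩
    exact AddSubgroup.nsmul_mem _ hz 2
  have h := AddSubgroup.relIndex_mul_index hle
  rw [twoLattice, AddSubgroup.index_map_of_injective _ dbl_injective, index_lattice,
    index_range_dbl] at h
  have e : (2 : ℕ) ^ 36 * 2 ^ 24 = 2 ^ 24 * 2 ^ 36 := mul_comm _ _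
  rw [e] at h
  rw [twoLattice]
  exact Nat.eq_of_mul_eq_mul_right (by positivity) h

/-- Classes of the lattice modulo twice itself. -/
abbrev Classes : Type := lattice ⧸ twoLattice.addSubgroupOf lattice

/-- The class of a vector (0 outside the lattice). -/
noncomputable def cls (x : GolayPt → ℤ) : Classes := by
  classical exact if h : InL x then QuotientAddGroup.mk (⟨x, h⟩ : lattice) else 0

theorem cls_eq_iff {x y : GolayPt → ℤ} (hx : InL x) (hy : InL y) :
    cls x = cls y ↔ ∃ z, InL z ∧ x - y = 2 • z := by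
  rw [cls, cls, dif_pos hx, dif_pos hy, eq_comm, QuotientAddGroup.eq, AddSubgroup.mem_addSubgroupOf]
  simp only [AddSubgroup.coe_add, AddSubgroup.coe_neg, mem_twoLattice]
  rw [show -y + x = x - y by abel]

/-- The shell of norm `N` as a finset. -/
noncomputable def shellFinset (N : ℕ) (hN : N ≤ 64) : Finset (GolayPt → ℤ) :=
  (shell_finite hN).toFinset

theorem mem_shellFinset {N : ℕ} {hN : N ≤ 64} {x : GolayPt → ℤ} :
    x ∈ shellFinset N hN ↔ InL x ∧ sqNorm x = N := Set.Finite.mem_toFinset _

theorem card_shellFinset (N : ℕ) (hN : N ≤ 64) :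
    (shellFinset N hN).card = shellVal 0 evA evB N + shellVal 1 odA odB N := by
  rw [shellFinset, ← Set.ncard_eq_toFinset_card _ (shell_finite hN), ← ncard_shell_total hN]
  simp only [mem_leechLattice]

open scoped Classical in
/-- Conway's count: short vectors hit every class, norm 64 classes have exactly 48 members. -/
theorem classes_count :
    (∀ c : Classes, ∃ y, InL y ∧ sqNorm y ≤ 64 ∧ cls y = c) ∧
      ∀ x, InL x → sqNorm x = 64 →
        ((shellFinset 64 le_rfl).filter fun y => cls y = cls x).card = 48 := by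
  have : Finite Classes := by
    apply Nat.finite_of_card_ne_zero
    rw [show Nat.card Classes = twoLattice.relIndex lattice from rfl, relIndex_twoLattice]
    norm_num
  let _ := Fintype.ofFinite Classes
  set F32 := shellFinset 32 (by norm_num)
  set F48 := shellFinset 48 (by norm_num)
  set F64 := shellFinset 64 le_rfl
  have hv := shell_values
  simp only [List.cons.injEq] at hv
  have hc32 : F32.card = 196560 := by rw [card_shellFinset]; omega
  have hc48 : F48.card = 16773120 := by rw [card_shellFinset]; omega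
  have hc64 : F64.card = 398034000 := by rw [card_shellFinset]; omega
  have hQ : Fintype.card Classes = 16777216 := by
    rw [← Nat.card_eq_fintype_card, show Nat.card Classes = twoLattice.relIndex lattice from rfl,
      relIndex_twoLattice]
    norm_num
  have two : ∀ (N : ℕ) (hN : N ≤ 64), N < 64 →
      ∀ c ∈ (shellFinset N hN).image cls, ((shellFinset N hN).filter fun y => cls y = c).card ≤ 2 := by
    intro N hN hlt c hc
    obtain ⟨x, hx, rfl⟩ := mem_image.1 hc
    rw [mem_shellFinset] at hx
    refine (card_le_card (t := {x, -x}) fun y hy => ?_).trans card_le_two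
    rw [mem_filter, mem_shellFinset] at hy
    obtain ⟨z, hz, e⟩ := (cls_eq_iff hy.1.1 hx.1).1 hy.2
    rcases congr_short hx.1 hz (by rw [hy.1.2]; exact_mod_cast hN) (by rw [hx.2]; exact_mod_cast hN) e
      with rfl | rfl | h
    · simp
    · simp
    · rw [hx.2] at h; omega
  have many : ∀ c ∈ F64.image cls, (F64.filter fun y => cls y = c).card ≤ 48 := by
    intro c _
    refine frame_bound _ (fun v hv => by exact_mod_cast (mem_shellFinset.1 (mem_filter.1 hv).1).2)
      fun v hv u hu => ?_
    rw [mem_filter, mem_shellFinset] at hv hu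
    obtain ⟨z, hz, e⟩ := (cls_eq_iff hv.1.1 hu.1.1).1 (hv.2.trans hu.2.symm)
    rcases congr_short hu.1.1 hz (by rw [hv.1.2]; norm_num) (by rw [hu.1.2]; norm_num) e with h | h | h
    · exact Or.inl h
    · exact Or.inr (Or.inl h)
    · exact Or.inr (Or.inr h.2.2)
  have a32 := card_le_mul_card_image F32 2 (two 32 _ (by norm_num))
  have a48 := card_le_mul_card_image F48 2 (two 48 _ (by norm_num))
  have a64 := card_le_mul_card_image F64 48 many
  have disj : ∀ x y, InL x → InL y → sqNorm x ≤ 64 → sqNorm y ≤ 64 → cls x = cls y →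
      sqNorm x = sqNorm y := by
    intro x y hx hy hxn hyn h
    obtain ⟨z, hz, e⟩ := (cls_eq_iff hx hy).1 h
    rcases congr_short hy hz hxn hyn e with rfl | rfl | h
    · rfl
    · simp [sqNorm]
    · omega
  have hdisj : ∀ (M : ℕ) (hM : M ≤ 64) (N : ℕ) (hN : N ≤ 64), M ≠ N →
      Disjoint ((shellFinset M hM).image cls) ((shellFinset N hN).image cls) := by
    intro M hM N hN hne
    refine disjoint_left.2 fun c hc hc' => ?_
    obtain ⟨x, hx, rfl⟩ := mem_image.1 hc
    obtain ⟨y, hy, e⟩ := mem_image.1 hc'
    rw [mem_shellFinset] at hx hy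
    have := disj x y hx.1 hy.1 (by rw [hx.2]; exact_mod_cast hM) (by rw [hy.2]; exact_mod_cast hN) e.symm
    rw [hx.2, hy.2] at this
    exact hne (by exact_mod_cast this)
  set U := (shellFinset 0 (by norm_num)).image cls ∪ F32.image cls ∪ F48.image cls ∪ F64.image cls
    with hU
  have h0 : 1 ≤ ((shellFinset 0 (by norm_num)).image cls).card :=
    card_pos.2 ⟨_, mem_image_of_mem cls (mem_shellFinset.2 ⟨inL_zero, by simp [sqNorm]⟩)⟩
  have hUc : U.card = ((shellFinset 0 (by norm_num)).image cls).card + (F32.image cls).card +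
      (F48.image cls).card + (F64.image cls).card := by
    rw [hU, card_union_of_disjoint, card_union_of_disjoint, card_union_of_disjoint]
    · exact hdisj _ _ _ _ (by norm_num)
    · rw [disjoint_union_left]
      exact ⟨hdisj _ _ _ _ (by norm_num), hdisj _ _ _ _ (by norm_num)⟩
    · rw [disjoint_union_left, disjoint_union_left]
      exact ⟨⟨hdisj _ _ _ _ (by norm_num), hdisj _ _ _ _ (by norm_num)⟩, hdisj _ _ _ _ (by norm_num)⟩
  have hUle : U.card ≤ 16777216 := hQ ▸ card_le_univ U
  have hUtop : U = univ := eq_univ_of_card U (by omega)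
  refine ⟨fun c => ?_, fun x hx hn => ?_⟩
  · have hc : c ∈ U := hUtop ▸ mem_univ c
    simp only [hU, mem_union, mem_image] at hc
    rcases hc with ((⟨y, hy, e⟩ | ⟨y, hy, e⟩) | ⟨y, hy, e⟩) | ⟨y, hy, e⟩ <;>
      exact ⟨y, (mem_shellFinset.1 hy).1, by rw [(mem_shellFinset.1 hy).2]; norm_num, e⟩
  · have hsum := card_eq_sum_card_image cls F64
    have h48 : ∑ c ∈ F64.image cls, (F64.filter fun y => cls y = c).card =
        ∑ _c ∈ F64.image cls, 48 := by
      rw [← hsum, sum_const, smul_eq_mul]
      omega
    exact (sum_eq_sum_iff_of_le many).1 h48 (cls x)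
      (mem_image_of_mem cls (mem_shellFinset.2 ⟨hx, by exact_mod_cast hn⟩))

/-- Indicator vector of a support. -/
def ind (w : GolayPt → ZMod 2) : GolayPt → ℤ := fun i => if w i = 1 then 1 else 0

/-- The span of the minimal vectors. -/
def minSpan : AddSubgroup (GolayPt → ℤ) :=
  AddSubgroup.closure {x | InL x ∧ sqNorm x = 32}

theorem minSpan_le : minSpan ≤ lattice :=
  (AddSubgroup.closure_le _).2 fun _ hx => hx.1

theorem inL_pair {i j : GolayPt} (h : i ≠ j) {s : ℤ} (hs : s = 4 ∨ s = -4) :
    InL (Pi.single i 4 + Pi.single j s) ∧ sqNorm (Pi.single i 4 + Pi.single j s) = 32 := by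
  have key : ∀ k, (Pi.single i 4 + Pi.single j s : GolayPt → ℤ) k =
      if k = i then 4 else if k = j then s else 0 := by
    intro k
    simp only [Pi.add_apply, Pi.single_apply]
    split_ifs with h1 h2 <;> first | omega | (subst h1; exact absurd h2 h)
  refine ⟨⟨fun k => ?_, ?_, ?_⟩, ?_⟩
  · rw [key, key]; split_ifs <;> omega
  · have : hb (Pi.single i 4 + Pi.single j s) = 0 := funext fun k => by
      rw [hb_eq_zero_iff.2]; · rfl
      rw [key]; split_ifs <;> omega
    rw [this]; exact zero_mem _
  · rw [key none]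
    simp only [Pi.add_apply, sum_add_distrib, sum_pi_single', mem_univ, if_true]
    split_ifs <;> omega
  · rw [sqNorm_add]
    have h2 : ∀ (k : GolayPt) (a : ℤ), sqNorm (Pi.single k a) = a ^ 2 := fun k a => by
      simp [sqNorm, Pi.single_apply, ite_pow]
    have h3 : dotInt (Pi.single i 4) (Pi.single j s) = 0 := by
      simp [dotInt, Pi.single_apply, Ne.symm h]
    rw [h2, h2, h3]
    rcases hs with rfl | rfl <;> norm_num

theorem four_mul_mem_minSpan (y : GolayPt → ℤ) (hy : 2 ∣ ∑ i, y i) :
    (fun i => 4 * y i) ∈ minSpan := by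
  have h8 : (Pi.single none 8 : GolayPt → ℤ) ∈ minSpan := by
    have h : _ ∈ minSpan := add_mem (AddSubgroup.subset_closure (inL_pair (Option.some_ne_none (0 : ZMod 23)).symm (Or.inl rfl)))
      (AddSubgroup.subset_closure (inL_pair (Option.some_ne_none (0 : ZMod 23)).symm (Or.inr rfl)))
    convert h using 1
    funext k
    simp only [Pi.add_apply, Pi.single_apply]
    split_ifs <;> norm_num
  have hpair : ∀ i, (Pi.single i 4 + Pi.single none 4 : GolayPt → ℤ) ∈ minSpan := by
    intro i
    by_cases h : i = none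
    · subst h
      convert h8 using 1
      funext k; simp only [Pi.add_apply, Pi.single_apply]; split_ifs <;> norm_num
    · exact AddSubgroup.subset_closure (inL_pair h (Or.inl rfl))
  obtain ⟨k, hk⟩ := hy
  have h := sub_mem (sum_mem fun i (_ : i ∈ univ) => minSpan.zsmul_mem (hpair i) (y i))
    (minSpan.zsmul_mem h8 k)
  convert h using 1
  funext l
  simp only [Pi.sub_apply, Finset.sum_apply, Pi.smul_apply, Pi.add_apply, smul_eq_mul, mul_add,
    sum_add_distrib, Pi.single_apply, mul_ite, mul_zero, sum_ite_eq, mem_univ, if_true]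
  split_ifs with hl
  · rw [← sum_mul, hk]; ring
  · simp [mul_comm]

theorem two_ind_mem_minSpan {w : GolayPt → ZMod 2} (hw : w ∈ golayCode) :
    (fun i => 2 * ind w i) ∈ minSpan := by
  obtain ⟨n, hn, rfl⟩ := mem_code_iff.1 hw
  have hbase : ∀ g ∈ basisData.map Prod.fst, pop g = 8 := by decide +kernel
  have oct : ∀ g ∈ basisData.map Prod.fst, (fun i => 2 * ind (toWord g) i) ∈ minSpan := by
    intro g hg
    have hC := toWord_basis_mem hg
    have hcard : (univ.filter fun i => toWord g i = 1).card = 8 := by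
      rw [← hbase g hg, ← card_supp_toWord]
      exact congrArg card (by ext i; simp [mem_supp])
    refine AddSubgroup.subset_closure ⟨⟨fun i => by dsimp only; omega, ?_, ?_⟩, ?_⟩
    · have : hb (fun i => 2 * ind (toWord g) i) = toWord g := funext fun i => by
        rcases zmod2_cases (toWord g i) with h | h <;> simp [hb, ind, h]
      rw [this]; exact hC
    · simp only [← mul_sum, ind, sum_boole, hcard]
      omega
    · simp only [sqNorm, ind, mul_pow, ← mul_sum, ite_pow, one_pow, ne_eq, OfNat.ofNat_ne_zero,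
        not_false_eq_true, zero_pow, sum_boole, hcard]
      norm_num
  clear hw
  revert n
  suffices ∀ l : List ℕ, (∀ g ∈ l, (fun i => 2 * ind (toWord g) i) ∈ minSpan ∧ toWord g ∈ golayCode) →
      ∀ n ∈ spanMasks l, (fun i => 2 * ind (toWord n) i) ∈ minSpan ∧ toWord n ∈ golayCode from
    fun n hn => (this _ (fun g hg => ⟨oct g hg, toWord_basis_mem hg⟩) n hn).1
  intro l hl
  induction l with
  | nil =>
    intro n hn
    rw [List.mem_singleton.1 hn, toWord_zero]
    refine ⟨?_, zero_mem _⟩
    convert minSpan.zero_mem using 1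
    funext i; simp [ind]
  | cons g l ih =>
    intro n hn
    have ih := ih fun a ha => hl a (List.mem_cons_of_mem _ ha)
    rcases List.mem_append.1 hn with hn | hn
    · exact ih n hn
    obtain ⟨a, ha, rfl⟩ := List.mem_map.1 hn
    obtain ⟨hg1, hg2⟩ := hl g List.mem_cons_self
    obtain ⟨ha1, ha2⟩ := ih a ha
    rw [toWord_xor]
    refine ⟨?_, add_mem hg2 ha2⟩
    have hev : 2 ∣ ∑ i, ind (toWord g) i * ind (toWord a) i := by
      have h := inter_card_even hg2 ha2
      have he : ∑ i, ind (toWord g) i * ind (toWord a) i =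
          ((support₂ (toWord g) ∩ support₂ (toWord a)).card : ℤ) := by
        simp only [ind, ite_mul, one_mul, zero_mul, ← ite_and, sum_boole]
        congr 1
        exact congrArg card (by ext i; simp [mem_supp])
      rw [he]
      exact_mod_cast h
    have h4 := four_mul_mem_minSpan _ hev
    convert sub_mem (add_mem hg1 ha1) h4 using 1
    funext i
    simp only [Pi.sub_apply, Pi.add_apply, ind]
    rcases zmod2_cases (toWord g i) with h | h <;> rcases zmod2_cases (toWord a i) with h' | h' <;>
      simp [h, h']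

theorem minSpan_eq : minSpan = lattice := by
  refine le_antisymm minSpan_le fun x hx => ?_
  have hev : ∀ x, InL x → x none % 2 = 0 → x ∈ minSpan := by
    intro x hx h0
    have h2 := two_ind_mem_minSpan hx.2.1
    have hL : InL (x - fun i => 2 * ind (hb x) i) := lattice.sub_mem hx (minSpan_le h2)
    have hdiv : ∀ i, 4 ∣ (x - fun i => 2 * ind (hb x) i) i := fun i => by
      have hp := hx.1 i
      simp only [Pi.sub_apply, ind]
      split_ifs with h
      · rw [hb_eq_one_iff] at h; omega
      · rw [hb_eq_one_iff] at h; omega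
    choose y hy using hdiv
    have heq : (x - fun i => 2 * ind (hb x) i) = fun i => 4 * y i := funext hy
    have hsum : 2 ∣ ∑ i, y i := by
      have h3 := hL.2.2
      rw [heq] at h3
      simp only [← mul_sum] at h3
      omega
    have := add_mem h2 (four_mul_mem_minSpan y hsum)
    rw [← heq] at this
    simpa using this
  rcases Int.emod_two_eq_zero_or_one (x none) with h | h
  · exact hev x hx h
  · have ho : oddVec ∈ minSpan := AddSubgroup.subset_closure ⟨inL_oddVec, by decide +kernel⟩
    have h1 : InL (x - oddVec) := lattice.sub_mem hx inL_oddVec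
    have := add_mem ho (hev _ h1 (by
      simp only [Pi.sub_apply, show oddVec none = -3 from rfl]; omega))
    simpa using this

end Cfsg.Agent.Leech
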