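/-
Elements of `Co0`: construction, finiteness, the monomial group, the stabiliser of the standard cross.
-/
import Cfsg.Agent.Lib.Leech.Lattice
import Cfsg.Agent.Lib.Mathieu.Trans
import Cfsg.Prelude.Def_SporadicCombinatorics

set_option autoImplicit false

namespace Cfsg.Agent.Leech

open Cfsg Finset

/-- An additive bijection of the lattice onto itself preserving norms gives an element of `Co0`. -/
def mkCo0 (f f' : (GolayPt → ℤ) → (GolayPt → ℤ)) (hadd : ∀ x y, InL x → InL y → f (x + y) = f x + f y)
    (hnorm : ∀ x, InL x → sqNorm (f x) = sqNorm x) (hm : ∀ x, InL x → InL (f x))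
    (hm' : ∀ x, InL x → InL (f' x)) (hl : ∀ x, InL x → f' (f x) = x)
    (hr : ∀ x, InL x → f (f' x) = x) : Co0 :=
  ⟨{ toFun := fun v => ⟨f v, mem_leechLattice.2 (hm _ (mem_leechLattice.1 v.2))⟩
     invFun := fun v => ⟨f' v, mem_leechLattice.2 (hm' _ (mem_leechLattice.1 v.2))⟩
     left_inv := fun v => Subtype.ext (hl _ (mem_leechLattice.1 v.2))
     right_inv := fun v => Subtype.ext (hr _ (mem_leechLattice.1 v.2)) },
    fun v w => Subtype.ext (hadd _ _ (mem_leechLattice.1 v.2) (mem_leechLattice.1 w.2)),
    fun v => hnorm _ (mem_leechLattice.1 v.2)⟩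

theorem mkCo0_smul (f f') (hadd hnorm hm hm' hl hr) (v : leechLattice) :
    ((mkCo0 f f' hadd hnorm hm hm' hl hr • v : leechLattice) : GolayPt → ℤ) = f v := rfl

theorem co0_add (g : Co0) (v w : leechLattice) : g • (v + w) = g • v + g • w := g.2.1 v w

theorem co0_norm (g : Co0) (v : leechLattice) :
    sqNorm ((g • v : leechLattice) : GolayPt → ℤ) = sqNorm (v : GolayPt → ℤ) := g.2.2 v

/-- The action of `g` as an additive map of the lattice. -/
def actHom (g : Co0) : leechLattice →+ leechLattice :=
  AddMonoidHom.mk' (fun v => g • v) (co0_add g)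

theorem co0_neg (g : Co0) (v : leechLattice) : g • (-v) = -(g • v) := map_neg (actHom g) v

theorem co0_zsmul (g : Co0) (n : ℤ) (v : leechLattice) : g • (n • v) = n • (g • v) :=
  map_zsmul (actHom g) n v

theorem co0_nsmul (g : Co0) (n : ℕ) (v : leechLattice) : g • (n • v) = n • (g • v) :=
  map_nsmul (actHom g) n v

theorem co0_dot (g : Co0) (v w : leechLattice) :
    dotInt ((g • v : leechLattice) : GolayPt → ℤ) ((g • w : leechLattice) : GolayPt → ℤ) =
      dotInt (v : GolayPt → ℤ) (w : GolayPt → ℤ) := by
  have h1 := co0_norm g (v + w)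
  rw [co0_add, AddSubgroup.coe_add, AddSubgroup.coe_add, sqNorm_add, sqNorm_add, co0_norm,
    co0_norm] at h1
  omega

/-- Two elements agreeing on the minimal vectors are equal. -/
theorem co0_ext_min (g h : Co0)
    (he : ∀ v : leechLattice, sqNorm (v : GolayPt → ℤ) = 32 → g • v = h • v) : g = h := by
  refine eq_of_smul_eq_smul (α := leechLattice) fun v => ?_
  obtain ⟨x, hx⟩ := v
  have hx' : x ∈ minSpan := by rw [minSpan_eq]; exact mem_leechLattice.1 hx
  induction hx' using AddSubgroup.closure_induction with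
  | mem y hy => exact he ⟨y, hx⟩ hy.2
  | zero => exact (map_zero (actHom g)).trans (map_zero (actHom h)).symm
  | add a b ha hb iha ihb =>
    have ha' : a ∈ leechLattice := mem_leechLattice.2 (minSpan_le ha)
    have hb' : b ∈ leechLattice := mem_leechLattice.2 (minSpan_le hb)
    show g • ((⟨a, ha'⟩ : leechLattice) + ⟨b, hb'⟩) = h • ((⟨a, ha'⟩ : leechLattice) + ⟨b, hb'⟩)
    rw [co0_add, co0_add, iha ha', ihb hb']
  | neg a ha iha =>
    have ha' : a ∈ leechLattice := mem_leechLattice.2 (minSpan_le ha)
    show g • (-(⟨a, ha'⟩ : leechLattice)) = h • (-(⟨a, ha'⟩ : leechLattice))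
    rw [co0_neg, co0_neg, iha ha']

instance co0_finite : Finite Co0 := by
  have : Finite {v : leechLattice // sqNorm (v : GolayPt → ℤ) = 32} := by
    have : Finite {x : GolayPt → ℤ // x ∈ {x | InL x ∧ sqNorm x = 32}} :=
      (shell_finite (N := 32) (by norm_num)).to_subtype
    exact Finite.of_injective
      (fun v => (⟨v.1.1, mem_leechLattice.1 v.1.2, v.2⟩ :
        {x : GolayPt → ℤ // x ∈ {x | InL x ∧ sqNorm x = 32}}))
      fun a b h => Subtype.ext (Subtype.ext (congrArg (fun z => z.1) h))
  refine Finite.of_injective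
    (fun g (v : {v : leechLattice // sqNorm (v : GolayPt → ℤ) = 32}) =>
      (⟨g • v.1, (co0_norm g _).trans v.2⟩ : {v : leechLattice // sqNorm (v : GolayPt → ℤ) = 32}))
    fun g h e => co0_ext_min g h fun v hv => congrArg Subtype.val (congrFun e ⟨v, hv⟩)

/-! ### Monomial elements -/

/-- Coordinate permutation. -/
def permElt (σ : Equiv.Perm GolayPt) (hσ : σ ∈ M24) : Co0 :=
  mkCo0 (fun x i => x (σ.symm i)) (fun x i => x (σ i)) (fun _ _ _ _ => rfl)
    (fun x _ => Equiv.sum_comp σ.symm fun i => x i ^ 2)
    (fun _ hx => inL_comp (inv_mem hσ) hx) (fun _ hx => inL_comp hσ hx)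
    (fun x _ => by simp) (fun x _ => by simp)

/-- Sign change on a code word. -/
def signFun (c : GolayPt → ZMod 2) (x : GolayPt → ℤ) : GolayPt → ℤ :=
  fun i => if i ∈ support₂ c then -x i else x i

theorem signFun_signFun (c : GolayPt → ZMod 2) (x : GolayPt → ℤ) : signFun c (signFun c x) = x := by
  funext i
  simp only [signFun]
  split_ifs <;> simp

@[inherit_doc signFun] def signElt (c : GolayPt → ZMod 2) (hc : c ∈ golayCode) : Co0 :=
  mkCo0 (signFun c) (signFun c)
    (fun x y _ _ => by funext i; simp only [signFun, Pi.add_apply]; split_ifs <;> ring)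
    (fun x _ => sum_congr rfl fun i _ => by simp only [signFun]; split_ifs <;> ring)
    (fun _ hx => inL_sign hx hc) (fun _ hx => inL_sign hx hc)
    (fun x _ => signFun_signFun c x) (fun x _ => signFun_signFun c x)

theorem permElt_smul (σ : Equiv.Perm GolayPt) (hσ : σ ∈ M24) (v : leechLattice) :
    ((permElt σ hσ • v : leechLattice) : GolayPt → ℤ) = fun i => (v : GolayPt → ℤ) (σ.symm i) := rfl

theorem signElt_smul (c : GolayPt → ZMod 2) (hc : c ∈ golayCode) (v : leechLattice) :
    ((signElt c hc • v : leechLattice) : GolayPt → ℤ) = signFun c v := rfl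

/-- The monomial element. -/
def monoElt (p : M24 × golayCode) : Co0 := signElt p.2 p.2.2 * permElt p.1 p.1.2

theorem monoElt_smul (p : M24 × golayCode) (v : leechLattice) :
    ((monoElt p • v : leechLattice) : GolayPt → ℤ) =
      signedPerm p.1 (support₂ (p.2 : GolayPt → ZMod 2)) v := rfl

/-- `8 e_i` in the lattice. -/
def eight (i : GolayPt) : leechLattice :=
  ⟨Pi.single i 8, mem_leechLattice.2 (by
    refine ⟨fun k => ?_, ?_, ?_⟩
    · simp only [Pi.single_apply]; split_ifs <;> omega
    · have : hb (Pi.single i 8) = 0 := funext fun k => by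
        rw [hb_eq_zero_iff.2]; · rfl
        simp only [Pi.single_apply]; split_ifs <;> omega
      rw [this]; exact zero_mem _
    · simp only [Pi.single_apply, sum_ite_eq', mem_univ, if_true]; split_ifs <;> omega)⟩

theorem eight_val (i : GolayPt) : ((eight i : leechLattice) : GolayPt → ℤ) = Pi.single i 8 := rfl

theorem eight_smul_expand (g : Co0) (v : leechLattice) :
    (8 : ℤ) • ((g • v : leechLattice) : GolayPt → ℤ) =
      ∑ i, (v : GolayPt → ℤ) i • ((g • eight i : leechLattice) : GolayPt → ℤ) := by
  have h : (8 : ℤ) • v = ∑ i, (v : GolayPt → ℤ) i • eight i := by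
    apply Subtype.ext
    funext k
    rw [AddSubgroup.val_finset_sum, Finset.sum_apply, AddSubgroupClass.coe_zsmul, Pi.smul_apply,
      Fintype.sum_eq_single k]
    · simp [eight_val, mul_comm]
    · intro i hi
      simp [eight_val, Pi.single_eq_of_ne hi.symm]
  have h2 := congrArg (fun w => ((g • w : leechLattice) : GolayPt → ℤ)) h
  simp only [co0_zsmul, AddSubgroupClass.coe_zsmul] at h2
  rw [h2, show g • (∑ i, (v : GolayPt → ℤ) i • eight i) =
    actHom g (∑ i, (v : GolayPt → ℤ) i • eight i) from rfl, map_sum, AddSubgroup.val_finset_sum]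
  refine sum_congr rfl fun i _ => ?_
  rw [map_zsmul, AddSubgroupClass.coe_zsmul]
  rfl

/-- Two elements agreeing on all `8 e_i` are equal. -/
theorem co0_ext (g h : Co0) (he : ∀ i, g • eight i = h • eight i) : g = h := by
  refine eq_of_smul_eq_smul (α := leechLattice) fun v => Subtype.ext (funext fun k => ?_)
  have h1 := congrFun (eight_smul_expand g v) k
  have h2 := congrFun (eight_smul_expand h v) k
  simp only [he, Pi.smul_apply, smul_eq_mul] at h1 h2
  omega

/-- Preserving the standard cross. -/
def FixesStd (g : Co0) : Prop :=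
  ∀ v : leechLattice, (v : GolayPt → ℤ) ∈ stdCross →
    ((g • v : leechLattice) : GolayPt → ℤ) ∈ stdCross

theorem eight_mem_stdCross (i : GolayPt) : ((eight i : leechLattice) : GolayPt → ℤ) ∈ stdCross :=
  ⟨i, 8, Or.inl rfl, rfl⟩

theorem monoElt_fixesStd (p : M24 × golayCode) : FixesStd (monoElt p) := by
  rintro v ⟨i, s, hs, hv⟩
  rw [monoElt_smul, hv]
  by_cases hi : (p.1 : Equiv.Perm GolayPt) i ∈ support₂ (p.2 : GolayPt → ZMod 2)
  · refine ⟨(p.1 : Equiv.Perm GolayPt) i, -s, by omega, funext fun k => ?_⟩
    simp only [signedPerm, Pi.single_apply, Equiv.symm_apply_eq]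
    by_cases hk : k = (p.1 : Equiv.Perm GolayPt) i
    · rw [if_pos (hk ▸ hi), if_pos hk, if_pos hk]
    · rw [if_neg hk, if_neg hk]; split_ifs <;> simp
  · refine ⟨(p.1 : Equiv.Perm GolayPt) i, s, hs, funext fun k => ?_⟩
    simp only [signedPerm, Pi.single_apply, Equiv.symm_apply_eq]
    by_cases hk : k = (p.1 : Equiv.Perm GolayPt) i
    · simp [hk, hi]
    · simp [hk]

theorem exists_monoElt_of_fixesStd {g : Co0} (hg : FixesStd g) : ∃ p, monoElt p = g := by
  have hg' : ∀ i, ∃ (j : GolayPt) (s : ℤ), (s = 8 ∨ s = -8) ∧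
      ((g • eight i : leechLattice) : GolayPt → ℤ) = Pi.single j s :=
    fun i => hg _ (eight_mem_stdCross i)
  choose π s hs hπ using hg'
  have hinj : Function.Injective π := by
    intro a b hab
    by_contra hne
    have h0 : dotInt (eight a : GolayPt → ℤ) (eight b : GolayPt → ℤ) = 0 := by
      simp [dotInt, eight_val, Pi.single_apply, Ne.symm hne]
    rw [← co0_dot g, hπ, hπ, hab] at h0
    simp [dotInt, Pi.single_apply] at h0
    rcases hs a with h | h <;> rcases hs b with h' | h' <;> rw [h, h'] at h0 <;> norm_num at h0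
  set σ := Equiv.ofBijective π (Finite.injective_iff_bijective.1 hinj) with hσ
  have hcoord : ∀ (v : leechLattice) (k : GolayPt), 8 * ((g • v : leechLattice) : GolayPt → ℤ) k =
      (v : GolayPt → ℤ) (σ.symm k) * s (σ.symm k) := by
    intro v k
    have h := congrFun (eight_smul_expand g v) k
    rw [Pi.smul_apply, Finset.sum_apply, Fintype.sum_eq_single (σ.symm k)] at h
    · have hk : π (σ.symm k) = k := σ.apply_symm_apply k
      rw [Pi.smul_apply, hπ, hk, Pi.single_eq_same] at h
      simpa using h
    · intro i hi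
      have : π i ≠ k := fun e => hi (by rw [← e, ← Equiv.ofBijective_apply (f := π)
        (Finite.injective_iff_bijective.1 hinj), ← hσ, Equiv.symm_apply_apply])
      rw [Pi.smul_apply, hπ, Pi.single_eq_of_ne (Ne.symm this), smul_zero]
  have hperm : σ.symm ∈ M24 := by
    have hcode : ∀ c ∈ golayCode, (c ∘ σ.symm : GolayPt → ZMod 2) ∈ golayCode := by
      intro c hc
      set v : leechLattice := ⟨_, mem_leechLattice.2 (minSpan_le (two_ind_mem_minSpan hc))⟩ with hv
      have hL := mem_leechLattice.1 (g • v).2
      have : hb ((g • v : leechLattice) : GolayPt → ℤ) = c ∘ σ.symm := by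
        funext k
        have h := hcoord v k
        rw [show (v : GolayPt → ℤ) (σ.symm k) = 2 * ind c (σ.symm k) from rfl] at h
        simp only [ind] at h
        rcases zmod2_cases (c (σ.symm k)) with hc' | hc'
        · rw [Function.comp_apply, hc', hb_eq_zero_iff]
          rw [hc', if_neg (by decide)] at h
          rcases hs (σ.symm k) with h' | h' <;> rw [h'] at h <;> omega
        · rw [Function.comp_apply, hc', hb_eq_one_iff]
          rw [hc', if_pos rfl] at h
          rcases hs (σ.symm k) with h' | h' <;> rw [h'] at h <;> omega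
      exact this ▸ hL.2.1
    open scoped Pointwise in
    have hsub : ∀ b ∈ supports (golayCode : Set (GolayPt → ZMod 2)),
        σ • b ∈ supports (golayCode : Set (GolayPt → ZMod 2)) := by
      rintro b ⟨c, hc, rfl⟩
      refine ⟨_, hcode c hc, ?_⟩
      ext k
      rw [mem_supp, Finset.mem_smul_finset]
      exact ⟨fun h => ⟨σ.symm k, mem_supp.2 h, by simp⟩, fun ⟨j, hj, e⟩ => by
        subst e; simpa using mem_supp.1 hj⟩
    open scoped Pointwise in
    have : σ ∈ M24 := by
      refine MulAction.mem_stabilizer_iff.2 (Set.eq_of_subset_of_ncard_le ?_ ?_ (Set.toFinite _))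
      · rintro _ ⟨b, hb', rfl⟩
        exact hsub b hb'
      · rw [Set.ncard_smul_set]
    exact inv_mem this
  set c : GolayPt → ZMod 2 := fun k => if s (σ.symm k) = 8 then 0 else 1 with hc
  have hcmem : c ∈ golayCode := by
    set v : leechLattice := ⟨oddVec, mem_leechLattice.2 inL_oddVec⟩ with hv
    have hL := mem_leechLattice.1 (g • v).2
    have : hb ((g • v : leechLattice) : GolayPt → ℤ) = c := by
      funext k
      have h := hcoord v k
      rw [show (v : GolayPt → ℤ) (σ.symm k) = oddVec (σ.symm k) from rfl] at h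
      simp only [oddVec] at h
      rcases hs (σ.symm k) with h' | h' <;> rw [h'] at h <;> simp only [hc, h']
      · rw [if_pos trivial, hb_eq_zero_iff]; split_ifs at h <;> omega
      · rw [if_neg (by norm_num), hb_eq_one_iff]; split_ifs at h <;> omega
    exact this ▸ hL.2.1
  have hperm' : σ ∈ M24 := inv_mem hperm
  refine ⟨(⟨σ, hperm'⟩, ⟨c, hcmem⟩), ?_⟩
  refine eq_of_smul_eq_smul (α := leechLattice) fun v => Subtype.ext (funext fun k => ?_)
  have h := hcoord v k
  rw [monoElt_smul]
  simp only [signedPerm, mem_supp, hc]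
  rcases hs (σ.symm k) with h' | h' <;> rw [h'] at h
  · rw [if_pos h']; simp only [zero_ne_one, if_false]; omega
  · rw [if_neg (show ¬ s (σ.symm k) = 8 by omega)]; simp only [if_true]; omega

theorem monoElt_injective : Function.Injective monoElt := by
  intro p q h
  have key : ∀ i, ((monoElt p • eight i : leechLattice) : GolayPt → ℤ) =
      ((monoElt q • eight i : leechLattice) : GolayPt → ℤ) := fun i => by rw [h]
  simp only [monoElt_smul, eight_val] at key
  have hσ : ∀ i, (p.1 : Equiv.Perm GolayPt) i = (q.1 : Equiv.Perm GolayPt) i := by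
    intro i
    have h := congrFun (key i) ((p.1 : Equiv.Perm GolayPt) i)
    simp only [signedPerm, Equiv.symm_apply_apply, Pi.single_eq_same] at h
    by_contra hne
    have : (q.1 : Equiv.Perm GolayPt).symm ((p.1 : Equiv.Perm GolayPt) i) ≠ i :=
      fun e => hne (by rwa [Equiv.symm_apply_eq] at e)
    rw [Pi.single_eq_of_ne this] at h
    split_ifs at h <;> norm_num at h
  refine Prod.ext (Subtype.ext (Equiv.ext hσ)) (Subtype.ext (funext fun k => ?_))
  have h := congrFun (key ((p.1 : Equiv.Perm GolayPt).symm k)) k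
  have e : (q.1 : Equiv.Perm GolayPt).symm k = (p.1 : Equiv.Perm GolayPt).symm k := by
    rw [Equiv.symm_apply_eq, ← hσ, Equiv.apply_symm_apply]
  simp only [signedPerm, mem_supp, e, Pi.single_eq_same] at h
  rcases zmod2_cases ((p.2 : GolayPt → ZMod 2) k) with a | a <;>
    rcases zmod2_cases ((q.2 : GolayPt → ZMod 2) k) with b | b <;> simp [a, b] at h ⊢

theorem card_fixesStd : Nat.card {g : Co0 // FixesStd g} = 4096 * 244823040 := by
  have h : Function.Bijective (fun p => (⟨monoElt p, monoElt_fixesStd p⟩ : {g : Co0 // FixesStd g})) :=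
    ⟨fun a b e => monoElt_injective (congrArg Subtype.val e), fun g => by
      obtain ⟨p, hp⟩ := exists_monoElt_of_fixesStd g.2
      exact ⟨p, Subtype.ext hp⟩⟩
  rw [← Nat.card_congr (Equiv.ofBijective _ h), Nat.card_prod, Cfsg.Agent.Mathieu.card_M24, card_code]

/-! ### Code words with prescribed values on five points -/

theorem code_interp_fixed : ∀ f : Fin 5 → ZMod 2,
    ∀ i : Fin 5, Mathieu.wordOf (Mathieu.encC Mathieu.codeBasis (∑ j, (f j).val * 2 ^ j.val))
      (some ((i.val : ℕ) : ZMod 23)) = f i := by
  decide +kernel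

theorem five_lt : ∀ f : Fin 5 → ZMod 2, (∑ j, (f j).val * 2 ^ j.val) < 4096 := by decide +kernel

/-- Prescribed values on at most five points are realised by a code word. -/
theorem code_interp (T : Finset GolayPt) (hT : T.card ≤ 5) (f : GolayPt → ZMod 2) :
    ∃ c ∈ golayCode, ∀ i ∈ T, c i = f i := by
  let y : Fin T.card ↪ GolayPt := ⟨fun i => some ((i.val : ℕ) : ZMod 23), fun a b h => by
    have h' := congrArg ZMod.val (Option.some.inj h)
    rw [ZMod.val_natCast_of_lt (by omega), ZMod.val_natCast_of_lt (by omega)] at h'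
    exact Fin.ext h'⟩
  let x : Fin T.card ↪ GolayPt := T.equivFin.symm.toEmbedding.trans (Function.Embedding.subtype _)
  obtain ⟨g, hg, hgx⟩ := Mathieu.M24_exists_map hT x y
  let f5 : Fin 5 → ZMod 2 := fun i => f (g.symm (some ((i.val : ℕ) : ZMod 23)))
  refine ⟨Mathieu.wordOf (Mathieu.encC Mathieu.codeBasis (∑ j, (f5 j).val * 2 ^ j.val)) ∘ g,
    comp_mem_code hg (Mathieu.wordOf_mem_of_inCode (Mathieu.inCode_encC (five_lt f5))), fun i hi => ?_⟩
  set k := T.equivFin ⟨i, hi⟩ with hk
  have hgi : g i = some ((k.val : ℕ) : ZMod 23) := by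
    have h2 := hgx k
    have hx : x k = i := by
      show (T.equivFin.symm k).1 = i
      rw [hk, Equiv.symm_apply_apply]
    rw [hx] at h2
    exact h2
  have := code_interp_fixed f5 ⟨k.val, by omega⟩
  rw [Function.comp_apply, hgi, this]
  simp only [f5, ← hgi, Equiv.symm_apply_apply]

/-! ### The centre -/

/-- Negation. -/
def negElt : Co0 := signElt 1 one_mem_code

theorem negElt_smul (v : leechLattice) : negElt • v = -v := by
  apply Subtype.ext
  rw [negElt, signElt_smul, AddSubgroup.coe_neg]
  funext i
  simp [signFun, mem_supp]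

theorem negElt_mem_center : negElt ∈ Subgroup.center Co0 := by
  rw [Subgroup.mem_center_iff]
  intro g
  refine eq_of_smul_eq_smul (α := leechLattice) fun v => ?_
  rw [mul_smul, mul_smul, negElt_smul, negElt_smul, co0_neg]

theorem negElt_ne_one : negElt ≠ 1 := by
  intro h
  have := congrArg (fun g => ((g • eight none : leechLattice) : GolayPt → ℤ) none) h
  simp only [negElt_smul, one_smul, AddSubgroup.coe_neg, Pi.neg_apply, eight_val,
    Pi.single_eq_same] at this
  norm_num at this

theorem center_eq {g : Co0} (hg : g ∈ Subgroup.center Co0) : g = 1 ∨ g = negElt := by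
  rw [Subgroup.mem_center_iff] at hg
  have hsupp : ∀ i j, j ≠ i → ((g • eight i : leechLattice) : GolayPt → ℤ) j = 0 := by
    intro i j hj
    obtain ⟨c, hc, hcv⟩ := code_interp {i, j} (card_le_two.trans (by norm_num))
      (fun k => if k = j then 1 else 0)
    have e1 : signElt c hc • eight i = eight i := by
      apply Subtype.ext
      funext k
      rw [signElt_smul, eight_val]
      simp only [signFun, mem_supp, Pi.single_apply]
      by_cases hk : k = i
      · have := hcv i (by simp)
        rw [if_neg (Ne.symm hj)] at this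
        rw [hk, this]
        simp
      · rw [if_neg hk]; split_ifs <;> simp
    have h := congrArg (fun x => ((x • eight i : leechLattice) : GolayPt → ℤ) j) (hg (signElt c hc))
    simp only [mul_smul, e1] at h
    rw [signElt_smul] at h
    simp only [signFun, mem_supp, hcv j (by simp), if_true] at h
    omega
  have hval : ∀ i, ∃ a : ℤ, ((g • eight i : leechLattice) : GolayPt → ℤ) = Pi.single i a := fun i =>
    ⟨((g • eight i : leechLattice) : GolayPt → ℤ) i, funext fun k => by
      by_cases hk : k = i
      · subst hk; simp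
      · rw [Pi.single_eq_of_ne hk, hsupp i k hk]⟩
  choose a ha using hval
  have hn : ∀ i, a i = 8 ∨ a i = -8 := by
    intro i
    have h := co0_norm g (eight i)
    rw [ha, eight_val] at h
    simp only [sqNorm, Pi.single_apply, ite_pow, ne_eq, OfNat.ofNat_ne_zero, not_false_eq_true,
      zero_pow, sum_ite_eq', mem_univ, if_true] at h
    rcases eq_or_eq_neg_of_sq_eq_sq _ _ h with h | h <;> omega
  have hconst : ∀ i, a i = a none := by
    intro i
    obtain ⟨σ, hσ, hσi⟩ := Mathieu.M24_exists_map_point none i
    have e1 : permElt σ hσ • eight none = eight i := by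
      apply Subtype.ext
      funext k
      rw [permElt_smul]
      simp only [eight_val, Pi.single_apply, Equiv.symm_apply_eq, hσi]
    have h := congrArg (fun x => ((x • eight none : leechLattice) : GolayPt → ℤ) i)
      (hg (permElt σ hσ))
    simp only [mul_smul, e1, ha] at h
    rw [permElt_smul] at h
    simp only [ha, ← hσi, Equiv.symm_apply_apply, Pi.single_eq_same] at h
    rw [hσi] at h
    omega
  rcases hn none with h | h
  · refine Or.inl (co0_ext _ _ fun i => Subtype.ext ?_)
    rw [one_smul, ha, hconst, h, eight_val]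
  · refine Or.inr (co0_ext _ _ fun i => Subtype.ext ?_)
    rw [negElt_smul, AddSubgroup.coe_neg, ha, hconst, h, eight_val, ← Pi.single_neg]

theorem card_center : Nat.card (Subgroup.center Co0) = 2 := by
  rw [Nat.card_eq_two_iff]
  refine ⟨1, ⟨negElt, negElt_mem_center⟩, fun e => negElt_ne_one (congrArg Subtype.val e).symm,
    Set.eq_univ_of_forall fun g => ?_⟩
  rcases center_eq g.2 with h | h
  · exact Or.inl (Subtype.ext h)
  · exact Or.inr (Subtype.ext h)

end Cfsg.Agent.Leech
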