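/-
Conway's element: reflection in the tetrads of a sextet, one tetrad negated.
-/
import Cfsg.Agent.Lib.Leech.Monomial

set_option autoImplicit false

namespace Cfsg.Agent.Leech

open Cfsg Finset

/-- The sextet of the tetrad {∞, 0, 1, 2}. -/
def tet (p : GolayPt) : Fin 6 :=
  ([0, 0, 0, 3, 1, 3, 4, 4, 5, 2, 2, 5, 5, 1, 3, 2, 1, 3, 5, 4, 2, 4, 1, 0] : List (Fin 6)).getD
    (Mathieu.ptEnc p).val 0

/-- Sum over a tetrad. -/
def tetSum (x : GolayPt → ℤ) (k : Fin 6) : ℤ := ∑ i ∈ univ.filter (fun i => tet i = k), x i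

theorem tet_card : ∀ k : Fin 6, (univ.filter fun i => tet i = k).card = 4 := by decide +kernel

/-- Sign of a tetrad. -/
def tetSign (k : Fin 6) : ℤ := if k = 0 then -1 else 1

theorem tetSign_sq (k : Fin 6) : tetSign k * tetSign k = 1 := by
  unfold tetSign; split_ifs <;> norm_num

/-- Conway's map. -/
def xiFun (x : GolayPt → ℤ) : GolayPt → ℤ :=
  fun i => tetSign (tet i) * (x i - tetSum x (tet i) / 2)

theorem tetSum_even {x : GolayPt → ℤ} (hx : InL x) (k : Fin 6) : 2 ∣ tetSum x k := by
  have h : ∑ i ∈ univ.filter (fun i => tet i = k), (x i - x none) +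
      ((univ.filter fun i => tet i = k).card : ℤ) * x none = tetSum x k := by
    rw [sum_sub_distrib, sum_const, nsmul_eq_mul, sub_add_cancel, tetSum]
  rw [← h, tet_card]
  refine dvd_add (Finset.dvd_sum fun i _ => ?_) ⟨2 * x none, by push_cast; ring⟩
  have := hx.1 i
  omega

theorem xiFun_add {x y : GolayPt → ℤ} (hx : InL x) (hy : InL y) :
    xiFun (x + y) = xiFun x + xiFun y := by
  funext i
  have h : tetSum (x + y) (tet i) = tetSum x (tet i) + tetSum y (tet i) := sum_add_distrib
  simp only [xiFun, Pi.add_apply, h, Int.add_ediv_of_dvd_left (tetSum_even hx _)]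
  ring

theorem xiFun_zero : xiFun 0 = 0 := by
  funext i; simp [xiFun, tetSum]

theorem tetSum_xiFun {x : GolayPt → ℤ} (hx : InL x) (k : Fin 6) :
    tetSum (xiFun x) k = -(tetSign k * tetSum x k) := by
  obtain ⟨s, hs⟩ := tetSum_even hx k
  have : ∀ i ∈ univ.filter (fun i => tet i = k), xiFun x i = tetSign k * x i - tetSign k * s := by
    intro i hi
    rw [xiFun, (mem_filter.1 hi).2, hs, Int.mul_ediv_cancel_left _ (by norm_num)]
    ring
  rw [tetSum, sum_congr rfl this, sum_sub_distrib, ← mul_sum, sum_const, tet_card, nsmul_eq_mul,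
    ← tetSum, hs]
  push_cast
  ring

theorem xiFun_xiFun {x : GolayPt → ℤ} (hx : InL x) : xiFun (xiFun x) = x := by
  funext i
  obtain ⟨s, hs⟩ := tetSum_even hx (tet i)
  show tetSign (tet i) * (xiFun x i - tetSum (xiFun x) (tet i) / 2) = x i
  rw [tetSum_xiFun hx, xiFun, hs, Int.mul_ediv_cancel_left _ (by norm_num),
    show -(tetSign (tet i) * (2 * s)) = 2 * -(tetSign (tet i) * s) by ring,
    Int.mul_ediv_cancel_left _ (by norm_num)]
  linear_combination (x i) * tetSign_sq (tet i)

theorem sqNorm_xiFun {x : GolayPt → ℤ} (hx : InL x) : sqNorm (xiFun x) = sqNorm x := by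
  simp only [sqNorm]
  rw [← sum_fiberwise univ tet, ← sum_fiberwise univ tet fun i => x i ^ 2]
  refine sum_congr rfl fun k _ => ?_
  obtain ⟨s, hs⟩ := tetSum_even hx k
  have : ∀ i ∈ univ.filter (fun i => tet i = k), xiFun x i ^ 2 = x i ^ 2 - 2 * s * x i + s ^ 2 := by
    intro i hi
    rw [xiFun, (mem_filter.1 hi).2, hs, Int.mul_ediv_cancel_left _ (by norm_num), mul_pow, sq (tetSign k),
      tetSign_sq]
    ring
  rw [sum_congr rfl this, sum_add_distrib, sum_sub_distrib, ← mul_sum, sum_const, tet_card,
    nsmul_eq_mul, show ∑ i ∈ univ.filter (fun i => tet i = k), x i = 2 * s from hs]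
  push_cast
  ring

/-! ### `xiFun` preserves the lattice -/

/-- Decidable membership test. -/
def inLB (x : GolayPt → ℤ) : Bool :=
  decide (∀ i, x i % 2 = x none % 2) &&
    Mathieu.inCode (∑ i, if x i / 2 % 2 = 1 then 2 ^ (Mathieu.ptEnc i).val else 0) &&
    decide ((∑ i, x i) % 8 = 4 * x none % 8) &&
    decide (∀ i, x i / 2 % 2 = if Mathieu.hasPt
      (∑ i, if x i / 2 % 2 = 1 then 2 ^ (Mathieu.ptEnc i).val else 0) i then 1 else 0)

theorem inL_of_inLB {x : GolayPt → ℤ} (h : inLB x = true) : InL x := by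
  simp only [inLB, Bool.and_eq_true, decide_eq_true_eq] at h
  obtain ⟨⟨⟨h1, h2⟩, h3⟩, h4⟩ := h
  refine ⟨h1, ?_, h3⟩
  have : hb x = Mathieu.wordOf (∑ i, if x i / 2 % 2 = 1 then 2 ^ (Mathieu.ptEnc i).val else 0) := by
    funext i
    have := h4 i
    rw [Mathieu.wordOf]
    split_ifs at this ⊢
    · exact hb_eq_one_iff.2 this
    · exact hb_eq_zero_iff.2 this
  rw [this]
  exact Mathieu.wordOf_mem_of_inCode h2

/-- Finitely many generators. -/
def latGens : List (GolayPt → ℤ) :=
  (List.range 24).map (fun k =>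
    (Pi.single (Mathieu.idx Mathieu.ptEnc k) 4 + Pi.single none 4 : GolayPt → ℤ)) ++
  [oddVec] ++ Mathieu.codeBasis.map (fun b i => 2 * if Mathieu.hasPt b i then 1 else 0)

theorem latGens_ok : latGens.all (fun g => inLB g && inLB (xiFun g)) = true := by decide +kernel

theorem mem_closure_latGens {x : GolayPt → ℤ} (hx : InL x) :
    x ∈ AddSubgroup.closure {g | g ∈ latGens} := by
  set M := AddSubgroup.closure {g : GolayPt → ℤ | g ∈ latGens} with hM
  have hle : ∀ y ∈ M, InL y := fun y hy => (AddSubgroup.closure_le lattice).2 (fun g hg => by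
    have := List.all_eq_true.1 latGens_ok g hg
    rw [Bool.and_eq_true] at this
    exact inL_of_inLB this.1) hy
  have hpair : ∀ i, (Pi.single i 4 + Pi.single none 4 : GolayPt → ℤ) ∈ M := fun i =>
    AddSubgroup.subset_closure (List.mem_append_left _ (List.mem_append_left _ (List.mem_map.2
      ⟨(Mathieu.ptEnc i).val, List.mem_range.2 (Mathieu.ptEnc i).isLt, by
        rw [show Mathieu.idx Mathieu.ptEnc (Mathieu.ptEnc i).val = i by
          simp [Mathieu.idx]]⟩)))
  have four : ∀ y : GolayPt → ℤ, 2 ∣ ∑ i, y i → (fun i => 4 * y i) ∈ M := by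
    intro y hy
    obtain ⟨k, hk⟩ := hy
    have h8 : (Pi.single none 8 : GolayPt → ℤ) ∈ M := by
      have := hpair none
      rwa [← Pi.single_add] at this
    have h := sub_mem (sum_mem fun i (_ : i ∈ univ) => M.zsmul_mem (hpair i) (y i))
      (M.zsmul_mem h8 k)
    convert h using 1
    funext l
    simp only [Pi.sub_apply, Finset.sum_apply, Pi.smul_apply, Pi.add_apply, smul_eq_mul, mul_add,
      sum_add_distrib, Pi.single_apply, mul_ite, mul_zero, sum_ite_eq, mem_univ, if_true]
    split_ifs with hl
    · rw [← sum_mul, hk]; ring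
    · simp [mul_comm]
  have word : ∀ w ∈ golayCode, (fun i => 2 * ind w i) ∈ M := by
    intro w hw
    obtain ⟨m, hm, rfl⟩ := Mathieu.mem_golayCode_iff.1 hw
    rw [Mathieu.inCode, beq_iff_eq] at hm
    rw [← hm]
    have hb : ∀ b ∈ Mathieu.codeBasis, (fun i => 2 * ind (Mathieu.wordOf b) i) ∈ M ∧
        Mathieu.wordOf b ∈ golayCode := fun b hb => by
      have hinb : Mathieu.inCode b = true := by
        revert b; decide +kernel
      refine ⟨AddSubgroup.subset_closure ?_, Mathieu.wordOf_mem_of_inCode hinb⟩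
      refine List.mem_append_right _ (List.mem_map.2 ⟨b, hb, ?_⟩)
      funext i
      simp only [ind, Mathieu.wordOf]
      by_cases h : Mathieu.hasPt b i = true <;> simp [h]
    clear hw hm
    suffices ∀ bs : List ℕ, (∀ b ∈ bs, (fun i => 2 * ind (Mathieu.wordOf b) i) ∈ M ∧
        Mathieu.wordOf b ∈ golayCode) → ∀ c,
        (fun i => 2 * ind (Mathieu.wordOf (Mathieu.encC bs c)) i) ∈ M ∧
          Mathieu.wordOf (Mathieu.encC bs c) ∈ golayCode from (this _ hb m).1
    intro bs
    induction bs with
    | nil =>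
      intro _ c
      have h0 : Mathieu.wordOf (Mathieu.encC [] c) = 0 := by
        funext i; simp [Mathieu.encC, Mathieu.wordOf, Mathieu.hasPt]
      rw [h0]
      refine ⟨?_, zero_mem _⟩
      convert M.zero_mem using 1
      funext i; simp [ind]
    | cons b bs ih =>
      intro h c
      have ih := ih (fun a ha => h a (List.mem_cons_of_mem _ ha)) (c / 2)
      rw [Mathieu.encC]
      split_ifs with hc
      · obtain ⟨hg1, hg2⟩ := h b List.mem_cons_self
        obtain ⟨ha1, ha2⟩ := ih
        rw [Mathieu.wordOf_xor]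
        refine ⟨?_, add_mem hg2 ha2⟩
        set u := Mathieu.wordOf b
        set v := Mathieu.wordOf (Mathieu.encC bs (c / 2))
        have hev : 2 ∣ ∑ i, ind u i * ind v i := by
          have h := inter_card_even hg2 ha2
          have he : ∑ i, ind u i * ind v i = ((support₂ u ∩ support₂ v).card : ℤ) := by
            simp only [ind, ite_mul, one_mul, zero_mul, ← ite_and, sum_boole]
            congr 1
            exact congrArg card (by ext i; simp [mem_supp])
          rw [he]
          exact_mod_cast h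
        convert sub_mem (add_mem hg1 ha1) (four _ hev) using 1
        funext i
        simp only [Pi.sub_apply, Pi.add_apply, ind]
        rcases zmod2_cases (u i) with h | h <;> rcases zmod2_cases (v i) with h' | h' <;> simp [h, h']
      · rw [Nat.zero_xor]; exact ih
  have hev : ∀ x, InL x → x none % 2 = 0 → x ∈ M := by
    intro x hx h0
    have h2 := word _ hx.2.1
    have hL : InL (x - fun i => 2 * ind (hb x) i) := lattice.sub_mem hx (hle _ h2)
    have hdiv : ∀ i, 4 ∣ (x - fun i => 2 * ind (hb x) i) i := fun i => by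
      have hp := hx.1 i
      simp only [Pi.sub_apply, ind]
      split_ifs with h
      · rw [hb_eq_one_iff] at h; omega
      · rw [hb_eq_one_iff] at h; omega
    choose y hy using hdiv
    have heq : (x - fun i => 2 * ind (hb x) i) = fun i => 4 * y i := funext hy
    have hsum : 2 ∣ ∑ i, y i := by
      have h3 := hL.2.2
      rw [heq] at h3
      simp only [← mul_sum] at h3
      omega
    have := add_mem h2 (four y hsum)
    rw [← heq] at this
    simpa using this
  rcases Int.emod_two_eq_zero_or_one (x none) with h | h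
  · exact hev x hx h
  · have ho : oddVec ∈ M := AddSubgroup.subset_closure
      (List.mem_append_left _ (List.mem_append_right _ (List.mem_singleton.2 rfl)))
    have := add_mem ho (hev _ (lattice.sub_mem hx inL_oddVec) (by
      simp only [Pi.sub_apply, show oddVec none = -3 from rfl]; omega))
    simpa using this

theorem inL_xiFun {x : GolayPt → ℤ} (hx : InL x) : InL (xiFun x) := by
  have key : ∀ y ∈ AddSubgroup.closure {g : GolayPt → ℤ | g ∈ latGens}, InL y ∧ InL (xiFun y) := by
    intro y hy
    induction hy using AddSubgroup.closure_induction with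
    | mem g hg =>
      have := List.all_eq_true.1 latGens_ok g hg
      rw [Bool.and_eq_true] at this
      exact ⟨inL_of_inLB this.1, inL_of_inLB this.2⟩
    | zero => exact ⟨inL_zero, by rw [xiFun_zero]; exact inL_zero⟩
    | add a b _ _ iha ihb =>
      exact ⟨inL_add iha.1 ihb.1, by rw [xiFun_add iha.1 ihb.1]; exact inL_add iha.2 ihb.2⟩
    | neg a _ iha =>
      refine ⟨inL_neg iha.1, ?_⟩
      have h := xiFun_add iha.1 (inL_neg iha.1)
      rw [add_neg_cancel, xiFun_zero] at h
      rw [eq_neg_of_add_eq_zero_right h.symm]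
      exact inL_neg iha.2
  exact (key x (mem_closure_latGens hx)).2

/-- Conway's element of `Co0`. -/
def xiElt : Co0 :=
  mkCo0 xiFun xiFun (fun _ _ hx hy => xiFun_add hx hy) (fun _ hx => sqNorm_xiFun hx)
    (fun _ hx => inL_xiFun hx) (fun _ hx => inL_xiFun hx) (fun _ hx => xiFun_xiFun hx)
    (fun _ hx => xiFun_xiFun hx)

theorem xiElt_smul (v : leechLattice) :
    ((xiElt • v : leechLattice) : GolayPt → ℤ) = xiFun v := rfl

end Cfsg.Agent.Leech
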