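/-
Transitivity of `Co0` on the shells of norm 32, 48, 64.

Every even vector with a proper code word moves to an odd one; odd vectors have one or two
normal forms up to the monomial group, joined to the vectors divisible by 4 by explicit words.
-/
import Cfsg.Agent.Lib.Leech.Xi
import Cfsg.Agent.Lib.Mathieu.Generators

set_option autoImplicit false

namespace Cfsg.Agent.Leech

open Cfsg Finset

/-- The monomial group. -/
def monGrp : Subgroup Co0 := Subgroup.closure {g | FixesStd g}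

/-- The group generated by the monomial group and Conway's element. -/
def monXi : Subgroup Co0 := monGrp ⊔ Subgroup.zpowers xiElt

/-- The monomial group (`false`) or its extension by Conway's element (`true`). -/
def grp : Bool → Subgroup Co0
  | false => monGrp
  | true => monXi

theorem grp_le (b : Bool) : grp b ≤ grp true := by
  cases b
  · exact le_sup_left
  · exact le_rfl

theorem grp_le_or_left (a b : Bool) : grp a ≤ grp (a || b) := by
  cases a <;> cases b <;> first | exact le_rfl | exact grp_le _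

theorem grp_le_or_right (a b : Bool) : grp b ≤ grp (a || b) := by
  cases a <;> cases b <;> first | exact le_rfl | exact grp_le _

theorem permElt_mem (σ : Equiv.Perm GolayPt) (hσ : σ ∈ M24) : permElt σ hσ ∈ grp false := by
  refine Subgroup.subset_closure ?_
  have : permElt σ hσ = monoElt (⟨σ, hσ⟩, 0) := by
    refine eq_of_smul_eq_smul (α := leechLattice) fun v => Subtype.ext ?_
    rw [permElt_smul, monoElt_smul]
    funext k
    simp [signedPerm, support₂]
  rw [this]
  exact monoElt_fixesStd _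

theorem signElt_mem (c : GolayPt → ZMod 2) (hc : c ∈ golayCode) : signElt c hc ∈ grp false := by
  refine Subgroup.subset_closure ?_
  have : signElt c hc = monoElt (1, ⟨c, hc⟩) := by
    refine eq_of_smul_eq_smul (α := leechLattice) fun v => Subtype.ext ?_
    rw [signElt_smul, monoElt_smul]
    rfl
  rw [this]
  exact monoElt_fixesStd _

theorem xiElt_mem : xiElt ∈ grp true :=
  Subgroup.mem_sup_right (Subgroup.mem_zpowers xiElt)

/-- `y` is an image of `x` under the monomial group, resp. its extension by Conway's element. -/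
def Reach (b : Bool) (x y : GolayPt → ℤ) : Prop :=
  InL x ∧ InL y ∧ ∃ g ∈ grp b, ∀ v : leechLattice, (v : GolayPt → ℤ) = x →
    ((g • v : leechLattice) : GolayPt → ℤ) = y

theorem Reach.trans {a b : Bool} {x y z : GolayPt → ℤ} (h : Reach a x y) (h' : Reach b y z) :
    Reach (a || b) x z := by
  obtain ⟨hx, -, g, hgm, hg⟩ := h
  obtain ⟨-, hz, g', hgm', hg'⟩ := h'
  exact ⟨hx, hz, g' * g, mul_mem (grp_le_or_right a b hgm') (grp_le_or_left a b hgm),
    fun v hv => by rw [mul_smul]; exact hg' _ (hg v hv)⟩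

theorem Reach.up {b : Bool} {x y : GolayPt → ℤ} (h : Reach b x y) : Reach true x y := by
  obtain ⟨hx, hy, g, hgm, hg⟩ := h
  exact ⟨hx, hy, g, grp_le b hgm, hg⟩

theorem Reach.symm {b : Bool} {x y : GolayPt → ℤ} (h : Reach b x y) : Reach b y x := by
  obtain ⟨hx, hy, g, hgm, hg⟩ := h
  refine ⟨hy, hx, g⁻¹, inv_mem hgm, fun v hv => ?_⟩
  have : g • (⟨x, mem_leechLattice.2 hx⟩ : leechLattice) = v :=
    Subtype.ext ((hg _ rfl).trans hv.symm)
  rw [← this, inv_smul_smul]

theorem reach_of_elt {x : GolayPt → ℤ} (hx : InL x) {b : Bool} (g : Co0) (hgm : g ∈ grp b) :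
    Reach b x ((g • (⟨x, mem_leechLattice.2 hx⟩ : leechLattice) : leechLattice) : GolayPt → ℤ) :=
  ⟨hx, mem_leechLattice.1 (g • (⟨x, mem_leechLattice.2 hx⟩ : leechLattice)).2, g, hgm, fun v hv => by
    rw [show v = ⟨x, mem_leechLattice.2 hx⟩ from Subtype.ext hv]⟩

theorem reach_perm {x y : GolayPt → ℤ} (hx : InL x) {σ : Equiv.Perm GolayPt} (hσ : σ ∈ M24)
    (h : ∀ i, y (σ i) = x i) : Reach false x y := by
  have := reach_of_elt hx (permElt σ hσ) (permElt_mem σ hσ)
  rw [permElt_smul] at this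
  convert this using 1
  funext i
  simpa using h (σ.symm i)

theorem reach_sign {x : GolayPt → ℤ} (hx : InL x) {c : GolayPt → ZMod 2} (hc : c ∈ golayCode) :
    Reach false x (signFun c x) :=
  reach_of_elt hx (signElt c hc) (signElt_mem c hc)

theorem reach_mask {x y : GolayPt → ℤ} (hx : InL x) (m : ℕ) (hm : Mathieu.inCode m = true)
    (h : ∀ i, y i = if Mathieu.hasPt m i then -x i else x i) : Reach false x y := by
  convert reach_sign hx (Mathieu.wordOf_mem_of_inCode hm) using 1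
  funext i
  rw [h i, signFun]
  simp only [mem_supp, Mathieu.wordOf]
  by_cases hi : Mathieu.hasPt m i = true <;> simp [hi]

theorem reach_xi {x : GolayPt → ℤ} (hx : InL x) : Reach true x (xiFun x) := reach_of_elt hx xiElt xiElt_mem

theorem Reach.sqNorm_eq {b : Bool} {x y : GolayPt → ℤ} (h : Reach b x y) : sqNorm y = sqNorm x := by
  obtain ⟨hx, -, g, -, hg⟩ := h
  rw [← hg ⟨x, mem_leechLattice.2 hx⟩ rfl]
  exact co0_norm g _

/-- The vector with values `v` at the points `t` and `d` elsewhere. -/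
def patt {k : ℕ} (t : Fin k → GolayPt) (v : Fin k → ℤ) (d : ℤ) : GolayPt → ℤ :=
  fun p => d + ∑ i, if t i = p then v i - d else 0

theorem reach_patt {k : ℕ} (hk : k ≤ 5) {x : GolayPt → ℤ} (hx : InL x) (s t : Fin k ↪ GolayPt)
    (v : Fin k → ℤ) (d : ℤ) (hs : ∀ i, x (s i) = v i) (hd : ∀ p, (∀ i, s i ≠ p) → x p = d) :
    Reach false x (patt t v d) := by
  obtain ⟨σ, hσ, h⟩ := Mathieu.M24_exists_map hk s t
  refine reach_perm hx hσ fun p => ?_
  by_cases hp : ∃ i, s i = p
  · obtain ⟨i, rfl⟩ := hp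
    rw [hs, h, patt, Fintype.sum_eq_single i fun j hj => if_neg fun e => hj (t.injective e),
      if_pos rfl, add_sub_cancel]
  · push Not at hp
    rw [hd p hp, patt, sum_eq_zero, add_zero]
    intro i _
    rw [if_neg]
    intro e
    rw [← h i] at e
    exact hp i (σ.injective e)

theorem exists_enum {k : ℕ} (S : Finset GolayPt) (h : S.card = k) :
    ∃ s : Fin k ↪ GolayPt, ∀ p, p ∈ S ↔ ∃ i, s i = p :=
  ⟨(S.equivFinOfCardEq h).symm.toEmbedding.trans (Function.Embedding.subtype _), fun p =>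
    ⟨fun hp => ⟨S.equivFinOfCardEq h ⟨p, hp⟩, by simp⟩, fun ⟨i, hi⟩ => by
      subst hi; exact ((S.equivFinOfCardEq h).symm i).2⟩⟩

/-- First points: residues `0, …, k-1`. -/
def resEmb (k : ℕ) (hk : k ≤ 23) : Fin k ↪ GolayPt :=
  ⟨fun i => some ((i.val : ℕ) : ZMod 23), fun a b h => by
    have h' := congrArg ZMod.val (Option.some.inj h)
    rw [ZMod.val_natCast_of_lt (by omega), ZMod.val_natCast_of_lt (by omega)] at h'
    exact Fin.ext h'⟩

/-- The tetrad ∞, 0, 1, 2. -/
def tetEmb : Fin 4 ↪ GolayPt := ⟨![none, some 0, some 1, some 2], by decide⟩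

/-- Base vector (4, 4, 0²²). -/
def base32 : GolayPt → ℤ := patt ![none, some 0] ![4, 4] 0
/-- Base vector ((-3)³, 1²¹). -/
def base48 : GolayPt → ℤ := patt (resEmb 3 (by norm_num)) (fun _ => -3) 1
/-- Base vector (8, 0²³). -/
def base64 : GolayPt → ℤ := patt ![none] ![8] 0

/-! ### Vectors divisible by 4 -/

/-- Signs can be prescribed on at most five points. -/
theorem reach_signs {x : GolayPt → ℤ} (hx : InL x) (T : Finset GolayPt) (hT : T.card ≤ 5)
    (hz : ∀ p ∉ T, x p = 0) (w : GolayPt → ℤ) (hw : ∀ p ∈ T, w p = x p ∨ w p = -x p)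
    (hw0 : ∀ p ∉ T, w p = 0) : Reach false x w := by
  classical
  obtain ⟨c, hc, hcv⟩ := code_interp T hT fun p => if w p = x p then 0 else 1
  convert reach_sign hx hc using 1
  funext p
  simp only [signFun, mem_supp]
  by_cases hp : p ∈ T
  · rw [hcv p hp]
    by_cases he : w p = x p
    · simp [he]
    · rw [if_neg he, if_pos rfl]
      exact (hw p hp).resolve_left he
  · rw [hw0 p hp, hz p hp, neg_zero, ite_self]

theorem four_shape {x : GolayPt → ℤ} (hx : InL x) (hpar : x none % 2 = 0) (h0 : hb x = 0) :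
    ∃ y : GolayPt → ℤ, (∀ i, x i = 4 * y i) ∧ 2 ∣ ∑ i, y i ∧ sqNorm x = 16 * ∑ i, y i ^ 2 := by
  refine ⟨fun i => x i / 4, ?_, ?_, ?_⟩
  all_goals
    have h4 : ∀ i, x i = 4 * (x i / 4) := fun i => by
      have := hx.1 i
      have := hb_eq_zero_iff.1 (congrFun h0 i)
      omega
  · exact h4
  · have h := hx.2.2
    rw [sum_congr rfl fun i _ => h4 i, ← mul_sum] at h
    dsimp only
    omega
  · simp only [sqNorm, mul_sum]
    refine sum_congr rfl fun i _ => ?_
    conv_lhs => rw [h4 i]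
    ring

theorem sum_sq_small {y : GolayPt → ℤ} (h : ∀ i, y i ^ 2 ≤ 1) :
    ∑ i, y i ^ 2 = ((univ.filter fun i => y i ≠ 0).card : ℤ) := by
  rw [← sum_boole (fun i => y i ≠ 0) univ]
  refine sum_congr rfl fun i _ => ?_
  by_cases hi : y i = 0
  · simp [hi]
  · have := pow_two_pos_of_ne_zero hi
    have := h i
    rw [if_pos hi]
    omega

theorem even_sum_sq {y : GolayPt → ℤ} : 2 ∣ ∑ i, y i → 2 ∣ ∑ i, y i ^ 2 := by
  intro h
  have h2 : (2 : ℤ) ∣ ∑ i, (y i ^ 2 - y i) := Finset.dvd_sum fun i _ => by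
    rw [show y i ^ 2 - y i = y i * (y i - 1) by ring]
    exact (Int.even_mul_pred_self (y i)).two_dvd
  rw [sum_sub_distrib] at h2
  omega

theorem four32 {x : GolayPt → ℤ} (hx : InL x) (hpar : x none % 2 = 0) (h0 : hb x = 0)
    (hn : sqNorm x = 32) : Reach false x base32 := by
  obtain ⟨y, hy, -, hN⟩ := four_shape hx hpar h0
  have hsum : ∑ i, y i ^ 2 = 2 := by omega
  have hsmall : ∀ i, y i ^ 2 ≤ 1 := fun i => by
    have h1 : y i ^ 2 ≤ 2 := hsum ▸ Finset.single_le_sum (fun j _ => sq_nonneg (y j)) (mem_univ i)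
    have h2 : -1 ≤ y i ∧ y i ≤ 1 := ⟨by nlinarith, by nlinarith⟩
    obtain ⟨a, b⟩ := h2
    interval_cases (y i) <;> norm_num
  set S := univ.filter fun i => y i ≠ 0 with hS
  have hc : S.card = 2 := by exact_mod_cast (sum_sq_small hsmall).symm.trans hsum
  obtain ⟨s, hs⟩ := exists_enum S hc
  have hz : ∀ p ∉ S, x p = 0 := fun p hp => by
    have : y p = 0 := by simpa [hS] using hp
    rw [hy, this, mul_zero]
  have h1 : Reach false x (fun p => if p ∈ S then 4 else 0) :=
    reach_signs hx S (by omega) hz _ (fun p hp => by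
      have hp' : y p ≠ 0 := (mem_filter.1 hp).2
      have hy2 := hsmall p
      have a : -1 ≤ y p := by nlinarith
      have b : y p ≤ 1 := by nlinarith
      simp only [if_pos hp, hy p]
      omega) (fun p hp => if_neg hp)
  refine h1.trans (reach_patt (by norm_num) h1.2.1 s ⟨![none, some 0], by decide⟩ ![4, 4] 0 ?_ ?_)
  · intro i
    rw [if_pos ((hs _).2 ⟨i, rfl⟩)]
    fin_cases i <;> rfl
  · intro p hp
    rw [if_neg fun h => by obtain ⟨i, hi⟩ := (hs p).1 h; exact hp i hi]

theorem four48 {x : GolayPt → ℤ} (hx : InL x) (hpar : x none % 2 = 0) (h0 : hb x = 0)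
    (hn : sqNorm x = 48) : False := by
  obtain ⟨y, -, h2, hN⟩ := four_shape hx hpar h0
  obtain ⟨k, hk⟩ := even_sum_sq h2
  omega

theorem four64_cases {x : GolayPt → ℤ} (hx : InL x) (hpar : x none % 2 = 0) (h0 : hb x = 0)
    (hn : sqNorm x = 64) :
    Reach false x base64 ∨ Reach false x (patt tetEmb ![4, 4, 4, -4] 0) := by
  obtain ⟨y, hy, -, hN⟩ := four_shape hx hpar h0
  have hsum : ∑ i, y i ^ 2 = 4 := by omega
  have hb2 : ∀ i, -2 ≤ y i ∧ y i ≤ 2 := fun i => by
    have h1 : y i ^ 2 ≤ 4 := hsum ▸ Finset.single_le_sum (fun j _ => sq_nonneg (y j)) (mem_univ i)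
    exact ⟨by nlinarith, by nlinarith⟩
  have toBase : ∀ {z : GolayPt → ℤ}, InL z → ∀ a, z a = 8 → (∀ p, p ≠ a → z p = 0) →
      Reach false z base64 := fun {z} hz a ha hne =>
    reach_patt (by norm_num) hz ⟨![a], Function.injective_of_subsingleton _⟩
      ⟨![none], Function.injective_of_subsingleton _⟩ ![8] 0
      (fun i => by fin_cases i; exact ha) (fun p hp => hne p (Ne.symm (hp 0)))
  by_cases htwo : ∃ a, y a = 2 ∨ y a = -2
  · obtain ⟨a, ha⟩ := htwo
    have hz : ∀ p ∉ ({a} : Finset GolayPt), x p = 0 := fun p hp => by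
      rw [mem_singleton] at hp
      have hle : ∑ q ∈ ({a, p} : Finset GolayPt), y q ^ 2 ≤ 4 :=
        hsum ▸ sum_le_sum_of_subset_of_nonneg (subset_univ _) fun _ _ _ => sq_nonneg _
      rw [sum_pair (Ne.symm hp)] at hle
      have : y a ^ 2 = 4 := by rcases ha with h | h <;> rw [h] <;> norm_num
      have : y p = 0 := by
        by_contra h
        have := pow_two_pos_of_ne_zero h
        omega
      rw [hy, this, mul_zero]
    have h1 : Reach false x (fun p => if p = a then 8 else 0) :=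
      reach_signs hx {a} (by simp) hz _ (fun p hp => by
        rw [mem_singleton] at hp
        subst hp
        simp only [if_true, hy p]
        omega) (fun p hp => if_neg (by simpa using hp))
    exact Or.inl (h1.trans (toBase h1.2.1 a (if_pos rfl) fun p hp => if_neg hp))
  push Not at htwo
  have hsmall : ∀ i, y i ^ 2 ≤ 1 := fun i => by
    obtain ⟨a, b⟩ := hb2 i
    have := htwo i
    have : -1 ≤ y i ∧ y i ≤ 1 := by omega
    nlinarith
  set S := univ.filter fun i => y i ≠ 0 with hS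
  have hc : S.card = 4 := by exact_mod_cast (sum_sq_small hsmall).symm.trans hsum
  obtain ⟨s, hs⟩ := exists_enum S hc
  have hz : ∀ p ∉ S, x p = 0 := fun p hp => by
    have : y p = 0 := by simpa [hS] using hp
    rw [hy, this, mul_zero]
  have h1 : Reach false x (fun p => if p ∈ S then (if p = s 3 then -4 else 4) else 0) :=
    reach_signs hx S (by omega) hz _ (fun p hp => by
      have hp' : y p ≠ 0 := (mem_filter.1 hp).2
      have hy2 := hsmall p
      have a : -1 ≤ y p := by nlinarith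
      have b : y p ≤ 1 := by nlinarith
      simp only [if_pos hp, hy p]
      split_ifs <;> omega) (fun p hp => if_neg hp)
  have h2 : Reach false (fun p => if p ∈ S then (if p = s 3 then -4 else 4) else 0)
      (patt tetEmb ![4, 4, 4, -4] 0) := by
    refine reach_patt (by norm_num) h1.2.1 s tetEmb _ 0 ?_ ?_
    · intro i
      rw [if_pos ((hs _).2 ⟨i, rfl⟩)]
      fin_cases i <;> simp
    · intro p hp
      rw [if_neg fun h => by obtain ⟨i, hi⟩ := (hs p).1 h; exact hp i hi]
  exact Or.inr (h1.trans h2)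

theorem four64 {x : GolayPt → ℤ} (hx : InL x) (hpar : x none % 2 = 0) (h0 : hb x = 0)
    (hn : sqNorm x = 64) : Reach true x base64 := by
  rcases four64_cases hx hpar h0 hn with h | h
  · exact h.up
  have h3 : ∀ p, xiFun (patt tetEmb ![4, 4, 4, -4] 0) p = if p = some 2 then 8 else 0 := by
    decide +kernel
  exact h.trans ((reach_xi h.2.1).trans (reach_patt (by norm_num) (inL_xiFun h.2.1)
    ⟨![some 2], Function.injective_of_subsingleton _⟩ ⟨![none], Function.injective_of_subsingleton _⟩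
    ![8] 0 (fun i => by fin_cases i; rw [h3]; rfl)
    (fun p hp => by rw [h3, if_neg fun e => hp 0 e.symm])))

/-! ### Even to odd -/

theorem hb_card_le {x : GolayPt → ℤ} (hx : InL x) (hpar : x none % 2 = 0)
    (hn : sqNorm x ≤ 64) : (support₂ (hb x)).card ≤ 16 := by
  rcases code_weight hx.2.1 with h | h | h | h | h
  all_goals try omega
  exfalso
  have h4 : ∀ i, 4 ≤ x i ^ 2 := fun i => by
    have hu : i ∈ support₂ (hb x) := by
      rw [eq_univ_of_card _ (h.trans (show 24 = Fintype.card GolayPt from rfl))]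
      exact mem_univ i
    rw [mem_supp, hb_eq_one_iff] at hu
    have hp := hx.1 i
    rcases le_or_gt (x i) (-2) with h' | h'
    · nlinarith
    · have : 2 ≤ x i := by omega
      nlinarith
  have : ∑ _i : GolayPt, (4 : ℤ) ≤ sqNorm x := sum_le_sum fun i _ => h4 i
  rw [sum_const, card_univ, show Fintype.card GolayPt = 24 from rfl] at this
  norm_num at this
  omega

theorem tet_zero_filter : univ.filter (fun i => tet i = 0) =
    ({none, some 0, some 1, some 2} : Finset GolayPt) := by decide +kernel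

theorem even_to_odd {x : GolayPt → ℤ} (hx : InL x) (hpar : x none % 2 = 0) (h0 : hb x ≠ 0)
    (hn : sqNorm x ≤ 64) : ∃ y, Reach true x y ∧ y none % 2 = 1 := by
  obtain ⟨a, ha⟩ := Function.ne_iff.1 h0
  have ha1 : hb x a = 1 := zmod2_eq_one_of_ne ha
  have hc : 3 ≤ (univ \ support₂ (hb x)).card := by
    have := hb_card_le hx hpar hn
    rw [card_sdiff_of_subset (subset_univ _), card_univ, show Fintype.card GolayPt = 24 from rfl]
    omega
  obtain ⟨T, hT, hT3⟩ := exists_subset_card_eq hc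
  obtain ⟨b, c, d, hbc, hbd, hcd, rfl⟩ := card_eq_three.1 hT3
  have hz : ∀ q ∈ ({b, c, d} : Finset GolayPt), hb x q = 0 ∧ q ≠ a := fun q hq => by
    have h := (mem_sdiff.1 (hT hq)).2
    rw [mem_supp] at h
    exact ⟨(zmod2_cases _).resolve_right h, fun e => h (e ▸ ha1)⟩
  obtain ⟨hb0, hba⟩ := hz b (by simp)
  obtain ⟨hc0, hca⟩ := hz c (by simp)
  obtain ⟨hd0, hda⟩ := hz d (by simp)
  obtain ⟨σ, hσ, hσs⟩ := Mathieu.M24_exists_map (k := 4) (by norm_num)
    ⟨![a, b, c, d], by
      intro i j h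
      fin_cases i <;> fin_cases j <;> simp [hba, hca, hda, hbc, hbd, hcd, hba.symm, hca.symm,
        hda.symm, hbc.symm, hbd.symm, hcd.symm] at h ⊢⟩ tetEmb
  set z : GolayPt → ℤ := fun p => x (σ.symm p) with hzdef
  have h1 : Reach false x z := reach_perm hx hσ fun i => by simp [hzdef]
  have hz0 : z none = x a := by
    simp only [hzdef]; rw [← show σ a = none from hσs 0, Equiv.symm_apply_apply]
  have hz1 : z (some 0) = x b := by
    simp only [hzdef]; rw [← show σ b = some 0 from hσs 1, Equiv.symm_apply_apply]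
  have hz2 : z (some 1) = x c := by
    simp only [hzdef]; rw [← show σ c = some 1 from hσs 2, Equiv.symm_apply_apply]
  have hz3 : z (some 2) = x d := by
    simp only [hzdef]; rw [← show σ d = some 2 from hσs 3, Equiv.symm_apply_apply]
  refine ⟨xiFun z, h1.trans (reach_xi h1.2.1), ?_⟩
  have ht : tet none = 0 := by decide +kernel
  have hsum : tetSum z 0 = x a + x b + x c + x d := by
    rw [tetSum, tet_zero_filter, sum_insert (by decide), sum_insert (by decide),
      sum_pair (by decide), hz0, hz1, hz2, hz3]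
    ring
  rw [hb_eq_one_iff] at ha1
  rw [hb_eq_zero_iff] at hb0 hc0 hd0
  have := hx.1 a; have := hx.1 b; have := hx.1 c; have := hx.1 d
  rw [xiFun, ht, hsum, hz0, tetSign, if_pos rfl]
  omega

/-! ### Odd vectors -/

theorem odd_normal {x : GolayPt → ℤ} (hx : InL x) (hpar : x none % 2 = 1) :
    ∃ z, Reach false x z ∧ ∀ i, z i % 4 = 1 := by
  refine ⟨_, reach_sign hx hx.2.1, fun i => ?_⟩
  have := hx.1 i
  simp only [signFun, mem_supp, hb_eq_one_iff]
  split_ifs <;> omega

theorem odd_counts {z : GolayPt → ℤ} (hz : InL z) (h1 : ∀ i, z i % 4 = 1) {N : ℕ} (hN : N ≤ 64)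
    (hn : sqNorm z = N) : ∃ a b c : ℕ, (univ.filter fun i => z i = -3).card = a ∧
      (univ.filter fun i => z i = 5).card = b ∧ (univ.filter fun i => z i = -7).card = c ∧
      24 + 8 * a + 24 * b + 48 * c = N ∧ (a + b) % 2 = 1 ∧
      ∀ i, z i = 1 ∨ z i = -3 ∨ z i = 5 ∨ z i = -7 := by
  have hv : ∀ i, z i = 1 ∨ z i = -3 ∨ z i = 5 ∨ z i = -7 := fun i => by
    obtain ⟨l, u⟩ := coord_bound (x := z) (by rw [hn]; exact_mod_cast hN) i
    have := h1 i
    omega
  refine ⟨_, _, _, rfl, rfl, rfl, ?_, ?_, hv⟩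
  · have h : ∀ i, z i ^ 2 = 1 + 8 * (if z i = -3 then 1 else 0) + 24 * (if z i = 5 then 1 else 0) +
        48 * (if z i = -7 then 1 else 0) := fun i => by
      rcases hv i with h | h | h | h <;> rw [h] <;> norm_num
    have hs := hn
    simp only [sqNorm, h, sum_add_distrib, ← mul_sum, sum_boole, sum_const, card_univ] at hs
    rw [show Fintype.card GolayPt = 24 from rfl] at hs
    push_cast [nsmul_eq_mul] at hs
    omega
  · have h : ∀ i, z i = 1 + -4 * (if z i = -3 then 1 else 0) + 4 * (if z i = 5 then 1 else 0) +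
        -8 * (if z i = -7 then 1 else 0) := fun i => by
      rcases hv i with h | h | h | h <;> rw [h] <;> norm_num
    have hs := hz.2.2
    rw [sum_congr rfl fun i _ => h i] at hs
    simp only [sum_add_distrib, ← mul_sum, sum_boole, sum_const, card_univ] at hs
    rw [show Fintype.card GolayPt = 24 from rfl] at hs
    push_cast [nsmul_eq_mul] at hs
    have := h1 none
    omega

theorem threes_reach {z : GolayPt → ℤ} (hz : InL z) {a : ℕ} (ha5 : a ≤ 5)
    (ha : (univ.filter fun i => z i = -3).card = a)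
    (hv : ∀ i, z i = 1 ∨ z i = -3) :
    Reach false z (patt (resEmb a (by omega)) (fun _ => -3) 1) := by
  obtain ⟨s, hs⟩ := exists_enum _ ha
  refine reach_patt ha5 hz s _ _ 1 (fun i => (mem_filter.1 ((hs _).2 ⟨i, rfl⟩)).2) fun p hp => ?_
  refine (hv p).resolve_right fun h => ?_
  obtain ⟨i, hi⟩ := (hs p).1 (by simp [h])
  exact hp i hi

theorem five_reach {z : GolayPt → ℤ} (hz : InL z) {a : ℕ} (ha4 : a ≤ 4)
    (ha : (univ.filter fun i => z i = -3).card = a) (hb5 : (univ.filter fun i => z i = 5).card = 1)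
    (hv : ∀ i, z i = 1 ∨ z i = -3 ∨ z i = 5) :
    Reach false z (patt (resEmb (a + 1) (by omega)) (Fin.cons 5 fun _ => -3) 1) := by
  obtain ⟨q, hq⟩ := card_eq_one.1 hb5
  have hq5 : z q = 5 := by
    have : q ∈ univ.filter (fun i => z i = 5) := hq ▸ mem_singleton_self q
    exact (mem_filter.1 this).2
  obtain ⟨s, hs⟩ := exists_enum _ ha
  have hs3 : ∀ i, z (s i) = -3 := fun i => (mem_filter.1 ((hs _).2 ⟨i, rfl⟩)).2
  have hinj : Function.Injective (Fin.cons q s : Fin (a + 1) → GolayPt) := by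
    rw [Fin.cons_injective_iff]
    refine ⟨?_, s.injective⟩
    rintro ⟨i, hi⟩
    have := hs3 i
    rw [hi, hq5] at this
    norm_num at this
  refine reach_patt (by omega) hz ⟨_, hinj⟩ _ _ 1 ?_ fun p hp => ?_
  · intro i
    refine Fin.cases ?_ ?_ i
    · exact hq5
    · intro j; exact hs3 j
  rcases hv p with h | h | h
  · exact h
  · obtain ⟨i, hi⟩ := (hs p).1 (by simp [h])
    exact absurd (show (Fin.cons q s : Fin (a + 1) → GolayPt) i.succ = p from hi) (hp i.succ)
  · have : p = q := mem_singleton.1 (hq ▸ mem_filter.2 ⟨mem_univ p, h⟩)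
    exact absurd (show (Fin.cons q s : Fin (a + 1) → GolayPt) 0 = p from this.symm) (hp 0)

/-! ### Explicit words -/

/-- Vector from its list of coordinates. -/
def vecOf (l : List ℤ) : GolayPt → ℤ := fun p => l.getD (Mathieu.ptEnc p).val 0

theorem mul_two_mem :
    Equiv.optionCongr (Units.mulLeft (ZMod.unitOfCoprime 2 (by decide : Nat.Coprime 2 23))) ∈ M24 :=
  Mathieu.optionCongr_mulLeft_mem _
    ⟨ZMod.unitOfCoprime 5 (by decide : Nat.Coprime 5 23), Units.ext (by decide +kernel)⟩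

theorem step_shift {x : GolayPt → ℤ} (hx : InL x) {y : GolayPt → ℤ}
    (h : ∀ p, y (Equiv.optionCongr (Equiv.addRight (1 : ZMod 23)) p) = x p) : Reach false x y :=
  reach_perm hx Mathieu.translation_mem h

theorem step_inv {x : GolayPt → ℤ} (hx : InL x) {y : GolayPt → ℤ}
    (h : ∀ p, y (projInvFun p) = x p) : Reach false x y :=
  reach_perm hx Mathieu.projInv_mem h

theorem step_twist {x : GolayPt → ℤ} (hx : InL x) {y : GolayPt → ℤ}
    (h : ∀ p, y (cubeTwistFun p) = x p) : Reach false x y :=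
  reach_perm hx Mathieu.cubeTwist_mem h

theorem step_xi {x : GolayPt → ℤ} (hx : InL x) {y : GolayPt → ℤ}
    (h : ∀ p, xiFun x p = y p) : Reach true x y := funext h ▸ reach_xi hx

theorem word_C {z : GolayPt → ℤ} (h : Reach false z (patt (resEmb 1 (by norm_num)) (fun _ => -3) 1)) :
    ∃ y, Reach true z y ∧ y none % 2 = 0 ∧ hb y = 0 := by
  have h1 := h.trans (reach_mask h.2.1 6308804 (by decide +kernel) (y := vecOf
    [-3, 1, -1, 1, 1, 1, -1, -1, -1, -1, 1, 1, 1, 1, -1, 1, 1, 1, 1, 1, 1, -1, -1, 1]) (by decide +kernel))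
  have h2 := h1.trans (step_xi h1.2.1 (y := vecOf
    [2, -2, 0, 0, 0, 0, 0, 0, -2, -2, 0, 0, 0, 0, -2, 0, 0, 0, 0, 2, 0, 0, -2, -2]) (by decide +kernel))
  have h3 := h2.trans (step_shift h2.2.1 (y := vecOf
    [-2, 2, -2, 0, 0, 0, 0, 0, 0, -2, -2, 0, 0, 0, 0, -2, 0, 0, 0, 0, 2, 0, 0, -2]) (by decide +kernel))
  have h4 := h3.trans (step_xi h3.2.1 (y := vecOf
    [0, -4, 0, 0, 0, 0, 0, 0, 0, 0, 0, 0, 0, 0, 0, 0, 0, 0, 0, 0, 4, 0, 0, 0]) (by decide +kernel))
  exact ⟨_, h4, by decide +kernel, by decide +kernel⟩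

theorem word_A {z : GolayPt → ℤ} (h : Reach false z (patt (resEmb 5 (by norm_num)) (fun _ => -3) 1)) :
    ∃ y, Reach true z y ∧ y none % 2 = 0 ∧ hb y = 0 := by
  have h1 := h.trans (reach_mask h.2.1 7331072 (by decide +kernel) (y := vecOf
    [-3, -3, -3, -3, -3, 1, 1, 1, -1, 1, -1, -1, -1, 1, -1, -1, -1, -1, -1, -1, 1, -1, -1, 1]) (by decide +kernel))
  have h2 := h1.trans (step_inv h1.2.1 (y := vecOf
    [1, -1, -1, -1, -1, 1, -1, 1, 1, 1, -1, -3, -1, 1, -1, -3, -1, -3, -1, 1, -1, -1, -3, -3]) (by decide +kernel))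
  have h3 := h2.trans (step_xi h2.2.1 (y := vecOf
    [-3, -1, -1, 1, 1, 3, -1, 1, 3, 3, 1, -1, 1, 3, 1, -1, 1, -1, 1, 1, 1, -1, -1, 1]) (by decide +kernel))
  have h4 := h3.trans (step_twist h3.2.1 (y := vecOf
    [-3, -1, 1, 1, 1, 1, -1, 1, 1, 3, 1, -1, 3, 1, -1, -1, 3, 1, -1, -1, -1, 3, 1, 1]) (by decide +kernel))
  have h5 := h4.trans (step_xi h4.2.1 (y := vecOf
    [2, 0, -2, 0, -2, 0, -2, 0, 0, 2, 0, -2, 2, -2, -2, -2, 0, 0, -2, -2, -2, 2, -2, -2]) (by decide +kernel))
  have h6 := h5.trans (step_inv h5.2.1 (y := vecOf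
    [-2, -2, -2, -2, 0, 2, -2, -2, -2, 0, 0, -2, 2, 0, -2, 0, 0, -2, -2, -2, 0, 2, 0, 2]) (by decide +kernel))
  have h7 := h6.trans (step_xi h6.2.1 (y := vecOf
    [0, 0, 0, 0, 0, 4, 0, 0, 0, 0, 0, 0, 4, 0, 0, 0, 0, 0, 0, 0, 0, 4, 0, -4]) (by decide +kernel))
  exact ⟨_, h7, by decide +kernel, by decide +kernel⟩

theorem word_B {z : GolayPt → ℤ}
    (h : Reach false z (patt (resEmb 3 (by norm_num)) (Fin.cons 5 fun _ => -3) 1)) :
    ∃ y, Reach true z y ∧ y none % 2 = 0 ∧ hb y = 0 := by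
  have h1 := h.trans (reach_mask h.2.1 9866579 (by decide +kernel) (y := vecOf
    [-5, 3, -3, 1, -1, 1, -1, 1, -1, 1, -1, -1, 1, 1, 1, -1, 1, -1, -1, 1, -1, 1, 1, -1]) (by decide +kernel))
  have h2 := h1.trans (step_xi h1.2.1 (y := vecOf
    [2, -6, 0, 0, -2, 0, -2, 0, 0, 2, 0, 0, 2, 0, 0, 0, 0, -2, 0, 0, 0, 0, 0, -2]) (by decide +kernel))
  have h3 := h2.trans (reach_perm h2.2.1 mul_two_mem (y := vecOf
    [2, 2, -6, 0, 0, 0, 0, 0, -2, 0, 0, -2, -2, 0, 0, 0, 0, 0, 2, 0, 0, 0, 0, -2]) (by decide +kernel))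
  have h4 := h3.trans (step_xi h3.2.1 (y := vecOf
    [-4, -4, 4, 0, 0, 0, 0, 0, 0, 0, 0, 0, 0, 0, 0, 0, 0, 0, 4, 0, 0, 0, 0, 0]) (by decide +kernel))
  exact ⟨_, h4, by decide +kernel, by decide +kernel⟩

/-! ### Transitivity -/

theorem odd32 {x : GolayPt → ℤ} (hx : InL x) (hpar : x none % 2 = 1) (hn : sqNorm x = 32) :
    ∃ y, Reach true x y ∧ y none % 2 = 0 ∧ hb y = 0 := by
  obtain ⟨z, hz, h1⟩ := odd_normal hx hpar
  obtain ⟨a, b, c, ha, hb', hc, hN, hab, hv⟩ := odd_counts hz.2.1 h1 (N := 32) (by norm_num)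
    (hz.sqNorm_eq.trans hn)
  obtain ⟨rfl, rfl, rfl⟩ : a = 1 ∧ b = 0 ∧ c = 0 := by omega
  have hv' : ∀ i, z i = 1 ∨ z i = -3 := fun i => by
    rcases hv i with h | h | h | h
    · exact Or.inl h
    · exact Or.inr h
    · exact absurd (card_eq_zero.1 hb') (Finset.Nonempty.ne_empty ⟨i, by simp [h]⟩)
    · exact absurd (card_eq_zero.1 hc) (Finset.Nonempty.ne_empty ⟨i, by simp [h]⟩)
  obtain ⟨y, hy, h⟩ := word_C (hz.trans (threes_reach hz.2.1 (by norm_num) ha hv'))
  exact ⟨y, hy, h⟩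

theorem odd64 {x : GolayPt → ℤ} (hx : InL x) (hpar : x none % 2 = 1) (hn : sqNorm x = 64) :
    ∃ y, Reach true x y ∧ y none % 2 = 0 ∧ hb y = 0 := by
  obtain ⟨z, hz, h1⟩ := odd_normal hx hpar
  obtain ⟨a, b, c, ha, hb', hc, hN, hab, hv⟩ := odd_counts hz.2.1 h1 (N := 64) (by norm_num)
    (hz.sqNorm_eq.trans hn)
  rcases (show (a = 5 ∧ b = 0 ∧ c = 0) ∨ (a = 2 ∧ b = 1 ∧ c = 0) by omega) with
    ⟨rfl, rfl, rfl⟩ | ⟨rfl, rfl, rfl⟩
  · have hv' : ∀ i, z i = 1 ∨ z i = -3 := fun i => by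
      rcases hv i with h | h | h | h
      · exact Or.inl h
      · exact Or.inr h
      · exact absurd (card_eq_zero.1 hb') (Finset.Nonempty.ne_empty ⟨i, by simp [h]⟩)
      · exact absurd (card_eq_zero.1 hc) (Finset.Nonempty.ne_empty ⟨i, by simp [h]⟩)
    obtain ⟨y, hy, h⟩ := word_A (hz.trans (threes_reach hz.2.1 (by norm_num) ha hv'))
    exact ⟨y, hy, h⟩
  · have hv' : ∀ i, z i = 1 ∨ z i = -3 ∨ z i = 5 := fun i => by
      rcases hv i with h | h | h | h
      · exact Or.inl h
      · exact Or.inr (Or.inl h)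
      · exact Or.inr (Or.inr h)
      · exact absurd (card_eq_zero.1 hc) (Finset.Nonempty.ne_empty ⟨i, by simp [h]⟩)
    obtain ⟨y, hy, h⟩ := word_B (hz.trans (five_reach hz.2.1 (by norm_num) ha hb' hv'))
    exact ⟨y, hy, h⟩

theorem odd48 {x : GolayPt → ℤ} (hx : InL x) (hpar : x none % 2 = 1) (hn : sqNorm x = 48) :
    Reach true x base48 := by
  obtain ⟨z, hz, h1⟩ := odd_normal hx hpar
  obtain ⟨a, b, c, ha, hb', hc, hN, hab, hv⟩ := odd_counts hz.2.1 h1 (N := 48) (by norm_num)
    (hz.sqNorm_eq.trans hn)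
  rcases (show (a = 3 ∧ b = 0 ∧ c = 0) ∨ (a = 0 ∧ b = 1 ∧ c = 0) by omega) with
    ⟨rfl, rfl, rfl⟩ | ⟨rfl, rfl, rfl⟩
  · have hv' : ∀ i, z i = 1 ∨ z i = -3 := fun i => by
      rcases hv i with h | h | h | h
      · exact Or.inl h
      · exact Or.inr h
      · exact absurd (card_eq_zero.1 hb') (Finset.Nonempty.ne_empty ⟨i, by simp [h]⟩)
      · exact absurd (card_eq_zero.1 hc) (Finset.Nonempty.ne_empty ⟨i, by simp [h]⟩)
    exact (hz.trans (threes_reach hz.2.1 (by norm_num) ha hv')).up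
  · have hv' : ∀ i, z i = 1 ∨ z i = -3 ∨ z i = 5 := fun i => by
      rcases hv i with h | h | h | h
      · exact Or.inl h
      · exact Or.inr (Or.inl h)
      · exact Or.inr (Or.inr h)
      · exact absurd (card_eq_zero.1 hc) (Finset.Nonempty.ne_empty ⟨i, by simp [h]⟩)
    have h := hz.trans (five_reach hz.2.1 (by norm_num) ha hb' hv')
    change Reach false x (patt (resEmb 1 (by norm_num)) (Fin.cons 5 fun _ => -3) 1) at h
    have h1 := h.trans (step_xi h.2.1 (y := vecOf
      [-1, 3, 3, -1, -1, -1, -1, -1, -1, -1, -1, -1, -1, -1, -1, -1, -1, -1, -1, -1, -1, -1, -1, 3]) (by decide +kernel))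
    have h2 := h1.trans (reach_mask h1.2.1 16777215 (by decide +kernel) (y := vecOf
      [1, -3, -3, 1, 1, 1, 1, 1, 1, 1, 1, 1, 1, 1, 1, 1, 1, 1, 1, 1, 1, 1, 1, -3]) (by decide +kernel))
    refine h2.trans (threes_reach h2.2.1 (by norm_num) (by decide +kernel) ?_)
    decide +kernel

theorem reach32 {x : GolayPt → ℤ} (hx : InL x) (hn : sqNorm x = 32) : Reach true x base32 := by
  have hodd : ∀ {w}, InL w → w none % 2 = 1 → sqNorm w = 32 → Reach true w base32 := fun hw hp hn' => by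
    obtain ⟨y, hy, hy0, hyh⟩ := odd32 hw hp hn'
    exact hy.trans (four32 hy.2.1 hy0 hyh (hy.sqNorm_eq.trans hn'))
  rcases Int.emod_two_eq_zero_or_one (x none) with h | h
  · by_cases h0 : hb x = 0
    · exact (four32 hx h h0 hn).up
    · obtain ⟨y, hy, hy1⟩ := even_to_odd hx h h0 (by omega)
      exact hy.trans (hodd hy.2.1 hy1 (hy.sqNorm_eq.trans hn))
  · exact hodd hx h hn

theorem reach48 {x : GolayPt → ℤ} (hx : InL x) (hn : sqNorm x = 48) : Reach true x base48 := by
  rcases Int.emod_two_eq_zero_or_one (x none) with h | h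
  · by_cases h0 : hb x = 0
    · exact (four48 hx h h0 hn).elim
    · obtain ⟨y, hy, hy1⟩ := even_to_odd hx h h0 (by omega)
      exact hy.trans (odd48 hy.2.1 hy1 (hy.sqNorm_eq.trans hn))
  · exact odd48 hx h hn

theorem reach64 {x : GolayPt → ℤ} (hx : InL x) (hn : sqNorm x = 64) : Reach true x base64 := by
  have hodd : ∀ {w}, InL w → w none % 2 = 1 → sqNorm w = 64 → Reach true w base64 := fun hw hp hn' => by
    obtain ⟨y, hy, hy0, hyh⟩ := odd64 hw hp hn'
    exact hy.trans (four64 hy.2.1 hy0 hyh (hy.sqNorm_eq.trans hn'))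
  rcases Int.emod_two_eq_zero_or_one (x none) with h | h
  · by_cases h0 : hb x = 0
    · exact four64 hx h h0 hn
    · obtain ⟨y, hy, hy1⟩ := even_to_odd hx h h0 (by omega)
      exact hy.trans (hodd hy.2.1 hy1 (hy.sqNorm_eq.trans hn))
  · exact hodd hx h hn

/-- Vectors of equal norm 32, 48 or 64 are conjugate under the generated group. -/
theorem monXi_transitive (v w : leechLattice) (N : ℤ) (hN : N = 32 ∨ N = 48 ∨ N = 64)
    (hv : sqNorm (v : GolayPt → ℤ) = N) (hw : sqNorm (w : GolayPt → ℤ) = N) :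
    ∃ g ∈ monXi, g • v = w := by
  have key : Reach true (v : GolayPt → ℤ) (w : GolayPt → ℤ) := by
    have hv' := mem_leechLattice.1 v.2
    have hw' := mem_leechLattice.1 w.2
    rcases hN with rfl | rfl | rfl
    · exact (reach32 hv' hv).trans (reach32 hw' hw).symm
    · exact (reach48 hv' hv).trans (reach48 hw' hw).symm
    · exact (reach64 hv' hv).trans (reach64 hw' hw).symm
  obtain ⟨-, -, g, hgm, hg⟩ := key
  exact ⟨g, hgm, Subtype.ext (hg v rfl)⟩

/-- Vectors of equal norm 32, 48 or 64 are conjugate. -/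
theorem co0_transitive (v w : leechLattice) (N : ℤ) (hN : N = 32 ∨ N = 48 ∨ N = 64)
    (hv : sqNorm (v : GolayPt → ℤ) = N) (hw : sqNorm (w : GolayPt → ℤ) = N) :
    ∃ g : Co0, g • v = w :=
  (monXi_transitive v w N hN hv hw).imp fun _ h => h.2

end Cfsg.Agent.Leech
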