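/-
The 196560 minimal vectors as an explicit list of codes, complete and without repetition.
-/
import Cfsg.Agent.Lib.Leech.Orbits
import Cfsg.Agent.Lib.Mathieu.Stab.Common

set_option autoImplicit false

namespace Cfsg.Agent.Leech

open Cfsg Finset

/-- A minimal vector: two fours, an octad with signs, or a signed (-3, 1²³). -/
inductive MinCode
  | four (i j : ℕ) (si sj : Bool)
  | two (m s : ℕ)
  | odd (k c : ℕ)
deriving DecidableEq

/-- The sign of a bit. -/
def sgn (b : Bool) : ℤ := if b then -1 else 1

/-- Coordinate number `n`. -/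
def MinCode.at : MinCode → ℕ → ℤ
  | .four i j si sj, n => if n = i then 4 * sgn si else if n = j then 4 * sgn sj else 0
  | .two m s, n => if m.testBit n then 2 * sgn (s.testBit n) else 0
  | .odd k c, n => (if n = k then -3 else 1) * sgn (c.testBit n)

/-- The vector of a code. -/
def MinCode.val (t : MinCode) : GolayPt → ℤ := fun p => t.at (Mathieu.ptEnc p).val

/-- The codes of shape (4², 0²²). -/
def minFour : List MinCode := (List.range 24).flatMap fun j => (List.range j).flatMap fun i =>
  [.four i j false false, .four i j false true, .four i j true false, .four i j true true]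

/-- The codes of shape (2⁸, 0¹⁶). -/
def minTwo : List MinCode := (Mathieu.maskList 8).flatMap fun m =>
  ((Mathieu.subMasks 24 m).filter fun s => Mathieu.popc 24 s % 2 == 0).map (.two m)

/-- The codes of shape (-3, 1²³) with signs. -/
def minOdd : List MinCode := (List.range 24).flatMap fun k => Mathieu.codeList.map (.odd k)

/-- All codes of minimal vectors. -/
def minList : List MinCode := minFour ++ minTwo ++ minOdd

theorem signFun_val_odd (k : Fin 24) (c : ℕ) :
    signFun (Mathieu.wordOf c) (fun p => if p = Mathieu.ptEnc.symm k then -3 else 1) =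
      (MinCode.odd k c).val := by
  funext p
  simp only [signFun, mem_supp, Mathieu.wordOf, MinCode.val, MinCode.at, Equiv.eq_symm_apply,
    Fin.ext_iff, sgn, Mathieu.hasPt]
  by_cases h : c.testBit (Mathieu.ptEnc p).val = true <;> simp [h]

theorem exists_four {x : GolayPt → ℤ} (hx : InL x) (hp : x none % 2 = 0) (h0 : hb x = 0)
    (hn : sqNorm x = 32) : ∃ t ∈ minList, t.val = x := by
  obtain ⟨y, hy, -, hN⟩ := four_shape hx hp h0
  have hsum : ∑ i, y i ^ 2 = 2 := by omega
  have hsmall : ∀ i, y i ^ 2 ≤ 1 := fun i => by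
    have h1 : y i ^ 2 ≤ 2 := hsum ▸ Finset.single_le_sum (fun j _ => sq_nonneg (y j)) (mem_univ i)
    have h2 : -1 ≤ y i ∧ y i ≤ 1 := ⟨by nlinarith, by nlinarith⟩
    obtain ⟨a, b⟩ := h2
    interval_cases (y i) <;> norm_num
  have hc : (univ.filter fun i => y i ≠ 0).card = 2 := by
    exact_mod_cast (sum_sq_small hsmall).symm.trans hsum
  obtain ⟨i, j, hij, hS⟩ := card_eq_two.1 hc
  have key : ∀ i j : GolayPt, (Mathieu.ptEnc i).val < (Mathieu.ptEnc j).val →
      (∀ p, y p ≠ 0 ↔ p = i ∨ p = j) → ∃ t ∈ minList, t.val = x := by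
    intro i j hlt hiff
    refine ⟨.four (Mathieu.ptEnc i).val (Mathieu.ptEnc j).val (y i < 0) (y j < 0), ?_, ?_⟩
    · refine List.mem_append_left _ (List.mem_append_left _ ?_)
      simp only [minFour, List.mem_flatMap, List.mem_range]
      refine ⟨_, (Mathieu.ptEnc j).isLt, _, hlt, ?_⟩
      by_cases a : y i < 0 <;> by_cases b : y j < 0 <;> simp [a, b]
    · funext p
      have e : ∀ q, (Mathieu.ptEnc p).val = (Mathieu.ptEnc q).val ↔ p = q := fun q => by
        rw [← Fin.ext_iff, Equiv.apply_eq_iff_eq]
      have hy1 : -1 ≤ y p ∧ y p ≤ 1 := by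
        have := hsmall p; constructor <;> nlinarith
      simp only [MinCode.val, MinCode.at, sgn, decide_eq_true_eq, e, hy p]
      by_cases h1 : p = i
      · subst h1
        have := (hiff p).2 (Or.inl rfl)
        simp only [if_pos]
        split_ifs <;> omega
      by_cases h2 : p = j
      · subst h2
        have := (hiff p).2 (Or.inr rfl)
        simp only [if_neg h1, if_pos]
        split_ifs <;> omega
      have : y p = 0 := by
        by_contra hne
        exact ((hiff p).1 hne).elim h1 h2
      simp only [if_neg h1, if_neg h2]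
      omega
  have hiff : ∀ p, y p ≠ 0 ↔ p = i ∨ p = j := fun p => by
    simpa using Finset.ext_iff.1 hS p
  rcases Nat.lt_or_ge (Mathieu.ptEnc i).val (Mathieu.ptEnc j).val with h | h
  · exact key i j h hiff
  · refine key j i (lt_of_le_of_ne h fun e => hij ?_) fun p => (hiff p).trans or_comm
    exact Mathieu.ptEnc.injective (Fin.ext e.symm)

theorem exists_two {x : GolayPt → ℤ} (hx : InL x) (hp : x none % 2 = 0) (h0 : hb x ≠ 0)
    (hn : sqNorm x = 32) : ∃ t ∈ minList, t.val = x := by
  have hge : ∀ i, (if i ∈ support₂ (hb x) then (4 : ℤ) else 0) ≤ x i ^ 2 := fun i => by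
    split_ifs with h
    · rw [mem_supp, hb_eq_one_iff] at h
      rcases le_or_gt (x i) (-2) with h' | h'
      · nlinarith
      · have := hx.1 i
        have : 2 ≤ x i := by omega
        nlinarith
    · exact sq_nonneg _
  have hsum : ∑ i, (if i ∈ support₂ (hb x) then (4 : ℤ) else 0) =
      4 * ((support₂ (hb x)).card : ℤ) := by
    rw [← sum_filter, sum_const, filter_univ_mem, nsmul_eq_mul, mul_comm]
  have h8 : (support₂ (hb x)).card = 8 := by
    have h1 := sum_le_sum fun i (_ : i ∈ univ) => hge i
    rw [hsum, show ∑ i, x i ^ 2 = sqNorm x from rfl, hn] at h1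
    have := code_min_weight hx.2.1 h0
    omega
  have heq : ∀ i, x i ^ 2 = if i ∈ support₂ (hb x) then 4 else 0 := fun i => by
    have h1 : ∑ j, (if j ∈ support₂ (hb x) then (4 : ℤ) else 0) = ∑ j, x j ^ 2 := by
      rw [hsum, h8, show ∑ j, x j ^ 2 = sqNorm x from rfl, hn]; norm_num
    exact ((sum_eq_sum_iff_of_le fun j _ => hge j).1 h1 i (mem_univ i)).symm
  have hmem : support₂ (hb x) ∈ octads := ⟨⟨_, hx.2.1, rfl⟩, h8⟩
  obtain ⟨m, hm, hmS⟩ := Mathieu.mem_octads_iff.1 hmem
  obtain ⟨s, hs, hsN⟩ := Mathieu.exists_mask ((support₂ (hb x)).filter fun i => x i < 0)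
  have hval : ∀ p, x p = (if p ∈ support₂ (hb x) then 2 else 0) -
      4 * (if p ∈ (support₂ (hb x)).filter (fun i => x i < 0) then 1 else 0) := fun p => by
    have h := heq p
    by_cases hp' : p ∈ support₂ (hb x)
    · rw [if_pos hp'] at h ⊢
      have : x p = 2 ∨ x p = -2 := by
        rw [show (4 : ℤ) = 2 ^ 2 by norm_num, sq_eq_sq_iff_eq_or_eq_neg] at h
        exact h
      rcases this with e | e
      · rw [if_neg fun h' => by have := (mem_filter.1 h').2; omega, e]; norm_num
      · rw [if_pos (mem_filter.2 ⟨hp', by omega⟩), e]; norm_num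
    · rw [if_neg hp'] at h ⊢
      rw [if_neg fun h' => hp' (mem_filter.1 h').1, (pow_eq_zero_iff two_ne_zero).1 h]
      norm_num
  have hpar : Mathieu.popc 24 s % 2 = 0 := by
    have h3 := hx.2.2
    rw [sum_congr rfl fun p _ => hval p, sum_sub_distrib, ← mul_sum, sum_boole, filter_univ_mem,
      ← sum_filter, sum_const, filter_univ_mem, h8, ← hsN, Mathieu.card_ptsOf] at h3
    generalize Mathieu.popc 24 s = n at h3 ⊢
    rw [nsmul_eq_mul] at h3
    push_cast at h3
    omega
  refine ⟨.two m s, List.mem_append_left _ (List.mem_append_right _ ?_), ?_⟩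
  · simp only [minTwo, List.mem_flatMap, List.mem_map, List.mem_filter, beq_iff_eq]
    refine ⟨m, hm, s, ⟨Mathieu.mem_subMasks 24 m s hs ?_, hpar⟩, rfl⟩
    refine Mathieu.ptsOf_inj (lt_of_le_of_lt Nat.and_le_left hs) hs ?_
    rw [Mathieu.ptsOf_and, hsN, hmS, inter_eq_left]
    exact filter_subset _ _
  · funext p
    rw [hval p, ← hsN, ← hmS]
    simp only [MinCode.val, MinCode.at, sgn, Mathieu.mem_ptsOf, Mathieu.hasPt]
    by_cases a : m.testBit (Mathieu.ptEnc p).val = true
    · by_cases b : s.testBit (Mathieu.ptEnc p).val = true <;> simp [a, b]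
    · have b : ¬ s.testBit (Mathieu.ptEnc p).val = true := fun b => a (by
        have h : p ∈ (support₂ (hb x)).filter (fun i => x i < 0) := hsN ▸ Mathieu.mem_ptsOf.2 b
        have h' := (mem_filter.1 h).1
        rw [← hmS] at h'
        exact Mathieu.mem_ptsOf.1 h')
      simp [a, b]

theorem exists_odd {x : GolayPt → ℤ} (hx : InL x) (hp : x none % 2 = 1) (hn : sqNorm x = 32) :
    ∃ t ∈ minList, t.val = x := by
  set z := signFun (hb x) x with hzdef
  have hzL : InL z := inL_sign hx hx.2.1
  have hz4 : ∀ i, z i % 4 = 1 := fun i => by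
    have := hx.1 i
    simp only [hzdef, signFun, mem_supp, hb_eq_one_iff]
    split_ifs <;> omega
  have hzn : sqNorm z = 32 :=
    hn ▸ sum_congr rfl fun i _ => by simp only [hzdef, signFun]; split_ifs <;> ring
  obtain ⟨a, b, c, ha, hb', hc, hN, -, hv⟩ := odd_counts hzL hz4 (N := 32) (by norm_num) hzn
  obtain ⟨rfl, rfl, rfl⟩ : a = 1 ∧ b = 0 ∧ c = 0 := by omega
  obtain ⟨k, hk⟩ := card_eq_one.1 ha
  have hzv : z = fun p => if p = k then -3 else 1 := funext fun p => by
    have h1 : z p = -3 ↔ p = k := by simpa using Finset.ext_iff.1 hk p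
    by_cases e : p = k
    · rw [if_pos e]; exact h1.2 e
    · rw [if_neg e]
      rcases hv p with h | h | h | h
      · exact h
      · exact absurd (h1.1 h) e
      · exact absurd (card_eq_zero.1 hb') (Finset.Nonempty.ne_empty ⟨p, by simp [h]⟩)
      · exact absurd (card_eq_zero.1 hc) (Finset.Nonempty.ne_empty ⟨p, by simp [h]⟩)
  obtain ⟨m, hm, hmw⟩ := Mathieu.mem_golayCode_iff.1 hx.2.1
  refine ⟨.odd (Mathieu.ptEnc k).val m, List.mem_append_right _ ?_, ?_⟩
  · simp only [minOdd, List.mem_flatMap, List.mem_map, List.mem_range]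
    exact ⟨_, (Mathieu.ptEnc k).isLt, m, Mathieu.inCode_iff_mem.1 hm, rfl⟩
  · rw [← signFun_val_odd, Equiv.symm_apply_apply, hmw, ← hzv, hzdef, signFun_signFun]

/-- Every minimal vector has a code. -/
theorem exists_code {x : GolayPt → ℤ} (hx : InL x) (hn : sqNorm x = 32) :
    ∃ t ∈ minList, t.val = x := by
  rcases Int.emod_two_eq_zero_or_one (x none) with hp | hp
  · by_cases h0 : hb x = 0
    · exact exists_four hx hp h0 hn
    · exact exists_two hx hp h0 hn
  · exact exists_odd hx hp hn

theorem sum_map_bool (p : ℕ → Bool) : ∀ l : List ℕ,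
    (l.map fun i => if p i then 1 else 0).sum = l.countP p
  | [] => rfl
  | a :: l => by rw [List.map_cons, List.sum_cons, sum_map_bool p l, List.countP_cons, add_comm]

theorem subMasks_parity : ∀ n b : ℕ,
    (Mathieu.subMasks n b).length = 2 ^ Mathieu.popc n b ∧
      (Mathieu.subMasks n b).countP (fun s => Mathieu.popc n s % 2 == 0) =
        if Mathieu.popc n b = 0 then 1 else 2 ^ (Mathieu.popc n b - 1)
  | 0, b => by simp [Mathieu.subMasks, Mathieu.popc]
  | n + 1, b => by
    obtain ⟨hl, he⟩ := subMasks_parity n (b / 2)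
    have h2 : ∀ r : ℕ, Mathieu.popc (n + 1) (2 * r) = Mathieu.popc n r := fun r => by
      simp [Mathieu.popc]
    have h3 : ∀ r : ℕ, Mathieu.popc (n + 1) (2 * r + 1) = 1 + Mathieu.popc n r := fun r => by
      simp [Mathieu.popc, show (2 * r + 1) % 2 = 1 by omega, show (2 * r + 1) / 2 = r by omega]
    rcases Nat.mod_two_eq_zero_or_one b with hb | hb
    · have hp : Mathieu.popc (n + 1) b = Mathieu.popc n (b / 2) := by simp [Mathieu.popc, hb]
      rw [Mathieu.subMasks, hp]
      simp only [hb]
      constructor
      · rw [← hl]; simp [List.length_flatMap]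
      · rw [← he, List.countP_flatMap]
        simp only [show ((0 : ℕ) == 1) = false from rfl, List.countP_singleton, h2,
          Bool.false_eq_true, if_false, Function.comp_def]
        exact sum_map_bool (fun s => Mathieu.popc n s % 2 == 0) _
    · have hp : Mathieu.popc (n + 1) b = Mathieu.popc n (b / 2) + 1 := by
        simp [Mathieu.popc, hb, add_comm]
      rw [Mathieu.subMasks, hp]
      simp only [hb]
      constructor
      · rw [pow_succ, ← hl]
        simp [List.length_flatMap, mul_comm]
      · rw [if_neg (Nat.succ_ne_zero _), Nat.add_sub_cancel, ← hl, List.countP_flatMap]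
        simp only [beq_self_eq_true, if_true, List.countP_cons, List.countP_nil, h2, h3,
          Function.comp_def]
        induction Mathieu.subMasks n (b / 2) with
        | nil => rfl
        | cons a l ih =>
          simp only [List.map_cons, List.sum_cons, List.length_cons]
          rcases Nat.mod_two_eq_zero_or_one (Mathieu.popc n a) with h | h <;>
            simp [h, Nat.add_mod] at ih ⊢ <;> omega

theorem length_maskList_eight : (Mathieu.maskList 8).length = 759 := by
  rw [← Mathieu.ncard_wordsOfWeight]
  exact Mathieu.octads_ncard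

theorem length_minList : minList.length = 196560 := by
  have h4 : minFour.length = 1104 := by decide +kernel
  have h2 : minTwo.length = 97152 := by
    rw [minTwo, List.length_flatMap, List.map_congr_left (g := fun _ => 128) fun m hm => ?_]
    · rw [List.map_const', List.sum_replicate, length_maskList_eight]; rfl
    · rw [List.length_map, ← List.countP_eq_length_filter, (subMasks_parity 24 m).2,
        (Mathieu.mem_maskList.1 hm).2]
      rfl
  have h3 : minOdd.length = 98304 := by
    simp [minOdd, List.length_flatMap, Mathieu.codeList]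
  simp [minList, h4, h2, h3]

open scoped Classical in
theorem minList_spec : (minList.map MinCode.val).Nodup ∧
    ∀ x, x ∈ minList.map MinCode.val ↔ InL x ∧ sqNorm x = 32 := by
  have hsub : shellFinset 32 (by norm_num) ⊆ (minList.map MinCode.val).toFinset := fun x hx => by
    rw [mem_shellFinset] at hx
    obtain ⟨t, ht, e⟩ := exists_code hx.1 (by exact_mod_cast hx.2)
    rw [List.mem_toFinset, List.mem_map]
    exact ⟨t, ht, e⟩
  have hcard : (shellFinset 32 (by norm_num)).card = 196560 := by
    rw [card_shellFinset]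
    have hv := shell_values
    simp only [List.cons.injEq] at hv
    omega
  have hle := List.toFinset_card_le (minList.map MinCode.val)
  rw [List.length_map, length_minList] at hle
  have heq := eq_of_subset_of_card_le hsub (by omega)
  refine ⟨?_, fun x => ?_⟩
  · rw [← Multiset.coe_nodup]
    refine Multiset.toFinset_card_eq_card_iff_nodup.1 ?_
    show (minList.map MinCode.val).toFinset.card = (minList.map MinCode.val).length
    rw [← heq, hcard, List.length_map, length_minList]
  · rw [← List.mem_toFinset, ← heq, mem_shellFinset]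
    norm_num

/-- Counting minimal vectors with a property, through their codes. -/
theorem ncard_min (P : (GolayPt → ℤ) → Prop) (q : MinCode → Bool)
    (h : ∀ t ∈ minList, q t = true ↔ P t.val) :
    {x : GolayPt → ℤ | x ∈ leechLattice ∧ sqNorm x = 32 ∧ P x}.ncard = (minList.filter q).length := by
  classical
  have hnd : ((minList.filter q).map MinCode.val).Nodup :=
    minList_spec.1.sublist ((List.filter_sublist).map _)
  have hset : {x : GolayPt → ℤ | x ∈ leechLattice ∧ sqNorm x = 32 ∧ P x} =
      ↑((minList.filter q).map MinCode.val).toFinset := by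
    ext x
    simp only [Set.mem_ofPred_eq, List.coe_toFinset, List.mem_map, List.mem_filter, mem_leechLattice]
    constructor
    · rintro ⟨hx, hn, hP⟩
      obtain ⟨t, ht, rfl⟩ := exists_code hx hn
      exact ⟨t, ⟨ht, (h t ht).2 hP⟩, rfl⟩
    · rintro ⟨t, ⟨ht, hq⟩, rfl⟩
      obtain ⟨h1, h2⟩ := (minList_spec.2 _).1 (List.mem_map_of_mem ht)
      exact ⟨h1, h2, (h t ht).1 hq⟩
  rw [hset, Set.ncard_coe_finset, List.toFinset_card_of_nodup hnd, List.length_map]

theorem ncard_min_sub (P : (GolayPt → ℤ) → Prop) (q : MinCode → Bool)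
    (h : ∀ t ∈ minList, q t = true ↔ P t.val) :
    {x : leechLattice | sqNorm (x : GolayPt → ℤ) = 32 ∧ P x}.ncard = (minList.filter q).length := by
  rw [← ncard_min P q h]
  exact Set.ncard_congr (fun x _ => (x : GolayPt → ℤ)) (fun x hx => ⟨x.2, hx⟩)
    (fun a b _ _ e => Subtype.ext e) fun x hx => ⟨⟨x, hx.1⟩, hx.2, rfl⟩

end Cfsg.Agent.Leech
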