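/-
The order of `Co0`, by orbit and stabiliser on the crosses.
-/
import Cfsg.Agent.Lib.Leech.Orbits

set_option autoImplicit false

namespace Cfsg.Agent.Leech

open Cfsg Finset

/-- Class of a lattice vector. -/
noncomputable def clsV (v : leechLattice) : Classes := cls (v : GolayPt → ℤ)

theorem clsV_eq_iff {v w : leechLattice} :
    clsV v = clsV w ↔ ∃ u : leechLattice, v - w = u + u := by
  rw [clsV, clsV, cls_eq_iff (mem_leechLattice.1 v.2) (mem_leechLattice.1 w.2)]
  constructor
  · rintro ⟨z, hz, e⟩
    exact ⟨⟨z, mem_leechLattice.2 hz⟩, Subtype.ext (by rw [two_nsmul] at e; exact e)⟩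
  · rintro ⟨u, e⟩
    exact ⟨u, mem_leechLattice.1 u.2, by rw [two_nsmul]; exact congrArg Subtype.val e⟩

theorem clsV_smul {g : Co0} {v w : leechLattice} (h : clsV v = clsV w) :
    clsV (g • v) = clsV (g • w) := by
  obtain ⟨u, hu⟩ := clsV_eq_iff.1 h
  refine clsV_eq_iff.2 ⟨g • u, ?_⟩
  have := congrArg (fun x => g • x) hu
  simp only [co0_add, sub_eq_add_neg, co0_neg] at this
  rw [sub_eq_add_neg]
  exact this

theorem clsV_smul_iff {g : Co0} {v w : leechLattice} :
    clsV (g • v) = clsV (g • w) ↔ clsV v = clsV w :=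
  ⟨fun h => by simpa using clsV_smul (g := g⁻¹) h, clsV_smul⟩

theorem sqNorm_eight (i : GolayPt) : sqNorm (eight i : GolayPt → ℤ) = 64 := by
  simp [sqNorm, eight_val, Pi.single_apply, ite_pow]

theorem cls_stdCross {v : leechLattice} (hv : (v : GolayPt → ℤ) ∈ stdCross) :
    clsV v = clsV (eight none) := by
  obtain ⟨i, s, hs, he⟩ := hv
  rw [clsV, clsV, cls_eq_iff (mem_leechLattice.1 v.2) (mem_leechLattice.1 (eight none).2), he, eight_val]
  refine ⟨Pi.single i (s / 2) - Pi.single none 4, ?_, ?_⟩
  · by_cases hi : i = none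
    · subst hi
      rcases hs with rfl | rfl
      · convert inL_zero; simp
      · convert inL_neg (mem_leechLattice.1 (eight none).2) using 1
        rw [eight_val, ← Pi.single_sub, ← Pi.single_neg]; norm_num
    · have h4 := inL_pair hi (s := -4) (Or.inr rfl)
      rcases hs with rfl | rfl
      · convert h4.1 using 1
        rw [sub_eq_add_neg, ← Pi.single_neg]; norm_num
      · convert inL_neg (inL_pair hi (s := 4) (Or.inl rfl)).1 using 1
        rw [sub_eq_add_neg, neg_add, ← Pi.single_neg, ← Pi.single_neg]; norm_num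
  · funext k
    simp only [Pi.sub_apply, Pi.smul_apply, Pi.single_apply, nsmul_eq_mul, Nat.cast_ofNat]
    split_ifs <;> omega

theorem stdCross_iff {v : leechLattice} :
    (v : GolayPt → ℤ) ∈ stdCross ↔
      sqNorm (v : GolayPt → ℤ) = 64 ∧ clsV v = clsV (eight none) := by
  classical
  constructor
  · intro h
    refine ⟨?_, cls_stdCross h⟩
    obtain ⟨i, s, hs, he⟩ := h
    rw [he]
    simp [sqNorm, Pi.single_apply, ite_pow]
    rcases hs with rfl | rfl <;> norm_num
  rintro ⟨hn, hc⟩
  set F := (shellFinset 64 le_rfl).filter fun y => cls y = cls (eight none : GolayPt → ℤ) with hF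
  have hcard : F.card = 48 :=
    classes_count.2 _ (mem_leechLattice.1 (eight none).2) (sqNorm_eight none)
  let f : GolayPt × Bool → GolayPt → ℤ := fun p => Pi.single p.1 (if p.2 then 8 else -8)
  have hf : Function.Injective f := by
    rintro ⟨i, a⟩ ⟨j, b⟩ h
    have hi := congrFun h i
    simp only [f, Pi.single_apply, if_true] at hi
    by_cases hij : i = j
    · subst hij
      simp only [if_true] at hi
      cases a <;> cases b <;> simp at hi ⊢
    · rw [if_neg hij] at hi
      cases a <;> simp at hi
  have hsub : univ.image f ⊆ F := by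
    intro y hy
    obtain ⟨⟨i, a⟩, -, rfl⟩ := mem_image.1 hy
    have hmem : f (i, a) ∈ stdCross := ⟨i, _, by cases a <;> simp, rfl⟩
    have hL : InL (f (i, a)) := by
      cases a
      · convert inL_neg (mem_leechLattice.1 (eight i).2) using 1
        simp [f, eight_val, ← Pi.single_neg]
      · exact mem_leechLattice.1 (eight i).2
    refine mem_filter.2 ⟨mem_shellFinset.2 ⟨hL, ?_⟩, cls_stdCross (v := ⟨_, mem_leechLattice.2 hL⟩) hmem⟩
    cases a <;> simp [f, sqNorm, Pi.single_apply, ite_pow]
  have heq : univ.image f = F := eq_of_subset_of_card_le hsub (by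
    rw [hcard, card_image_of_injective _ hf]; decide)
  have : (v : GolayPt → ℤ) ∈ F := mem_filter.2
    ⟨mem_shellFinset.2 ⟨mem_leechLattice.1 v.2, by exact_mod_cast hn⟩, hc⟩
  rw [← heq] at this
  obtain ⟨⟨i, a⟩, -, e⟩ := mem_image.1 this
  exact ⟨i, _, by cases a <;> simp, e.symm⟩

theorem fixesStd_iff {g : Co0} : FixesStd g ↔ clsV (g • eight none) = clsV (eight none) := by
  refine ⟨fun h => cls_stdCross (h _ (eight_mem_stdCross none)), fun h v hv => ?_⟩
  rw [stdCross_iff] at hv ⊢
  exact ⟨(co0_norm g v).trans hv.1, (clsV_smul hv.2).trans h⟩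

open scoped Classical in
theorem card_co0 : Nat.card Co0 = 8315553613086720000 := by
  let _ := Fintype.ofFinite Co0
  have hfin : Finite Classes := by
    apply Nat.finite_of_card_ne_zero
    rw [show Nat.card Classes = twoLattice.relIndex lattice from rfl, relIndex_twoLattice]
    norm_num
  set F64 := shellFinset 64 le_rfl with hF64
  have hc64 : F64.card = 398034000 := by
    have hv := shell_values
    simp only [List.cons.injEq] at hv
    rw [card_shellFinset]
    omega
  set I := F64.image cls with hI
  have hIc : I.card * 48 = 398034000 := by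
    rw [← hc64, card_eq_sum_card_image cls F64, sum_congr rfl fun c hc => ?_, sum_const, smul_eq_mul]
    obtain ⟨x, hx, rfl⟩ := mem_image.1 hc
    rw [mem_shellFinset] at hx
    exact classes_count.2 x hx.1 hx.2
  let f : Co0 → Classes := fun g => clsV (g • eight none)
  have hmaps : ∀ g ∈ (univ : Finset Co0), f g ∈ I := fun g _ =>
    mem_image_of_mem cls (mem_shellFinset.2
      ⟨mem_leechLattice.1 (g • eight none).2, (co0_norm g _).trans (sqNorm_eight none)⟩)
  have hfib : ∀ c ∈ I, (univ.filter fun g => f g = c).card = 4096 * 244823040 := by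
    intro c hc
    obtain ⟨x, hx, rfl⟩ := mem_image.1 hc
    rw [mem_shellFinset] at hx
    obtain ⟨g0, hg0⟩ := co0_transitive (eight none) ⟨x, mem_leechLattice.2 hx.1⟩ 64
      (Or.inr (Or.inr rfl)) (sqNorm_eight none) hx.2
    have hcx : clsV (g0 • eight none) = cls x := by rw [hg0, clsV]
    rw [← card_fixesStd, Nat.card_eq_fintype_card, Fintype.card_subtype]
    refine card_bij' (fun g _ => g0⁻¹ * g) (fun g _ => g0 * g) ?_ ?_ ?_ ?_
    · intro g hg
      simp only [mem_filter, mem_univ, true_and, f] at hg ⊢
      rw [fixesStd_iff, mul_smul, ← clsV_smul_iff (g := g0), smul_inv_smul, hg, hcx]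
    · intro g hg
      simp only [mem_filter, mem_univ, true_and, f] at hg ⊢
      rw [mul_smul, ← hcx, clsV_smul_iff]
      exact fixesStd_iff.1 hg
    · intro g _; simp
    · intro g _; simp
  rw [Nat.card_eq_fintype_card, ← card_univ,
    card_eq_sum_card_fiberwise hmaps, sum_congr rfl hfib, sum_const, smul_eq_mul]
  omega

end Cfsg.Agent.Leech
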