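/-
How many short vectors have a given dot product with a short vector: the second moment, double
counting along the transitive shells and two counts at eight times a unit vector.
-/
import Cfsg.Agent.Lib.Leech.MinList
import Cfsg.Agent.Lib.Leech.Order

set_option autoImplicit false

namespace Cfsg.Agent.Leech

open Cfsg Finset

/-- The number of vectors of the shell `N` with dot product `d` with `v`. -/
noncomputable def dotCount (N : ℕ) (hN : N ≤ 64) (v : GolayPt → ℤ) (d : ℤ) : ℕ :=
  ((shellFinset N hN).filter fun w => dotInt v w = d).card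

theorem dot_symm (x y : GolayPt → ℤ) : dotInt x y = dotInt y x :=
  sum_congr rfl fun _ _ => mul_comm _ _

theorem dot_add (x y z : GolayPt → ℤ) : dotInt x (y + z) = dotInt x y + dotInt x z := by
  simp [dotInt, mul_add, sum_add_distrib]

theorem dot_neg (x y : GolayPt → ℤ) : dotInt x (-y) = -dotInt x y := by
  simp [dotInt]

theorem dot_sub (x y z : GolayPt → ℤ) : dotInt x (y - z) = dotInt x y - dotInt x z := by
  rw [sub_eq_add_neg, dot_add, dot_neg, ← sub_eq_add_neg]

theorem dot_self (x : GolayPt → ℤ) : dotInt x x = sqNorm x := sum_congr rfl fun i _ => (sq _).symm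

theorem card_shells : (shellFinset 32 (by norm_num)).card = 196560 ∧
    (shellFinset 48 (by norm_num)).card = 16773120 ∧ (shellFinset 64 le_rfl).card = 398034000 := by
  have hv := shell_values
  simp only [List.cons.injEq] at hv
  refine ⟨?_, ?_, ?_⟩ <;> rw [card_shellFinset] <;> omega

theorem dotCount_smul (g : Co0) (v : leechLattice) (N : ℕ) (hN : N ≤ 64) (d : ℤ) :
    dotCount N hN ((g • v : leechLattice) : GolayPt → ℤ) d = dotCount N hN (v : GolayPt → ℤ) d := by
  classical
  have hmem : ∀ {w}, w ∈ shellFinset N hN → w ∈ leechLattice := fun hw =>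
    mem_leechLattice.2 (mem_shellFinset.1 hw).1
  refine card_bij'
    (fun w hw => ((g⁻¹ • ⟨w, hmem (mem_filter.1 hw).1⟩ : leechLattice) : GolayPt → ℤ))
    (fun w hw => ((g • ⟨w, hmem (mem_filter.1 hw).1⟩ : leechLattice) : GolayPt → ℤ)) ?_ ?_ ?_ ?_
  · intro w hw
    obtain ⟨hw1, hw2⟩ := mem_filter.1 hw
    refine mem_filter.2 ⟨mem_shellFinset.2 ⟨mem_leechLattice.1 (SetLike.coe_mem _),
      (co0_norm _ _).trans (mem_shellFinset.1 hw1).2⟩, ?_⟩
    rw [← co0_dot g, smul_inv_smul]
    exact hw2
  · intro w hw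
    obtain ⟨hw1, hw2⟩ := mem_filter.1 hw
    refine mem_filter.2 ⟨mem_shellFinset.2 ⟨mem_leechLattice.1 (SetLike.coe_mem _),
      (co0_norm _ _).trans (mem_shellFinset.1 hw1).2⟩, ?_⟩
    rw [co0_dot g]
    exact hw2
  · intro w hw
    simp
  · intro w hw
    simp

theorem dotCount_const {M : ℕ} (hM : (M : ℤ) = 32 ∨ (M : ℤ) = 48 ∨ (M : ℤ) = 64)
    {v v' : GolayPt → ℤ} (hv : InL v) (hv' : InL v') (hn : sqNorm v = M) (hn' : sqNorm v' = M)
    (N : ℕ) (hN : N ≤ 64) (d : ℤ) : dotCount N hN v d = dotCount N hN v' d := by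
  obtain ⟨g, hg⟩ := co0_transitive ⟨v, mem_leechLattice.2 hv⟩ ⟨v', mem_leechLattice.2 hv'⟩ M hM hn hn'
  have h := dotCount_smul g ⟨v, mem_leechLattice.2 hv⟩ N hN d
  rw [hg] at h
  exact h.symm

/-- Translation by `v`. -/
theorem dotCount_shift {v : GolayPt → ℤ} (hv : InL v) {a : ℤ} (hn : sqNorm v = a) (N M : ℕ)
    (hN : N ≤ 64) (hM : M ≤ 64) (d : ℤ) (hM' : (N : ℤ) + 2 * d + a = M) :
    dotCount N hN v d = dotCount M hM v (d + a) := by
  classical
  refine card_bij' (fun w _ => w + v) (fun e _ => e - v) ?_ ?_ ?_ ?_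
  · intro w hw
    obtain ⟨hw1, hw2⟩ := mem_filter.1 hw
    obtain ⟨hwL, hwn⟩ := mem_shellFinset.1 hw1
    refine mem_filter.2 ⟨mem_shellFinset.2 ⟨inL_add hwL hv, ?_⟩, ?_⟩
    · rw [sqNorm_add, dot_symm, hw2, hwn, hn]; omega
    · rw [dot_add, hw2, dot_self, hn]
  · intro e he
    obtain ⟨he1, he2⟩ := mem_filter.1 he
    obtain ⟨heL, hen⟩ := mem_shellFinset.1 he1
    refine mem_filter.2 ⟨mem_shellFinset.2 ⟨lattice.sub_mem heL hv, ?_⟩, ?_⟩
    · rw [sqNorm_sub, dot_symm, he2, hen, hn]; omega
    · rw [dot_sub, he2, dot_self, hn]; ring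
  · intro w hw; simp
  · intro e he; simp

/-- Double counting between two shells. -/
theorem double_count {M N : ℕ} (hM : (M : ℤ) = 32 ∨ (M : ℤ) = 48 ∨ (M : ℤ) = 64)
    (hN : (N : ℤ) = 32 ∨ (N : ℤ) = 48 ∨ (N : ℤ) = 64) (hM' : M ≤ 64) (hN' : N ≤ 64)
    {v e : GolayPt → ℤ} (hv : InL v) (hvn : sqNorm v = M) (he : InL e) (hen : sqNorm e = N) (d : ℤ) :
    (shellFinset M hM').card * dotCount N hN' v d = (shellFinset N hN').card * dotCount M hM' e d := by
  classical
  refine card_mul_eq_card_mul (fun a b => dotInt a b = d) (fun a ha => ?_) fun b hb => ?_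
  · obtain ⟨h1, h2⟩ := mem_shellFinset.1 ha
    exact dotCount_const hM h1 hv h2 hvn N hN' d
  · obtain ⟨h1, h2⟩ := mem_shellFinset.1 hb
    rw [← dotCount_const hN h1 he h2 hen M hM' d]
    unfold dotCount Finset.bipartiteBelow
    congr 1
    ext a
    simp [dot_symm a b]

/-! ### The second moment -/

theorem cov_offdiag {i j : GolayPt} (h : i ≠ j) :
    ∑ w ∈ shellFinset 32 (by norm_num), w i * w j = 0 := by
  obtain ⟨c, hc, hcv⟩ := code_interp {i, j} (card_le_two.trans (by norm_num))
    fun p => if p = i then 1 else 0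
  have hci : c i = 1 := by rw [hcv i (by simp)]; simp
  have hcj : c j = 0 := by rw [hcv j (by simp)]; simp [h.symm]
  have hmem : ∀ w ∈ shellFinset 32 (by norm_num), signFun c w ∈ shellFinset 32 (by norm_num) := by
    intro w hw
    obtain ⟨h1, h2⟩ := mem_shellFinset.1 hw
    refine mem_shellFinset.2 ⟨inL_sign h1 hc, ?_⟩
    rw [← h2]
    exact sum_congr rfl fun k _ => by simp only [signFun]; split_ifs <;> ring
  have h2 : ∑ w ∈ shellFinset 32 (by norm_num), w i * w j =
      ∑ w ∈ shellFinset 32 (by norm_num), -(w i * w j) :=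
    sum_bij' (fun w _ => signFun c w) (fun w _ => signFun c w) hmem hmem
      (fun w _ => signFun_signFun c w) (fun w _ => signFun_signFun c w)
      fun w _ => by simp [signFun, mem_supp, hci, hcj]
  rw [sum_neg_distrib] at h2
  omega

theorem cov_diag (i : GolayPt) : ∑ w ∈ shellFinset 32 (by norm_num), w i ^ 2 = 262080 := by
  have hij : ∀ j, ∑ w ∈ shellFinset 32 (by norm_num), w j ^ 2 =
      ∑ w ∈ shellFinset 32 (by norm_num), w i ^ 2 := by
    intro j
    obtain ⟨σ, hσ, hσi⟩ := Mathieu.M24_exists_map_point i j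
    have hmem : ∀ (τ : Equiv.Perm GolayPt), τ ∈ M24 → ∀ w ∈ shellFinset 32 (by norm_num),
        (fun p => w (τ p)) ∈ shellFinset 32 (by norm_num) := by
      intro τ hτ w hw
      obtain ⟨h1, h2⟩ := mem_shellFinset.1 hw
      refine mem_shellFinset.2 ⟨inL_comp hτ h1, ?_⟩
      rw [← h2]
      exact Equiv.sum_comp τ fun k => w k ^ 2
    exact sum_bij' (fun w _ p => w (σ p)) (fun w _ p => w (σ⁻¹ p)) (hmem σ hσ)
      (hmem _ (inv_mem hσ)) (fun w _ => by funext p; simp) (fun w _ => by funext p; simp)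
      fun w _ => by simp [hσi]
  have h : ∑ j : GolayPt, ∑ w ∈ shellFinset 32 (by norm_num), w j ^ 2 = (32 : ℤ) * 196560 := by
    rw [sum_comm, sum_congr rfl fun w hw => (show ∑ j, w j ^ 2 = (32 : ℤ) by
      have := (mem_shellFinset.1 hw).2
      simpa [sqNorm] using this), sum_const, card_shells.1]
    norm_num
  rw [sum_congr rfl fun j _ => hij j, sum_const, card_univ,
    show Fintype.card GolayPt = 24 from rfl] at h
  norm_num at h
  omega

theorem second_moment (v : GolayPt → ℤ) :
    ∑ w ∈ shellFinset 32 (by norm_num), dotInt v w ^ 2 = 262080 * sqNorm v := by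
  simp only [dotInt, sq, sum_mul_sum, sqNorm]
  rw [sum_comm, mul_sum]
  refine sum_congr rfl fun i _ => ?_
  rw [sum_comm, Fintype.sum_eq_single i fun j hj => ?_]
  · rw [sum_congr rfl fun w _ => (by ring : v i * w i * (v i * w i) = v i ^ 2 * w i ^ 2), ← mul_sum,
      cov_diag]
    ring
  · rw [sum_congr rfl fun w _ => (by ring : v i * w i * (v j * w j) = v i * v j * (w i * w j)),
      ← mul_sum, cov_offdiag hj.symm, mul_zero]

theorem dotCount_neg (v : GolayPt → ℤ) (d : ℤ) :
    dotCount 32 (by norm_num) v (-d) = dotCount 32 (by norm_num) v d := by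
  have hmem : ∀ w ∈ shellFinset 32 (by norm_num), -w ∈ shellFinset 32 (by norm_num) := fun w hw => by
    obtain ⟨h1, h2⟩ := mem_shellFinset.1 hw
    exact mem_shellFinset.2 ⟨inL_neg h1, by rw [← h2]; simp [sqNorm]⟩
  refine card_bij' (fun w _ => -w) (fun w _ => -w) ?_ ?_ (fun w _ => neg_neg w) fun w _ => neg_neg w
  all_goals
    intro w hw
    obtain ⟨hw1, hw2⟩ := mem_filter.1 hw
    refine mem_filter.2 ⟨hmem w hw1, ?_⟩
    rw [dot_neg, hw2]
    try ring

/-! ### Dot products of minimal vectors -/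

theorem eq_of_dot_self {v w : GolayPt → ℤ} (hv : InL v) (hw : InL w)
    (hd : sqNorm v - 2 * dotInt v w + sqNorm w < 32) : v = w := by
  by_contra hne
  have h := sqNorm_ge_32 (lattice.sub_mem hv hw) (sub_ne_zero.2 hne)
  rw [sqNorm_sub] at h
  omega

theorem min_dot_values {v w : GolayPt → ℤ} (hv : InL v) (hw : InL w) (hvn : sqNorm v = 32)
    (hwn : sqNorm w = 32) :
    dotInt v w ∈ ({32, -32, 16, -16, 8, -8, 0} : Finset ℤ) := by
  have h8 : 8 ∣ dotInt v w := by
    have hvw := sixteen_dvd_sqNorm (inL_add hv hw)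
    rw [sqNorm_add, hvn, hwn] at hvw
    omega
  have hnn : ∀ x : GolayPt → ℤ, 0 ≤ sqNorm x := fun x => sum_nonneg fun i _ => sq_nonneg _
  have h1 := hnn (v + w)
  have h2 := hnn (v - w)
  rw [sqNorm_add, hvn, hwn] at h1
  rw [sqNorm_sub, hvn, hwn] at h2
  have h24 : dotInt v w ≠ 24 ∧ dotInt v w ≠ -24 := by
    refine ⟨fun e => ?_, fun e => ?_⟩
    · obtain rfl := eq_of_dot_self hv hw (by rw [hvn, hwn, e]; norm_num)
      rw [dot_self, hvn] at e; norm_num at e
    · have := eq_of_dot_self hv (inL_neg hw) (by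
        rw [dot_neg, show sqNorm (-w) = sqNorm w by simp [sqNorm], hvn, hwn, e]; norm_num)
      rw [this, dot_symm, dot_neg, dot_self, hwn] at e
      norm_num at e
  simp only [mem_insert, mem_singleton]
  omega

theorem dotCount_self {v : GolayPt → ℤ} (hv : InL v) (hn : sqNorm v = 32) :
    dotCount 32 (by norm_num) v 32 = 1 := by
  rw [dotCount, card_eq_one]
  refine ⟨v, eq_singleton_iff_unique_mem.2 ⟨mem_filter.2 ⟨mem_shellFinset.2 ⟨hv, by exact_mod_cast hn⟩,
    by rw [dot_self, hn]⟩, fun w hw => ?_⟩⟩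
  obtain ⟨hw1, hw2⟩ := mem_filter.1 hw
  obtain ⟨hwL, hwn⟩ := mem_shellFinset.1 hw1
  exact (eq_of_dot_self hv hwL (by rw [hw2, hn, hwn]; norm_num)).symm

/-! ### At eight times a unit vector -/

theorem val_injOn {a b : MinCode} (ha : a ∈ minList) (hb : b ∈ minList) (h : a.val = b.val) : a = b :=
  List.inj_on_of_nodup_map minList_spec.1 ha hb h

theorem dotInt_eight (w : GolayPt → ℤ) : dotInt (Pi.single none 8) w = 8 * w none := by
  simp [dotInt, Pi.single_apply]

theorem dotCount_eight (d : ℤ) (A : List MinCode) (n : ℕ) (hA : ∀ t ∈ A, t ∈ minList ∧ 8 * t.at 23 = d)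
    (hA' : ∀ t ∈ minList, 8 * t.at 23 = d → t ∈ A) (hnd : A.Nodup) (hn : A.length = n) :
    dotCount 32 (by norm_num) (Pi.single none 8) d = n := by
  classical
  have e : (shellFinset 32 (by norm_num)).filter (fun w => dotInt (Pi.single none 8) w = d) =
      (A.map MinCode.val).toFinset := by
    ext w
    have hat : ∀ t : MinCode, t.val none = t.at 23 := fun t => rfl
    simp only [mem_filter, mem_shellFinset, List.mem_toFinset, List.mem_map, dotInt_eight]
    constructor
    · rintro ⟨⟨hw, hwn⟩, hd⟩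
      obtain ⟨t, ht, rfl⟩ := exists_code hw (by exact_mod_cast hwn)
      exact ⟨t, hA' t ht (by rw [← hat]; exact hd), rfl⟩
    · rintro ⟨t, ht, rfl⟩
      obtain ⟨h1, h2⟩ := (minList_spec.2 _).1 (List.mem_map_of_mem (hA t ht).1)
      exact ⟨⟨h1, by exact_mod_cast h2⟩, by rw [hat]; exact (hA t ht).2⟩
  rw [dotCount, e, List.toFinset_card_of_nodup (hnd.map_on fun a ha b hb => val_injOn (hA a ha).1 (hA b hb).1),
    List.length_map, hn]

theorem minList_cases {t : MinCode} (ht : t ∈ minList) :
    t ∈ minFour ∨ (∃ m s, t = .two m s) ∨ ∃ k c, k < 24 ∧ c ∈ Mathieu.codeList ∧ t = .odd k c := by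
  simp only [minList, List.mem_append, minTwo, minOdd, List.mem_flatMap, List.mem_map,
    List.mem_range] at ht
  rcases ht with (h | ⟨m, _, s, _, rfl⟩) | ⟨k, hk, c, hc, rfl⟩
  · exact Or.inl h
  · exact Or.inr (Or.inl ⟨m, s, rfl⟩)
  · exact Or.inr (Or.inr ⟨k, c, hk, hc, rfl⟩)

theorem four_at_ne_three (i j : ℕ) (si sj : Bool) : (MinCode.four i j si sj).at 23 ≠ 3 := by
  simp only [MinCode.at, sgn]; split_ifs <;> norm_num

theorem two_at_values (m s : ℕ) :
    (MinCode.two m s).at 23 ≠ 4 ∧ (MinCode.two m s).at 23 ≠ 3 := by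
  simp only [MinCode.at, sgn]; split_ifs <;> norm_num

theorem minFour_cases {t : MinCode} (ht : t ∈ minFour) : ∃ i j si sj, t = .four i j si sj := by
  simp only [minFour, List.mem_flatMap, List.mem_range, List.mem_cons, List.not_mem_nil,
    or_false] at ht
  obtain ⟨j, -, i, -, h⟩ := ht
  rcases h with h | h | h | h <;> exact ⟨i, j, _, _, h⟩

theorem count_eight_32 : dotCount 32 (by norm_num) (Pi.single none 8) 32 = 46 := by
  refine dotCount_eight 32 (minFour.filter fun t => decide (t.at 23 = 4)) 46 ?_ ?_ ?_ ?_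
  · intro t ht
    rw [List.mem_filter, decide_eq_true_eq] at ht
    exact ⟨List.mem_append_left _ (List.mem_append_left _ ht.1), by rw [ht.2]; norm_num⟩
  · intro t ht hd
    rw [List.mem_filter, decide_eq_true_eq]
    refine ⟨?_, by omega⟩
    rcases minList_cases ht with h | ⟨m, s, rfl⟩ | ⟨k, c, -, -, rfl⟩
    · exact h
    · exact absurd (by omega) (two_at_values m s).1
    · simp only [MinCode.at, sgn] at hd
      split_ifs at hd <;> norm_num at hd
  · refine List.Nodup.filter _ ?_
    have h := List.Nodup.of_map _ minList_spec.1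
    rw [minList, List.nodup_append, List.nodup_append] at h
    exact h.1.1
  · decide +kernel

theorem count_eight_24 : dotCount 32 (by norm_num) (Pi.single none 8) 24 = 2048 := by
  refine dotCount_eight 24 ((Mathieu.codeList.filter fun c => c.testBit 23).map (.odd 23)) 2048
    ?_ ?_ ?_ ?_
  · intro t ht
    simp only [List.mem_map, List.mem_filter] at ht
    obtain ⟨c, ⟨hc, hb⟩, rfl⟩ := ht
    refine ⟨List.mem_append_right _ ?_, by simp [MinCode.at, sgn, hb]⟩
    simp only [minOdd, List.mem_flatMap, List.mem_map, List.mem_range]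
    exact ⟨23, by norm_num, c, hc, rfl⟩
  · intro t ht hd
    simp only [List.mem_map, List.mem_filter]
    rcases minList_cases ht with h | ⟨m, s, rfl⟩ | ⟨k, c, -, hc, rfl⟩
    · obtain ⟨i, j, si, sj, rfl⟩ := minFour_cases h
      exact absurd (by omega) (four_at_ne_three i j si sj)
    · exact absurd (by omega) (two_at_values m s).2
    · refine ⟨c, ?_, ?_⟩ <;> simp only [MinCode.at, sgn] at hd <;> split_ifs at hd with h1 h2 <;>
        first
        | (norm_num at hd; done)
        | exact ⟨hc, h2⟩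
        | rw [← h1]
  · exact (Mathieu.codeList_nodup.filter _).map fun a b h => by cases h; rfl
  · rw [List.length_map]; decide +kernel

/-! ### The censuses -/

theorem sum_fiber_dot (v : GolayPt → ℤ) (T : Finset ℤ)
    (h : ∀ w ∈ shellFinset 32 (by norm_num), dotInt v w ∈ T) :
    (shellFinset 32 (by norm_num)).card = ∑ d ∈ T, dotCount 32 (by norm_num) v d ∧
      ∑ w ∈ shellFinset 32 (by norm_num), dotInt v w ^ 2 =
        ∑ d ∈ T, (dotCount 32 (by norm_num) v d : ℤ) * d ^ 2 := by
  refine ⟨card_eq_sum_card_fiberwise h, ?_⟩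
  rw [← sum_fiberwise_of_maps_to h]
  refine sum_congr rfl fun d _ => ?_
  rw [sum_congr rfl fun w hw => (show dotInt v w ^ 2 = d ^ 2 by rw [(mem_filter.1 hw).2]), sum_const,
    nsmul_eq_mul]
  rfl

theorem census32 {v : GolayPt → ℤ} (hv : InL v) (hn : sqNorm v = 32) :
    dotCount 32 (by norm_num) v (-16) = 4600 ∧ dotCount 32 (by norm_num) v (-8) = 47104 ∧
      dotCount 32 (by norm_num) v 0 = 93150 := by
  have h0 : dotCount 32 (by norm_num) v 0 = 93150 := by
    have h := double_count (M := 32) (N := 64) (by norm_num) (by norm_num) (by norm_num) le_rfl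
      hv (by exact_mod_cast hn) (mem_leechLattice.1 (eight none).2)
      (by exact_mod_cast sqNorm_eight none) 32
    rw [eight_val, count_eight_32, card_shells.1, card_shells.2.2] at h
    have hs := dotCount_shift hv hn 32 64 (by norm_num) le_rfl 0 (by norm_num)
    rw [zero_add] at hs
    omega
  obtain ⟨h1, h2⟩ := sum_fiber_dot v {32, -32, 16, -16, 8, -8, 0} fun w hw =>
    min_dot_values hv (mem_shellFinset.1 hw).1 hn (mem_shellFinset.1 hw).2
  rw [second_moment, hn] at h2
  rw [card_shells.1] at h1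
  rw [sum_insert (by decide), sum_insert (by decide), sum_insert (by decide), sum_insert (by decide),
    sum_insert (by decide), sum_insert (by decide), sum_singleton] at h1 h2
  rw [dotCount_neg v 32, dotCount_neg v 16, dotCount_neg v 8, dotCount_self hv hn, h0] at h1 h2
  rw [dotCount_neg v 16, dotCount_neg v 8]
  push_cast at h2
  omega

/-- A fixed vector of norm 48. -/
theorem census48 {u : GolayPt → ℤ} (hu : InL u) (hn : sqNorm u = 48) :
    dotCount 32 (by norm_num) u 24 = 552 ∧ dotCount 32 (by norm_num) u (-16) = 11178 ∧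
      dotCount 32 (by norm_num) u (-8) = 48600 := by
  have hb : InL base32 ∧ sqNorm base32 = 32 := by
    have h := inL_pair (show (none : GolayPt) ≠ some 0 by decide) (s := 4) (Or.inl rfl)
    have e : base32 = Pi.single none 4 + Pi.single (some 0) 4 := by decide +kernel
    rw [e]; exact h
  obtain ⟨hv, hvn⟩ := hb
  have h24 : dotCount 32 (by norm_num) u 24 = 552 := by
    have h := double_count (M := 32) (N := 48) (by norm_num) (by norm_num) (by norm_num) (by norm_num)
      hv (by exact_mod_cast hvn) hu (by exact_mod_cast hn) 24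
    have hs := dotCount_shift hv hvn 32 48 (by norm_num) (by norm_num) (-8) (by norm_num)
    rw [(census32 hv hvn).2.1] at hs
    norm_num at hs
    rw [← hs, card_shells.1, card_shells.2.1] at h
    omega
  have h8 : dotCount 32 (by norm_num) u (-8) = 48600 := by
    have h := double_count (M := 32) (N := 48) (by norm_num) (by norm_num) (by norm_num) (by norm_num)
      hv (by exact_mod_cast hvn) hu (by exact_mod_cast hn) (-8)
    have h' := double_count (M := 32) (N := 64) (by norm_num) (by norm_num) (by norm_num) le_rfl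
      hv (by exact_mod_cast hvn) (mem_leechLattice.1 (eight none).2)
      (by exact_mod_cast sqNorm_eight none) 24
    have hs := dotCount_shift hv hvn 48 64 (by norm_num) le_rfl (-8) (by norm_num)
    rw [eight_val, count_eight_24, card_shells.1, card_shells.2.2] at h'
    norm_num at hs
    rw [hs, card_shells.1, card_shells.2.1] at h
    omega
  refine ⟨h24, ?_, h8⟩
  obtain ⟨h1, h2⟩ := sum_fiber_dot u {24, -24, 16, -16, 8, -8, 0} fun w hw => by
    obtain ⟨hwL, hwn⟩ := mem_shellFinset.1 hw
    have h8 : 8 ∣ dotInt u w := by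
      have hvw := sixteen_dvd_sqNorm (inL_add hu hwL)
      rw [sqNorm_add, hn, hwn] at hvw
      omega
    have key : ∀ z, InL z → sqNorm z = 32 → 16 < sqNorm u - 2 * dotInt u z + sqNorm z := fun z hz hzn => by
      by_contra hle
      push Not at hle
      have := eq_of_dot_self hu hz (by omega)
      rw [this, hzn] at hn
      norm_num at hn
    have h1 := key w hwL (by exact_mod_cast hwn)
    have h2 := key (-w) (inL_neg hwL) (by rw [show sqNorm (-w) = sqNorm w by simp [sqNorm]]; exact_mod_cast hwn)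
    rw [show sqNorm (-w) = sqNorm w by simp [sqNorm], dot_neg, hn, hwn] at h2
    rw [hn, hwn] at h1
    simp only [mem_insert, mem_singleton]
    omega
  rw [second_moment, hn] at h2
  rw [card_shells.1] at h1
  rw [sum_insert (by decide), sum_insert (by decide), sum_insert (by decide), sum_insert (by decide),
    sum_insert (by decide), sum_insert (by decide), sum_singleton] at h1 h2
  rw [dotCount_neg u 24, dotCount_neg u 16, h24, h8, ← dotCount_neg u 8, h8] at h1 h2
  rw [dotCount_neg u 16]
  push_cast at h2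
  omega

/-- The set-builder form. -/
theorem ncard_dot (N : ℕ) (hN : N ≤ 64) (v : GolayPt → ℤ) (d : ℤ) :
    {w : GolayPt → ℤ | w ∈ leechLattice ∧ sqNorm w = N ∧ dotInt v w = d}.ncard = dotCount N hN v d := by
  rw [dotCount, ← Set.ncard_coe_finset]
  congr 1
  ext w
  simp [mem_shellFinset, mem_leechLattice, and_assoc]

theorem ncard_dot_sub (N : ℕ) (hN : N ≤ 64) (v : GolayPt → ℤ) (d : ℤ) :
    {w : leechLattice | sqNorm (w : GolayPt → ℤ) = N ∧ dotInt v (w : GolayPt → ℤ) = d}.ncard =
      dotCount N hN v d := by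
  rw [← ncard_dot N hN v d]
  exact Set.ncard_congr (fun x _ => (x : GolayPt → ℤ)) (fun x hx => ⟨x.2, hx⟩)
    (fun a b _ _ e => Subtype.ext e) fun x hx => ⟨⟨x, hx.1⟩, hx.2, rfl⟩

theorem sub_norm_iff {u v : GolayPt → ℤ} (hu : sqNorm u = 48) (hv : sqNorm v = 32) :
    sqNorm (u - v) = 32 ↔ dotInt u v = 24 := by
  rw [sqNorm_sub, hu, hv]; omega

theorem ncard_decomp {u : leechLattice} (hu : sqNorm (u : GolayPt → ℤ) = 48) :
    {v : leechLattice | sqNorm (v : GolayPt → ℤ) = 32 ∧
      sqNorm ((u : GolayPt → ℤ) - (v : GolayPt → ℤ)) = 32}.ncard = 552 := by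
  rw [← (census48 (mem_leechLattice.1 u.2) hu).1, ← ncard_dot_sub 32 (by norm_num)]
  congr 1
  ext v
  simp only [Set.mem_ofPred_eq, Nat.cast_ofNat]
  exact and_congr_right fun hv => sub_norm_iff hu hv

end Cfsg.Agent.Leech
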