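/-
Kernel-checked orbit trees of lattice vectors under explicit elements of `Co0` fixing given vectors.
-/
import Cfsg.Agent.Lib.Leech.Orbits
import Cfsg.Agent.Lib.Mathieu.OrbitCert

set_option autoImplicit false

namespace Cfsg.Agent.Leech

open Cfsg Finset

/-- Coordinate number `n` of a packed vector: hexadecimal digit minus 8. -/
def dig (X n : ℕ) : ℤ := ((X / 16 ^ n % 16 : ℕ) : ℤ) - 8

/-- The packed vector. -/
def dec (X : ℕ) : GolayPt → ℤ := fun p => dig X (Mathieu.ptEnc p).val

/-- For each coordinate number: whether it is in the negated tetrad, and its tetrad. -/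
def tetRows : List (Bool × List ℕ) :=
  [(true, [0, 1, 2, 23]), (true, [0, 1, 2, 23]), (true, [0, 1, 2, 23]), (false, [3, 5, 14, 17]),
   (false, [4, 13, 16, 22]), (false, [3, 5, 14, 17]), (false, [6, 7, 19, 21]), (false, [6, 7, 19, 21]),
   (false, [8, 11, 12, 18]), (false, [9, 10, 15, 20]), (false, [9, 10, 15, 20]), (false, [8, 11, 12, 18]),
   (false, [8, 11, 12, 18]), (false, [4, 13, 16, 22]), (false, [3, 5, 14, 17]), (false, [9, 10, 15, 20]),
   (false, [4, 13, 16, 22]), (false, [3, 5, 14, 17]), (false, [8, 11, 12, 18]), (false, [6, 7, 19, 21]),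
   (false, [9, 10, 15, 20]), (false, [6, 7, 19, 21]), (false, [4, 13, 16, 22]), (true, [0, 1, 2, 23])]

theorem tetRows_spec : ∀ p : GolayPt,
    (univ.filter fun i => tet i = tet p) =
        ((tetRows.getD (Mathieu.ptEnc p).val (false, [])).2.map (Mathieu.idx Mathieu.ptEnc)).toFinset ∧
      ((tetRows.getD (Mathieu.ptEnc p).val (false, [])).2.map (Mathieu.idx Mathieu.ptEnc)).Nodup ∧
      (decide (tet p = 0) = (tetRows.getD (Mathieu.ptEnc p).val (false, [])).1) ∧
      ∀ k ∈ (tetRows.getD (Mathieu.ptEnc p).val (false, [])).2, k < 24 := by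
  decide +kernel

/-- A signed permutation on coordinate functions. -/
def monoN (m : ℕ × ℕ) (f : ℕ → ℤ) (n : ℕ) : ℤ :=
  (if m.2.testBit n then -1 else 1) * f (Mathieu.app m.1 n)

/-- Conway's map on coordinate functions. -/
def xiN (f : ℕ → ℤ) (n : ℕ) : ℤ :=
  (if (tetRows.getD n (false, [])).1 then -1 else 1) *
    (f n - ((tetRows.getD n (false, [])).2.map f).sum / 2)

/-- Signed permutations with Conway's map between successive ones. -/
abbrev Gen : Type := List (ℕ × ℕ)

/-- The composite on coordinate functions. -/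
def chainN : List (ℕ × ℕ) → (ℕ → ℤ) → ℕ → ℤ
  | [], f => f
  | [m], f => monoN m f
  | m :: rest, f => chainN rest (xiN (monoN m f))

/-- The image of a packed vector at a coordinate number. -/
def Gen.imgN (g : Gen) (X n : ℕ) : ℤ := chainN g (dig X) n

/-- Validity of a signed permutation. -/
def monoOK (m : ℕ × ℕ) : Bool :=
  Mathieu.permOK 24 m.1 && Mathieu.presCode m.1 && Mathieu.inCode m.2

/-- Validity of a generator. -/
def Gen.ok (g : Gen) : Bool := g.all monoOK

/-- The generator carries `X` to `Y`. -/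
def edgeOK (g : Gen) (X Y : ℕ) : Bool := (List.range 24).all fun n => g.imgN X n == dig Y n

theorem exists_mono {m : ℕ × ℕ} (h : monoOK m = true) : ∃ a : Co0, ∀ (f : ℕ → ℤ) (v : leechLattice),
    (v : GolayPt → ℤ) = (fun p => f (Mathieu.ptEnc p).val) →
      ((a • v : leechLattice) : GolayPt → ℤ) = fun p => monoN m f (Mathieu.ptEnc p).val := by
  simp only [monoOK, Bool.and_eq_true] at h
  obtain ⟨⟨hp, hc⟩, hin⟩ := h
  obtain ⟨σ, hσ⟩ := Mathieu.exists_rep (e := Mathieu.ptEnc) hp
  refine ⟨signElt _ (Mathieu.wordOf_mem_of_inCode hin) *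
    permElt σ⁻¹ (inv_mem (Mathieu.mem_M24_of_rep hσ hc)), fun f v hv => ?_⟩
  rw [mul_smul, signElt_smul, permElt_smul, hv]
  funext p
  simp only [signFun, mem_supp, Mathieu.wordOf, Mathieu.hasPt, monoN, Equiv.Perm.inv_def,
    Equiv.symm_symm, hσ p]
  by_cases hb : m.2.testBit (Mathieu.ptEnc p).val = true <;> simp [hb]

theorem xiN_spec (f : ℕ → ℤ) :
    xiFun (fun p => f (Mathieu.ptEnc p).val) = fun p => xiN f (Mathieu.ptEnc p).val := by
  funext p
  obtain ⟨h1, h2, h3, h4⟩ := tetRows_spec p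
  simp only [xiFun, tetSum, xiN, h1, List.sum_toFinset _ h2, List.map_map, ← h3, tetSign,
    decide_eq_true_eq]
  congr 3
  exact congrArg List.sum (List.map_congr_left fun k hk => congrArg f (Mathieu.idx_val (h4 k hk)))

theorem exists_chain : ∀ (g : List (ℕ × ℕ)), g.all monoOK = true →
    ∃ a : Co0, ∀ (f : ℕ → ℤ) (v : leechLattice),
      (v : GolayPt → ℤ) = (fun p => f (Mathieu.ptEnc p).val) →
        ((a • v : leechLattice) : GolayPt → ℤ) = fun p => chainN g f (Mathieu.ptEnc p).val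
  | [], _ => ⟨1, fun f v hv => by rw [one_smul]; exact hv⟩
  | [m], h => by
    obtain ⟨a, ha⟩ := exists_mono (List.all_eq_true.1 h m List.mem_cons_self)
    exact ⟨a, fun f v hv => ha f v hv⟩
  | m :: m' :: rest, h => by
    rw [List.all_cons, Bool.and_eq_true] at h
    obtain ⟨a, ha⟩ := exists_mono h.1
    obtain ⟨b, hb⟩ := exists_chain (m' :: rest) h.2
    refine ⟨b * xiElt * a, fun f v hv => ?_⟩
    rw [mul_smul, mul_smul]
    refine hb (xiN (monoN m f)) _ ?_
    rw [xiElt_smul, ha _ v hv, xiN_spec]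

theorem exists_gen {g : Gen} (h : g.ok = true) : ∃ a : Co0, ∀ (X : ℕ) (v : leechLattice),
    (v : GolayPt → ℤ) = dec X →
      ((a • v : leechLattice) : GolayPt → ℤ) = fun p => g.imgN X (Mathieu.ptEnc p).val := by
  obtain ⟨a, ha⟩ := exists_chain g h
  exact ⟨a, fun X v hv => ha (dig X) v hv⟩

theorem edgeOK_spec {g : Gen} {X Y : ℕ} (h : edgeOK g X Y = true) :
    (fun p => g.imgN X (Mathieu.ptEnc p).val) = dec Y := by
  simp only [edgeOK, List.all_eq_true, List.mem_range, beq_iff_eq] at h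
  funext p
  exact h _ (Mathieu.ptEnc p).isLt

theorem nat_eq_of_dig : ∀ (n X Y : ℕ), X < 16 ^ n → Y < 16 ^ n →
    (∀ i < n, X / 16 ^ i % 16 = Y / 16 ^ i % 16) → X = Y
  | 0, X, Y, hX, hY, _ => by rw [pow_zero] at hX hY; omega
  | n + 1, X, Y, hX, hY, h => by
    rw [pow_succ] at hX hY
    have h0 := h 0 (Nat.succ_pos _)
    rw [pow_zero, Nat.div_one, Nat.div_one] at h0
    have ih := nat_eq_of_dig n (X / 16) (Y / 16) (by omega) (by omega) fun i hi => by
      have := h (i + 1) (by omega)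
      rwa [pow_succ', ← Nat.div_div_eq_div_mul, ← Nat.div_div_eq_div_mul] at this
    omega

theorem dec_injective {X Y : ℕ} (hX : X < 16 ^ 24) (hY : Y < 16 ^ 24) (h : dec X = dec Y) : X = Y := by
  refine nat_eq_of_dig 24 X Y hX hY fun i hi => ?_
  have h' := congrFun h (Mathieu.ptEnc.symm ⟨i, hi⟩)
  simp only [dec, dig, Equiv.apply_symm_apply] at h'
  omega

/-- An element fixing all packed vectors of `F`. -/
def FixesAll (F : List ℕ) (g : Co0) : Prop :=
  ∀ Z ∈ F, ∀ v : leechLattice, (v : GolayPt → ℤ) = dec Z → g • v = v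

theorem fixesAll_one (F : List ℕ) : FixesAll F 1 := fun _ _ v _ => one_smul _ v

theorem FixesAll.mul {F : List ℕ} {g h : Co0} (hg : FixesAll F g) (hh : FixesAll F h) :
    FixesAll F (g * h) := fun Z hZ v hv => by rw [mul_smul, hh Z hZ v hv, hg Z hZ v hv]

/-- The vector of a packed step `Y * 2^24 + up * 16 + g` of a depth-first tree. -/
def stepVec (s : ℕ) : ℕ := s / 16777216

/-- Check of the steps of a depth-first tree. -/
def vecTreeOK (gens : List Gen) : List ℕ → List ℕ → Bool
  | _, [] => true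
  | stk, s :: rest =>
    match stk.drop (s / 16 % 1048576), gens[s % 16]? with
    | p :: ps, some a => edgeOK a p (stepVec s) && vecTreeOK gens (stepVec s :: p :: ps) rest
    | _, _ => false

/-- The certificate of an orbit of size at least `n`. -/
def orbitOK (F : List ℕ) (gens : List Gen) (seed : ℕ) (steps : List ℕ) (n : ℕ) : Bool :=
  gens.all (fun a => a.ok && F.all fun Z => edgeOK a Z Z) && vecTreeOK gens [seed] steps &&
    steps.length + 1 == n && (seed :: steps.map stepVec).all (fun Y => decide (Y < 16 ^ 24)) &&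
    Mathieu.insAllOK 96 (seed :: steps.map stepVec) .leaf

theorem vecTreeOK_spec {F : List ℕ} {gens : List Gen}
    (hg : ∀ a ∈ gens, ∃ c : Co0, FixesAll F c ∧ ∀ X Y : ℕ, edgeOK a X Y = true →
      ∀ v : leechLattice, (v : GolayPt → ℤ) = dec X → ((c • v : leechLattice) : GolayPt → ℤ) = dec Y)
    (x₀ : leechLattice) :
    ∀ (steps : List ℕ) (stk : List ℕ),
      (∀ Y ∈ stk, ∃ c : Co0, FixesAll F c ∧ ((c • x₀ : leechLattice) : GolayPt → ℤ) = dec Y) →
      vecTreeOK gens stk steps = true →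
      ∀ s ∈ steps, ∃ c : Co0, FixesAll F c ∧ ((c • x₀ : leechLattice) : GolayPt → ℤ) = dec (stepVec s) := by
  intro steps
  induction steps with
  | nil => simp
  | cons st rest ih =>
    intro stk hstk h
    unfold vecTreeOK at h
    rcases hd : stk.drop (st / 16 % 1048576) with _ | ⟨p, ps⟩
    · simp [hd] at h
    rcases hl : gens[st % 16]? with _ | a
    · simp [hd, hl] at h
    simp only [hd, hl, Bool.and_eq_true] at h
    obtain ⟨he, hrest⟩ := h
    have hp : ∀ Z ∈ p :: ps, ∃ c : Co0, FixesAll F c ∧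
        ((c • x₀ : leechLattice) : GolayPt → ℤ) = dec Z := fun Z hZ =>
      hstk Z (List.mem_of_mem_drop (hd ▸ hZ))
    obtain ⟨c, hc, hcp⟩ := hp p List.mem_cons_self
    obtain ⟨d, hd', hda⟩ := hg a (List.mem_of_getElem? hl)
    set Y := stepVec st with hYdef
    have hY : ∃ e : Co0, FixesAll F e ∧ ((e • x₀ : leechLattice) : GolayPt → ℤ) = dec Y :=
      ⟨d * c, hd'.mul hc, by rw [mul_smul]; exact hda p Y he _ hcp⟩
    have hstk' : ∀ Z ∈ Y :: p :: ps, ∃ c : Co0, FixesAll F c ∧
        ((c • x₀ : leechLattice) : GolayPt → ℤ) = dec Z := by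
      intro Z hZ
      rcases List.mem_cons.1 hZ with rfl | hZ
      exacts [hY, hp Z hZ]
    intro s hs
    rcases List.mem_cons.1 hs with rfl | hs
    exacts [hY, ih _ hstk' hrest s hs]

/-- A certified orbit has at least `n` members. -/
theorem orbit_cert {F : List ℕ} {gens : List Gen} {seed : ℕ} {steps : List ℕ} {n : ℕ}
    (h : orbitOK F gens seed steps n = true) (x₀ : leechLattice)
    (hx₀ : (x₀ : GolayPt → ℤ) = dec seed) :
    ∃ S : Finset leechLattice, S.card = n ∧ ∀ y ∈ S, ∃ g : Co0, FixesAll F g ∧ g • x₀ = y := by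
  classical
  simp only [orbitOK, Bool.and_eq_true, List.all_eq_true, beq_iff_eq, decide_eq_true_eq] at h
  obtain ⟨⟨⟨⟨hgens, htree⟩, hlen⟩, hlt⟩, hins⟩ := h
  have hg : ∀ a ∈ gens, ∃ c : Co0, FixesAll F c ∧ ∀ X Y : ℕ, edgeOK a X Y = true →
      ∀ v : leechLattice, (v : GolayPt → ℤ) = dec X →
        ((c • v : leechLattice) : GolayPt → ℤ) = dec Y := by
    intro a ha
    obtain ⟨c, hc⟩ := exists_gen (hgens a ha).1
    exact ⟨c, fun Z hZ v hv => Subtype.ext (by rw [hc Z v hv, edgeOK_spec ((hgens a ha).2 Z hZ), hv]),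
      fun X Y he v hv => by rw [hc X v hv, edgeOK_spec he]⟩
  set L := seed :: steps.map stepVec with hL
  have hnd : L.Nodup := (Mathieu.insAllOK_spec _ _ _ hins).1
  have hall : ∀ Y ∈ L, ∃ g : Co0, FixesAll F g ∧ ((g • x₀ : leechLattice) : GolayPt → ℤ) = dec Y := by
    have h0 : ∃ g : Co0, FixesAll F g ∧ ((g • x₀ : leechLattice) : GolayPt → ℤ) = dec seed :=
      ⟨1, fixesAll_one F, by rw [one_smul, hx₀]⟩
    intro Y hY
    rcases List.mem_cons.1 hY with rfl | hY
    · exact h0
    obtain ⟨s, hs, rfl⟩ := List.mem_map.1 hY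
    exact vecTreeOK_spec hg x₀ steps [seed] (fun Z hZ => by
      rw [List.mem_singleton.1 hZ]; exact h0) htree s hs
  choose f hf hfv using hall
  refine ⟨L.toFinset.attach.image fun Y => f Y.1 (List.mem_toFinset.1 Y.2) • x₀, ?_, ?_⟩
  · rw [card_image_of_injective, card_attach, List.toFinset_card_of_nodup hnd, hL]
    · simpa using hlen
    · rintro ⟨Y, hY⟩ ⟨Z, hZ⟩ e
      have e' := congrArg Subtype.val e
      simp only [hfv] at e'
      exact Subtype.ext (dec_injective (hlt _ (List.mem_toFinset.1 hY)) (hlt _ (List.mem_toFinset.1 hZ)) e')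
  · intro y hy
    obtain ⟨Y, -, rfl⟩ := mem_image.1 hy
    exact ⟨_, hf _ _, rfl⟩

end Cfsg.Agent.Leech
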