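/-
Configurations of a vector of norm 48 with its decompositions into two minimal vectors: transitivity
on the 552 and on the 275, and the two suborbits of the latter.
-/
import Cfsg.Agent.Lib.Leech.Census
import Cfsg.Agent.Lib.Leech.OrbitEngine
import Cfsg.Agent.Lib.Leech.Orb.Decomp
import Cfsg.Agent.Lib.Leech.Orb.MclPoints
import Cfsg.Agent.Lib.Leech.Orb.MclNear
import Cfsg.Agent.Lib.Leech.Orb.MclFar
import Cfsg.Prelude.Def_Spor_Conway

set_option autoImplicit false

namespace Cfsg.Agent.Leech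

open Cfsg Finset Cfsg.Spor

/-- A certified orbit inside a set of at most as many members is the whole set. -/
theorem orbit_fills {F : List ℕ} {gens : List Gen} {seed : ℕ} {steps : List ℕ} {n : ℕ}
    (h : orbitOK F gens seed steps n = true) (x₀ : leechLattice)
    (hx₀ : (x₀ : GolayPt → ℤ) = dec seed) (A : Set leechLattice) (hfin : A.Finite)
    (hA : A.ncard ≤ n) (hsub : ∀ g : Co0, FixesAll F g → g • x₀ ∈ A) :
    A.ncard = n ∧ ∀ y ∈ A, ∃ g : Co0, FixesAll F g ∧ g • x₀ = y := by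
  obtain ⟨S, hS, hSg⟩ := orbit_cert h x₀ hx₀
  have hSA : (S : Set leechLattice) ⊆ A := fun y hy => by
    obtain ⟨g, hg, rfl⟩ := hSg y hy
    exact hsub g hg
  have he : (S : Set leechLattice) = A :=
    Set.eq_of_subset_of_ncard_le hSA (by rwa [Set.ncard_coe_finset, hS]) hfin
  refine ⟨by rw [← he, Set.ncard_coe_finset, hS], fun y hy => hSg y ?_⟩
  rw [← he] at hy
  exact hy

/-- A certified orbit is a lower bound. -/
theorem orbit_le {F : List ℕ} {gens : List Gen} {seed : ℕ} {steps : List ℕ} {n : ℕ}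
    (h : orbitOK F gens seed steps n = true) (x₀ : leechLattice)
    (hx₀ : (x₀ : GolayPt → ℤ) = dec seed) (A : Set leechLattice) (hfin : A.Finite)
    (hsub : ∀ g : Co0, FixesAll F g → g • x₀ ∈ A) : n ≤ A.ncard := by
  obtain ⟨S, hS, hSg⟩ := orbit_cert h x₀ hx₀
  rw [← hS, ← Set.ncard_coe_finset]
  refine Set.ncard_le_ncard (fun y hy => ?_) hfin
  obtain ⟨g, hg, rfl⟩ := hSg y hy
  exact hsub g hg

theorem ncard_preimage_smul (g : Co0) (B : Set leechLattice) :
    {y : leechLattice | g • y ∈ B}.ncard = B.ncard := by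
  refine Set.ncard_congr (fun y _ => g • y) (fun y hy => hy) (fun a b _ _ e => MulAction.injective g e)
    fun y hy => ⟨g⁻¹ • y, ?_, smul_inv_smul g y⟩
  show g • g⁻¹ • y ∈ B
  rwa [smul_inv_smul]

/-- The minimal vectors `x` with `u - x` minimal. -/
def decompSet (u : leechLattice) : Set leechLattice :=
  {x | sqNorm (x : GolayPt → ℤ) = 32 ∧ dotInt (u : GolayPt → ℤ) (x : GolayPt → ℤ) = 24}

/-- The members of `decompSet u` with a given dot product with a further vector. -/
def decompAt (u v : leechLattice) (d : ℤ) : Set leechLattice :=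
  {x | x ∈ decompSet u ∧ dotInt (v : GolayPt → ℤ) (x : GolayPt → ℤ) = d}

theorem decompSet_smul {g : Co0} {u x : leechLattice} :
    g • x ∈ decompSet (g • u) ↔ x ∈ decompSet u := by
  simp [decompSet, co0_norm, co0_dot]

theorem decompAt_smul {g : Co0} {u v x : leechLattice} {d : ℤ} :
    g • x ∈ decompAt (g • u) (g • v) d ↔ x ∈ decompAt u v d := by
  simp [decompAt, decompSet_smul, co0_dot]

theorem decompSet_finite (u : leechLattice) : (decompSet u).Finite := by
  refine Set.Finite.of_finite_image (f := fun x : leechLattice => (x : GolayPt → ℤ)) ?_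
    Subtype.val_injective.injOn
  refine (shell_finite (N := 32) (by norm_num)).subset ?_
  rintro _ ⟨x, hx, rfl⟩
  exact ⟨mem_leechLattice.1 x.2, by exact_mod_cast hx.1⟩

theorem decompAt_finite (u v : leechLattice) (d : ℤ) : (decompAt u v d).Finite :=
  (decompSet_finite u).subset fun _ h => h.1

theorem ncard_decompSet {u : leechLattice} (hu : sqNorm (u : GolayPt → ℤ) = 48) :
    (decompSet u).ncard = 552 := by
  rw [← (census48 (mem_leechLattice.1 u.2) hu).1, ← ncard_dot_sub 32 (by norm_num)]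
  rfl

theorem mem_decompSet_iff {u x : leechLattice} (hu : sqNorm (u : GolayPt → ℤ) = 48) :
    x ∈ decompSet u ↔ sqNorm (x : GolayPt → ℤ) = 32 ∧
      sqNorm ((u : GolayPt → ℤ) - (x : GolayPt → ℤ)) = 32 :=
  and_congr_right fun hx => (sub_norm_iff hu hx).symm

theorem sub_mem_decompSet {u x : leechLattice} (hu : sqNorm (u : GolayPt → ℤ) = 48)
    (hx : x ∈ decompSet u) : u - x ∈ decompSet u := by
  refine ⟨?_, ?_⟩
  · rw [AddSubgroup.coe_sub, sqNorm_sub, hu, hx.1, hx.2]; norm_num
  · rw [AddSubgroup.coe_sub, dot_sub, dot_self, hu, hx.2]; norm_num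

/-- Taking `x` to `u - x` carries the dot product `d` with `v` to `dotInt v u - d`. -/
theorem ncard_decompAt_flip {u v : leechLattice} (hu : sqNorm (u : GolayPt → ℤ) = 48) (d : ℤ) :
    (decompAt u v (dotInt (v : GolayPt → ℤ) (u : GolayPt → ℤ) - d)).ncard = (decompAt u v d).ncard := by
  have key : ∀ {d : ℤ} {x : leechLattice}, x ∈ decompAt u v d →
      u - x ∈ decompAt u v (dotInt (v : GolayPt → ℤ) (u : GolayPt → ℤ) - d) := fun {d x} hx =>
    ⟨sub_mem_decompSet hu hx.1, by rw [AddSubgroup.coe_sub, dot_sub, hx.2]⟩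
  refine Set.ncard_congr (fun x _ => u - x) (fun x hx => ?_) (fun a b _ _ e => sub_right_injective e)
    fun x hx => ⟨u - x, key hx, sub_sub_cancel u x⟩
  have := key hx
  rwa [sub_sub_cancel] at this

/-- The 275: half of the decompositions other than `v` and `u - v`. -/
theorem ncard_mcl {u v : leechLattice} (hu : sqNorm (u : GolayPt → ℤ) = 48) (hv : v ∈ decompSet u) :
    (decompAt u v 16).ncard = 275 := by
  classical
  have hd : dotInt (v : GolayPt → ℤ) (u : GolayPt → ℤ) = 24 := (dot_symm _ _).trans hv.2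
  have hcases : decompSet u = decompAt u v 32 ∪ decompAt u v (24 - 32) ∪
      (decompAt u v 16 ∪ decompAt u v (24 - 16)) := by
    ext x
    constructor
    · intro hx
      have hm := min_dot_values (mem_leechLattice.1 v.2) (mem_leechLattice.1 x.2) hv.1 hx.1
      have hm' := min_dot_values (mem_leechLattice.1 v.2)
        (mem_leechLattice.1 (u - x).2) hv.1 (sub_mem_decompSet hu hx).1
      rw [AddSubgroup.coe_sub, dot_sub, hd] at hm'
      simp only [mem_insert, mem_singleton] at hm hm'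
      simp only [Set.mem_union, decompAt, Set.mem_ofPred_eq, hx, true_and]
      omega
    · rintro ((h | h) | (h | h)) <;> exact h.1
  have h32 : decompAt u v 32 = {v} := by
    ext x
    constructor
    · intro hx
      exact (Subtype.ext (eq_of_dot_self (mem_leechLattice.1 v.2) (mem_leechLattice.1 x.2)
        (by rw [hv.1, hx.1.1, hx.2]; norm_num))).symm
    · rintro rfl
      exact ⟨hv, by rw [dot_self, hv.1]⟩
  have f1 := ncard_decompAt_flip (v := v) hu 32
  have f2 := ncard_decompAt_flip (v := v) hu 16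
  rw [hd] at f1 f2
  have hfin := decompAt_finite u v
  have h := ncard_decompSet hu
  rw [hcases, Set.ncard_union_eq ?_ ((hfin _).union (hfin _)) ((hfin _).union (hfin _)),
    Set.ncard_union_eq ?_ (hfin _) (hfin _), Set.ncard_union_eq ?_ (hfin _) (hfin _), f1, f2, h32,
    Set.ncard_singleton] at h
  · omega
  all_goals
    refine Set.disjoint_left.2 ?_
    intro x a b
    simp only [Set.mem_union, decompAt, Set.mem_ofPred_eq] at a b
    omega

/-! ### The standard configuration -/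

/-- The standard vector of norm 48. -/
abbrev baseU : leechLattice := leechV
/-- The standard summand. -/
abbrev baseV : leechLattice := -leechU

theorem baseU_norm : sqNorm (baseU : GolayPt → ℤ) = 48 := by decide +kernel

theorem baseV_mem : baseV ∈ decompSet baseU := ⟨by decide +kernel, by decide +kernel⟩

theorem decF : dec Orb.decompF.head! = (baseU : GolayPt → ℤ) ∧
    dec Orb.decompSeed = (baseV : GolayPt → ℤ) := by decide +kernel

theorem fix_baseU {g : Co0} (h : FixesAll Orb.decompF g) : g • baseU = baseU :=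
  h _ List.mem_cons_self _ decF.1.symm

/-- Transitivity on decompositions, at the standard vector. -/
theorem decomp_base (x : leechLattice) (hx : x ∈ decompSet baseU) :
    ∃ g : Co0, g • baseU = baseU ∧ g • baseV = x := by
  obtain ⟨g, hg, e⟩ := (orbit_fills Orb.decomp_ok baseV decF.2.symm _ (decompSet_finite _)
    (ncard_decompSet baseU_norm).le fun g hg => by
      have := (decompSet_smul (g := g)).2 baseV_mem
      rwa [fix_baseU hg] at this).2 x hx
  exact ⟨g, fix_baseU hg, e⟩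

/-- Any decomposition is conjugate to the standard one. -/
theorem decomp_normal {u v : leechLattice} (hu : sqNorm (u : GolayPt → ℤ) = 48) (hv : v ∈ decompSet u) :
    ∃ g : Co0, g • u = baseU ∧ g • v = baseV := by
  obtain ⟨g, hg⟩ := co0_transitive u baseU 48 (Or.inr (Or.inl rfl)) hu baseU_norm
  obtain ⟨h, hh, hh'⟩ := decomp_base (g • v) (by rw [← hg]; exact decompSet_smul.2 hv)
  refine ⟨h⁻¹ * g, ?_, ?_⟩ <;> rw [mul_smul, inv_smul_eq_iff]
  · rw [hg, hh]
  · exact hh'.symm

theorem decomp_transitive {u v v' : leechLattice} (hu : sqNorm (u : GolayPt → ℤ) = 48)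
    (hv : v ∈ decompSet u) (hv' : v' ∈ decompSet u) : ∃ g : Co0, g • u = u ∧ g • v = v' := by
  obtain ⟨a, ha, ha'⟩ := decomp_normal hu hv
  obtain ⟨b, hb, hb'⟩ := decomp_normal hu hv'
  refine ⟨b⁻¹ * a, ?_, ?_⟩ <;> rw [mul_smul, inv_smul_eq_iff]
  · rw [ha, hb]
  · rw [ha', hb']

/-- Minimal pairs with dot product -8 are a single orbit. -/
theorem minus8_transitive (v w w' : leechLattice) (hv : sqNorm (v : GolayPt → ℤ) = 32)
    (hw : sqNorm (w : GolayPt → ℤ) = 32) (hw' : sqNorm (w' : GolayPt → ℤ) = 32)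
    (hd : dotInt (v : GolayPt → ℤ) (w : GolayPt → ℤ) = -8)
    (hd' : dotInt (v : GolayPt → ℤ) (w' : GolayPt → ℤ) = -8) :
    ∃ g : Co0, g • v = v ∧ g • w = w' := by
  have hu : ∀ z : leechLattice, sqNorm (z : GolayPt → ℤ) = 32 →
      dotInt (v : GolayPt → ℤ) (z : GolayPt → ℤ) = -8 →
      sqNorm ((v + z : leechLattice) : GolayPt → ℤ) = 48 ∧ v ∈ decompSet (v + z) := by
    intro z hz hzd
    refine ⟨by rw [AddSubgroup.coe_add, sqNorm_add, hv, hz, hzd]; norm_num, hv, ?_⟩
    rw [AddSubgroup.coe_add, dot_symm, dot_add, dot_self, hv, hzd]; norm_num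
  obtain ⟨h1, h2⟩ := hu w hw hd
  obtain ⟨h1', h2'⟩ := hu w' hw' hd'
  obtain ⟨a, ha, ha'⟩ := decomp_normal h1 h2
  obtain ⟨b, hb, hb'⟩ := decomp_normal h1' h2'
  have e1 : (b⁻¹ * a) • v = v := by rw [mul_smul, inv_smul_eq_iff, ha', hb']
  have e2 : (b⁻¹ * a) • (v + w) = v + w' := by rw [mul_smul, inv_smul_eq_iff, ha, hb]
  rw [co0_add, e1] at e2
  exact ⟨_, e1, add_left_cancel e2⟩

/-! ### The 275 -/

/-- The standard point. -/
def baseX : leechLattice :=
  -⟨Pi.single none 4 + Pi.single (some 1) 4,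
    mem_leechLattice.2 (inL_pair (show (none : GolayPt) ≠ some 1 by decide) (Or.inl rfl)).1⟩

theorem baseX_mem : baseX ∈ decompAt baseU baseV 16 :=
  ⟨⟨by decide +kernel, by decide +kernel⟩, by decide +kernel⟩

theorem mclF : Orb.mclPointsF.length = 2 ∧ dec (Orb.mclPointsF.getD 0 0) = (baseU : GolayPt → ℤ) ∧
    dec (Orb.mclPointsF.getD 1 0) = (leechU : GolayPt → ℤ) ∧
    dec Orb.mclPointsSeed = (baseX : GolayPt → ℤ) := by decide +kernel

theorem fix_mcl {g : Co0} (h : FixesAll Orb.mclPointsF g) : g • baseU = baseU ∧ g • baseV = baseV := by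
  obtain ⟨hl, h0, h1, -⟩ := mclF
  refine ⟨h _ ?_ _ h0.symm, ?_⟩
  · rw [List.getD_eq_getElem _ _ (show 0 < _ by omega)]; exact List.getElem_mem _
  · rw [co0_neg, h (Orb.mclPointsF.getD 1 0) ?_ _ h1.symm]
    rw [List.getD_eq_getElem _ _ (show 1 < _ by omega)]; exact List.getElem_mem _

theorem mcl_base (x : leechLattice) (hx : x ∈ decompAt baseU baseV 16) :
    ∃ g : Co0, g • baseU = baseU ∧ g • baseV = baseV ∧ g • baseX = x := by
  obtain ⟨g, hg, e⟩ := (orbit_fills Orb.mclPoints_ok baseX mclF.2.2.2.symm _ (decompAt_finite _ _ _)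
    (ncard_mcl baseU_norm baseV_mem).le fun g hg => by
      obtain ⟨h1, h2⟩ := fix_mcl hg
      have := (decompAt_smul (g := g)).2 baseX_mem
      rwa [h1, h2] at this).2 x hx
  exact ⟨g, (fix_mcl hg).1, (fix_mcl hg).2, e⟩

/-- Any point of the configuration is conjugate to the standard one. -/
theorem mcl_normal {u v x : leechLattice} (hu : sqNorm (u : GolayPt → ℤ) = 48) (hv : v ∈ decompSet u)
    (hx : x ∈ decompAt u v 16) : ∃ g : Co0, g • u = baseU ∧ g • v = baseV ∧ g • x = baseX := by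
  obtain ⟨a, ha, ha'⟩ := decomp_normal hu hv
  obtain ⟨h, h1, h2, h3⟩ := mcl_base (a • x) (by rw [← ha, ← ha']; exact decompAt_smul.2 hx)
  refine ⟨h⁻¹ * a, ?_, ?_, ?_⟩ <;> rw [mul_smul, inv_smul_eq_iff]
  · rw [ha, h1]
  · rw [ha', h2]
  · exact h3.symm

theorem mcl_transitive {u v x x' : leechLattice} (hu : sqNorm (u : GolayPt → ℤ) = 48)
    (hv : v ∈ decompSet u) (hx : x ∈ decompAt u v 16) (hx' : x' ∈ decompAt u v 16) :
    ∃ g : Co0, g • u = u ∧ g • v = v ∧ g • x = x' := by
  obtain ⟨a, a1, a2, a3⟩ := mcl_normal hu hv hx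
  obtain ⟨b, b1, b2, b3⟩ := mcl_normal hu hv hx'
  refine ⟨b⁻¹ * a, ?_, ?_, ?_⟩ <;> rw [mul_smul, inv_smul_eq_iff]
  · rw [a1, b1]
  · rw [a2, b2]
  · rw [a3, b3]

/-- The points at dot product 8 from `x`. -/
def mclNearSet (u v x : leechLattice) : Set leechLattice :=
  {y | y ∈ decompAt u v 16 ∧ dotInt (x : GolayPt → ℤ) (y : GolayPt → ℤ) = 8}

/-- The other points at dot product 16 from `x`. -/
def mclFarSet (u v x : leechLattice) : Set leechLattice :=
  {y | y ∈ decompAt u v 16 ∧ y ≠ x ∧ dotInt (x : GolayPt → ℤ) (y : GolayPt → ℤ) = 16}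

theorem mclNearF : Orb.mclNearF = Orb.mclFarF ∧ Orb.mclNearF.take 2 = Orb.mclPointsF ∧
    Orb.mclNearF.length = 3 ∧ dec (Orb.mclNearF.getD 2 0) = (baseX : GolayPt → ℤ) := by
  decide +kernel

theorem fix_mclNear {g : Co0} (h : FixesAll Orb.mclNearF g) :
    g • baseU = baseU ∧ g • baseV = baseV ∧ g • baseX = baseX := by
  obtain ⟨-, ht, hl, h2⟩ := mclNearF
  obtain ⟨a, b⟩ := fix_mcl (g := g) fun Z hZ => h Z (List.mem_of_mem_take (i := 2) (ht ▸ hZ))
  refine ⟨a, b, h _ ?_ _ h2.symm⟩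
  rw [List.getD_eq_getElem _ _ (show 2 < _ by omega)]; exact List.getElem_mem _

/-- The two suborbits at the standard configuration. -/
theorem mcl_suborbits_base :
    (mclNearSet baseU baseV baseX).ncard = 112 ∧ (mclFarSet baseU baseV baseX).ncard = 162 ∧
      (∀ y ∈ decompAt baseU baseV 16, y ≠ baseX →
        y ∈ mclNearSet baseU baseV baseX ∨ y ∈ mclFarSet baseU baseV baseX) ∧
      ∀ y y' : leechLattice, y ∈ decompAt baseU baseV 16 → y' ∈ decompAt baseU baseV 16 →
        y ≠ baseX → y' ≠ baseX →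
        dotInt (baseX : GolayPt → ℤ) (y : GolayPt → ℤ) = dotInt (baseX : GolayPt → ℤ) (y' : GolayPt → ℤ) →
        ∃ g : Co0, g • baseU = baseU ∧ g • baseV = baseV ∧ g • baseX = baseX ∧ g • y = y' := by
  classical
  have hA := decompAt_finite baseU baseV 16
  set N := mclNearSet baseU baseV baseX
  set R := mclFarSet baseU baseV baseX
  have hNf : N.Finite := hA.subset fun _ h => h.1
  have hRf : R.Finite := hA.subset fun _ h => h.1
  obtain ⟨yN, hyN, hyNm⟩ : ∃ y : leechLattice, (y : GolayPt → ℤ) = dec Orb.mclNearSeed ∧ y ∈ N := by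
    have hL : InL (dec Orb.mclNearSeed) := ⟨by decide +kernel, by
      rw [Mathieu.mem_golayCode_iff]
      exact ⟨(List.range 24).foldr (fun i m => if dig Orb.mclNearSeed i / 2 % 2 = 1 then 2 ^ i + m else m) 0,
        by decide +kernel, by decide +kernel⟩, by decide +kernel⟩
    exact ⟨⟨_, mem_leechLattice.2 hL⟩, rfl,
      ⟨⟨(by decide +kernel : sqNorm (dec Orb.mclNearSeed) = 32),
        (by decide +kernel : dotInt (baseU : GolayPt → ℤ) (dec Orb.mclNearSeed) = 24)⟩,
        (by decide +kernel : dotInt (baseV : GolayPt → ℤ) (dec Orb.mclNearSeed) = 16)⟩,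
      (by decide +kernel : dotInt (baseX : GolayPt → ℤ) (dec Orb.mclNearSeed) = 8)⟩
  obtain ⟨yR, hyR, hyRm⟩ : ∃ y : leechLattice, (y : GolayPt → ℤ) = dec Orb.mclFarSeed ∧ y ∈ R := by
    have hL : InL (dec Orb.mclFarSeed) := ⟨by decide +kernel, by
      rw [Mathieu.mem_golayCode_iff]
      exact ⟨(List.range 24).foldr (fun i m => if dig Orb.mclFarSeed i / 2 % 2 = 1 then 2 ^ i + m else m) 0,
        by decide +kernel, by decide +kernel⟩, by decide +kernel⟩
    exact ⟨⟨_, mem_leechLattice.2 hL⟩, rfl,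
      ⟨⟨(by decide +kernel : sqNorm (dec Orb.mclFarSeed) = 32),
        (by decide +kernel : dotInt (baseU : GolayPt → ℤ) (dec Orb.mclFarSeed) = 24)⟩,
        (by decide +kernel : dotInt (baseV : GolayPt → ℤ) (dec Orb.mclFarSeed) = 16)⟩,
      fun e => absurd (congrArg (fun z : leechLattice => (z : GolayPt → ℤ)) e)
        (by decide +kernel : ¬ dec Orb.mclFarSeed = (baseX : GolayPt → ℤ)),
      (by decide +kernel : dotInt (baseX : GolayPt → ℤ) (dec Orb.mclFarSeed) = 16)⟩
  have hN : ∀ g : Co0, FixesAll Orb.mclNearF g → g • yN ∈ N := fun g hg => by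
    obtain ⟨a, b, c⟩ := fix_mclNear hg
    refine ⟨?_, ?_⟩
    · have := (decompAt_smul (g := g)).2 hyNm.1
      rwa [a, b] at this
    · rw [← c, co0_dot]; exact hyNm.2
  have hR : ∀ g : Co0, FixesAll Orb.mclNearF g → g • yR ∈ R := fun g hg => by
    obtain ⟨a, b, c⟩ := fix_mclNear hg
    refine ⟨?_, ?_, ?_⟩
    · have := (decompAt_smul (g := g)).2 hyRm.1
      rwa [a, b] at this
    · rw [← c]; exact fun e => hyRm.2.1 (MulAction.injective g e)
    · rw [← c, co0_dot]; exact hyRm.2.2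
  have hFeq := mclNearF.1
  have lN := orbit_le Orb.mclNear_ok yN hyN N hNf hN
  have lR := orbit_le Orb.mclFar_ok yR hyR R hRf (hFeq ▸ hR)
  have hsub : N ∪ R ⊆ decompAt baseU baseV 16 \ {baseX} := by
    rintro y (h | h)
    · refine ⟨h.1, fun e => ?_⟩
      have := h.2
      rw [Set.mem_singleton_iff.1 e, dot_self] at this
      have h32 := baseX_mem.1.1
      omega
    · exact ⟨h.1, h.2.1⟩
  have hdisj : Disjoint N R := Set.disjoint_left.2 fun y a b => by
    have := a.2; have := b.2.2; omega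
  have htot : (decompAt baseU baseV 16 \ {baseX}).ncard = 274 := by
    rw [Set.ncard_sdiff_singleton_of_mem baseX_mem, ncard_mcl baseU_norm baseV_mem]
  have hle := Set.ncard_le_ncard hsub (hA.subset Set.sdiff_subset)
  rw [Set.ncard_union_eq hdisj hNf hRf, htot] at hle
  have hU : N ∪ R = decompAt baseU baseV 16 \ {baseX} :=
    Set.eq_of_subset_of_ncard_le hsub
      (by rw [htot, Set.ncard_union_eq hdisj hNf hRf]; omega) (hA.subset Set.sdiff_subset)
  have hall : ∀ y ∈ decompAt baseU baseV 16, y ≠ baseX → y ∈ N ∨ y ∈ R := fun y hy hne => by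
    have : y ∈ N ∪ R := by rw [hU]; exact ⟨hy, hne⟩
    exact this
  refine ⟨by omega, by omega, hall, fun y y' hy hy' hne hne' hd => ?_⟩
  have orbN := (orbit_fills Orb.mclNear_ok yN hyN N hNf (by omega) hN).2
  have orbR := (orbit_fills Orb.mclFar_ok yR hyR R hRf (by omega) (hFeq ▸ hR)).2
  have finish : ∀ (y₀ : leechLattice), (∃ g : Co0, FixesAll Orb.mclNearF g ∧ g • y₀ = y) →
      (∃ g : Co0, FixesAll Orb.mclNearF g ∧ g • y₀ = y') →
      ∃ g : Co0, g • baseU = baseU ∧ g • baseV = baseV ∧ g • baseX = baseX ∧ g • y = y' := by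
    rintro y₀ ⟨a, ha, rfl⟩ ⟨b, hb, rfl⟩
    obtain ⟨a1, a2, a3⟩ := fix_mclNear ha
    obtain ⟨b1, b2, b3⟩ := fix_mclNear hb
    refine ⟨b * a⁻¹, ?_, ?_, ?_, by rw [mul_smul, inv_smul_smul]⟩ <;> rw [mul_smul]
    · rw [inv_smul_eq_iff.2 a1.symm, b1]
    · rw [inv_smul_eq_iff.2 a2.symm, b2]
    · rw [inv_smul_eq_iff.2 a3.symm, b3]
  rcases hall y hy hne with h | h <;> rcases hall y' hy' hne' with h' | h'
  · exact finish yN (orbN y h) (orbN y' h')
  · have := h.2; have := h'.2.2; omega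
  · have := h.2.2; have := h'.2; omega
  · exact finish yR (hFeq ▸ orbR y h) (hFeq ▸ orbR y' h')

/-- The rank three action on the 275 points. -/
theorem mcl_suborbits {u v x : leechLattice} (hu : sqNorm (u : GolayPt → ℤ) = 48) (hv : v ∈ decompSet u)
    (hx : x ∈ decompAt u v 16) :
    (mclNearSet u v x).ncard = 112 ∧ (mclFarSet u v x).ncard = 162 ∧
      (∀ y ∈ decompAt u v 16, y ≠ x → y ∈ mclNearSet u v x ∨ y ∈ mclFarSet u v x) ∧
      ∀ y y' : leechLattice, y ∈ decompAt u v 16 → y' ∈ decompAt u v 16 → y ≠ x → y' ≠ x →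
        dotInt (x : GolayPt → ℤ) (y : GolayPt → ℤ) = dotInt (x : GolayPt → ℤ) (y' : GolayPt → ℤ) →
        ∃ g : Co0, g • u = u ∧ g • v = v ∧ g • x = x ∧ g • y = y' := by
  obtain ⟨a, a1, a2, a3⟩ := mcl_normal hu hv hx
  obtain ⟨c1, c2, c3, c4⟩ := mcl_suborbits_base
  have hm : ∀ y, a • y ∈ decompAt baseU baseV 16 ↔ y ∈ decompAt u v 16 := fun y => by
    rw [← a1, ← a2]; exact decompAt_smul
  have hne : ∀ y, a • y ≠ baseX ↔ y ≠ x := fun y => by
    rw [← a3]; exact (MulAction.injective a).ne_iff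
  have hdot : ∀ y : leechLattice, dotInt (baseX : GolayPt → ℤ) ((a • y : leechLattice) : GolayPt → ℤ) =
      dotInt (x : GolayPt → ℤ) (y : GolayPt → ℤ) := fun y => by rw [← a3]; exact co0_dot a x y
  refine ⟨?_, ?_, ?_, ?_⟩
  · rw [← c1, ← ncard_preimage_smul a (mclNearSet baseU baseV baseX)]
    congr 1
    ext y
    simp only [mclNearSet, Set.mem_ofPred_eq, hm, hdot]
  · rw [← c2, ← ncard_preimage_smul a (mclFarSet baseU baseV baseX)]
    congr 1
    ext y
    simp only [mclFarSet, Set.mem_ofPred_eq, hm, hne, hdot]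
  · intro y hy hy'
    have := c3 (a • y) ((hm y).2 hy) ((hne y).2 hy')
    simpa only [mclNearSet, mclFarSet, Set.mem_ofPred_eq, hm, hne, hdot] using this
  · intro y y' hy hy' hn hn' hd
    obtain ⟨g, g1, g2, g3, g4⟩ := c4 (a • y) (a • y') ((hm y).2 hy) ((hm y').2 hy') ((hne y).2 hn)
      ((hne y').2 hn') (by rw [hdot, hdot]; exact hd)
    refine ⟨a⁻¹ * g * a, ?_, ?_, ?_, ?_⟩ <;> rw [mul_smul, mul_smul, inv_smul_eq_iff]
    · rw [a1, g1]
    · rw [a2, g2]
    · rw [a3, g3]
    · exact g4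

end Cfsg.Agent.Leech
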