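/-
Two vectors of norm 48 with dot product -32: a single orbit, the 100 points and their suborbits.
-/
import Cfsg.Agent.Lib.Leech.Configs
import Cfsg.Agent.Lib.Leech.Orb.HsPoints
import Cfsg.Agent.Lib.Leech.Orb.HsNear
import Cfsg.Agent.Lib.Leech.Orb.HsFar
import Cfsg.Agent.Lib.Leech.Orb.Hs352
import Cfsg.Agent.Lib.Leech.Orb.Mcl2025

set_option autoImplicit false

namespace Cfsg.Agent.Leech

open Cfsg Finset Cfsg.Spor

theorem inL_dec {X : ℕ} (m : ℕ) (hm : Mathieu.inCode m = true) (hw : Mathieu.wordOf m = hb (dec X))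
    (h1 : ∀ i, dec X i % 2 = dec X none % 2) (h2 : (∑ i, dec X i) % 8 = 4 * dec X none % 8) :
    InL (dec X) :=
  ⟨h1, hw ▸ Mathieu.wordOf_mem_of_inCode hm, h2⟩

/-- The minimal vectors with dot product -16 with `u`. -/
def minus16Set (u : leechLattice) : Set leechLattice :=
  {x | sqNorm (x : GolayPt → ℤ) = 32 ∧ dotInt (u : GolayPt → ℤ) (x : GolayPt → ℤ) = -16}

theorem minus16Set_finite (u : leechLattice) : (minus16Set u).Finite := by
  refine Set.Finite.of_finite_image (f := fun x : leechLattice => (x : GolayPt → ℤ)) ?_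
    Subtype.val_injective.injOn
  refine (shell_finite (N := 32) (by norm_num)).subset ?_
  rintro _ ⟨x, hx, rfl⟩
  exact ⟨mem_leechLattice.1 x.2, by exact_mod_cast hx.1⟩

theorem ncard_minus16Set {u : leechLattice} (hu : sqNorm (u : GolayPt → ℤ) = 48) :
    (minus16Set u).ncard = 11178 := by
  rw [← (census48 (mem_leechLattice.1 u.2) hu).2.1, ← ncard_dot_sub 32 (by norm_num)]
  rfl

theorem minus16Set_smul {g : Co0} {u x : leechLattice} :
    g • x ∈ minus16Set (g • u) ↔ x ∈ minus16Set u := by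
  simp [minus16Set, co0_norm, co0_dot]

/-- The standard minimal vector with dot product 16 with the standard vector of norm 48. -/
abbrev baseY : leechLattice := -leechU'

theorem baseY_facts : dotInt (baseU : GolayPt → ℤ) (baseY : GolayPt → ℤ) = 16 ∧
    sqNorm (baseY : GolayPt → ℤ) = 32 ∧ dotInt (baseY : GolayPt → ℤ) (baseV : GolayPt → ℤ) = 0 ∧
    dotInt (baseV : GolayPt → ℤ) (leechU' : GolayPt → ℤ) = 0 := by decide +kernel

theorem hsF : Orb.hsPointsF = Orb.hs352F ∧ Orb.hsPointsF.length = 2 ∧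
    dec (Orb.hsPointsF.getD 0 0) = (baseU : GolayPt → ℤ) ∧
    dec (Orb.hsPointsF.getD 1 0) = (leechU' : GolayPt → ℤ) ∧
    dec Orb.hsPointsSeed = (baseV : GolayPt → ℤ) := by decide +kernel

theorem fix_hs {g : Co0} (h : FixesAll Orb.hsPointsF g) : g • baseU = baseU ∧ g • baseY = baseY := by
  obtain ⟨-, hl, h0, h1, -⟩ := hsF
  refine ⟨h _ ?_ _ h0.symm, ?_⟩
  · rw [List.getD_eq_getElem _ _ (show 0 < _ by omega)]; exact List.getElem_mem _
  · rw [co0_neg, h (Orb.hsPointsF.getD 1 0) ?_ _ h1.symm]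
    rw [List.getD_eq_getElem _ _ (show 1 < _ by omega)]; exact List.getElem_mem _

/-- The 100 and the 352, at the standard vectors. -/
theorem hs_counts_base :
    (decompAt baseU baseY 0).ncard = 100 ∧ (decompAt baseU baseY 8).ncard = 352 := by
  classical
  obtain ⟨hd, hyn, hyv, -⟩ := baseY_facts
  have hd' : dotInt (baseY : GolayPt → ℤ) (baseU : GolayPt → ℤ) = 16 := (dot_symm _ _).trans hd
  have hcases : decompSet baseU =
      decompAt baseU baseY 0 ∪ decompAt baseU baseY (16 - 0) ∪ decompAt baseU baseY 8 := by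
    ext x
    constructor
    · intro hx
      have hm := min_dot_values (mem_leechLattice.1 baseY.2) (mem_leechLattice.1 x.2) hyn hx.1
      have hm' := min_dot_values (mem_leechLattice.1 baseY.2) (mem_leechLattice.1 (baseU - x).2) hyn
        (sub_mem_decompSet baseU_norm hx).1
      rw [AddSubgroup.coe_sub, dot_sub, hd'] at hm'
      have h32 : ∀ y ∈ decompSet baseU, dotInt (baseY : GolayPt → ℤ) (y : GolayPt → ℤ) ≠ 32 := fun y hy e => by
        have := eq_of_dot_self (mem_leechLattice.1 baseY.2) (mem_leechLattice.1 y.2)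
          (by rw [hyn, hy.1, e]; norm_num)
        have h24 := hy.2
        rw [← this, hd] at h24
        norm_num at h24
      have h32' := h32 _ (sub_mem_decompSet baseU_norm hx)
      rw [AddSubgroup.coe_sub, dot_sub, hd'] at h32'
      replace h32 := h32 x hx
      simp only [mem_insert, mem_singleton] at hm hm'
      simp only [Set.mem_union, decompAt, Set.mem_ofPred_eq, hx, true_and]
      generalize hz : dotInt (baseY : GolayPt → ℤ) (x : GolayPt → ℤ) = z at hm hm' h32 h32' ⊢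
      omega
    · rintro ((h | h) | h) <;> exact h.1
  have hfin := decompAt_finite baseU baseY
  have f := ncard_decompAt_flip (v := baseY) baseU_norm 0
  rw [hd'] at f
  have l0 : 100 ≤ (decompAt baseU baseY 0).ncard :=
    orbit_le Orb.hsPoints_ok baseV hsF.2.2.2.2.symm _ (hfin 0) fun g hg => by
      obtain ⟨a, b⟩ := fix_hs hg
      have := (decompAt_smul (g := g)).2 (show baseV ∈ decompAt baseU baseY 0 from ⟨baseV_mem, hyv⟩)
      rwa [a, b] at this
  have hs : InL (dec Orb.hs352Seed) := inL_dec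
    ((List.range 24).foldr (fun i m => if dig Orb.hs352Seed i / 2 % 2 = 1 then 2 ^ i + m else m) 0)
    (by decide +kernel) (by decide +kernel) (by decide +kernel) (by decide +kernel)
  have l8 : 352 ≤ (decompAt baseU baseY 8).ncard :=
    orbit_le Orb.hs352_ok ⟨_, mem_leechLattice.2 hs⟩ rfl _ (hfin 8) fun g hg => by
      obtain ⟨a, b⟩ := fix_hs (hsF.1 ▸ hg)
      have h0 : (⟨_, mem_leechLattice.2 hs⟩ : leechLattice) ∈ decompAt baseU baseY 8 :=
        ⟨⟨(by decide +kernel : sqNorm (dec Orb.hs352Seed) = 32),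
          (by decide +kernel : dotInt (baseU : GolayPt → ℤ) (dec Orb.hs352Seed) = 24)⟩,
          (by decide +kernel : dotInt (baseY : GolayPt → ℤ) (dec Orb.hs352Seed) = 8)⟩
      have := (decompAt_smul (g := g)).2 h0
      rwa [a, b] at this
  have htot := ncard_decompSet baseU_norm
  rw [hcases, Set.ncard_union_eq ?_ ((hfin _).union (hfin _)) (hfin _),
    Set.ncard_union_eq ?_ (hfin _) (hfin _), f] at htot
  · omega
  all_goals
    refine Set.disjoint_left.2 ?_
    intro x a b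
    simp only [Set.mem_union, decompAt, Set.mem_ofPred_eq] at a b
    omega

theorem mcl2025F : Orb.mcl2025F = Orb.mclPointsF ∧ dec Orb.mcl2025Seed = (leechU' : GolayPt → ℤ) := by
  decide +kernel

/-- The stabiliser of the standard vector is transitive on its 11178. -/
theorem minus16_base (x : leechLattice) (hx : x ∈ minus16Set baseU) :
    ∃ g : Co0, g • baseU = baseU ∧ g • leechU' = x := by
  classical
  set O : Set leechLattice := {y | ∃ g : Co0, g • baseU = baseU ∧ g • leechU' = y} with hO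
  have hU' : leechU' ∈ minus16Set baseU := ⟨by decide +kernel, by decide +kernel⟩
  have hsub : O ⊆ minus16Set baseU := by
    rintro y ⟨g, hg, rfl⟩
    have := (minus16Set_smul (g := g)).2 hU'
    rwa [hg] at this
  have hOf := (minus16Set_finite baseU).subset hsub
  have hSf := decompSet_finite baseU
  have h100 : ∀ y ∈ hOf.toFinset, (hSf.toFinset.bipartiteBelow
      (fun v x : leechLattice => dotInt ((-x : leechLattice) : GolayPt → ℤ) (v : GolayPt → ℤ) = 0) y).card ≤ 100 := by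
    intro y hy
    obtain ⟨g, hg, rfl⟩ := (Set.Finite.mem_toFinset _).1 hy
    rw [← Set.ncard_coe_finset, ← hs_counts_base.1, ← ncard_preimage_smul g⁻¹ (decompAt baseU baseY 0)]
    refine le_of_eq (congrArg Set.ncard ?_)
    ext v
    simp only [Finset.bipartiteBelow, coe_filter, Set.Finite.mem_toFinset, Set.mem_ofPred_eq]
    rw [← decompAt_smul (g := g) (x := g⁻¹ • v), smul_inv_smul, hg, co0_neg]
    rfl
  have h2025 : ∀ v ∈ hSf.toFinset, 2025 ≤ (hOf.toFinset.bipartiteAbove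
      (fun v x : leechLattice => dotInt ((-x : leechLattice) : GolayPt → ℤ) (v : GolayPt → ℤ) = 0) v).card := by
    intro v hv
    obtain ⟨a, ha, ha'⟩ := decomp_base v ((Set.Finite.mem_toFinset _).1 hv)
    obtain ⟨S, hS, hSg⟩ := orbit_cert Orb.mcl2025_ok leechU' mcl2025F.2.symm
    rw [← hS, ← card_image_of_injective S (MulAction.injective a)]
    refine card_le_card fun y hy => ?_
    obtain ⟨z, hz, rfl⟩ := mem_image.1 hy
    obtain ⟨g, hg, rfl⟩ := hSg z hz
    obtain ⟨g1, g2⟩ := fix_mcl (mcl2025F.1 ▸ hg)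
    simp only [Finset.bipartiteAbove, mem_filter, Set.Finite.mem_toFinset]
    refine ⟨⟨a * g, by rw [mul_smul, g1, ha], by rw [mul_smul]⟩, ?_⟩
    rw [← ha', ← co0_neg, co0_dot, ← g2, ← co0_neg, co0_dot]
    exact baseY_facts.2.2.1
  have hle := card_nsmul_le_card_nsmul
    (fun v x : leechLattice => dotInt ((-x : leechLattice) : GolayPt → ℤ) (v : GolayPt → ℤ) = 0)
    h2025 h100
  rw [smul_eq_mul, smul_eq_mul, ← Set.ncard_eq_toFinset_card _ hSf, ← Set.ncard_eq_toFinset_card _ hOf,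
    ncard_decompSet baseU_norm] at hle
  have hge : (minus16Set baseU).ncard ≤ O.ncard := by rw [ncard_minus16Set baseU_norm]; omega
  have he := Set.eq_of_subset_of_ncard_le hsub hge (minus16Set_finite baseU)
  have : x ∈ O := by rw [he]; exact hx
  exact this

theorem minus16_normal {u x : leechLattice} (hu : sqNorm (u : GolayPt → ℤ) = 48) (hx : x ∈ minus16Set u) :
    ∃ g : Co0, g • u = baseU ∧ g • x = leechU' := by
  obtain ⟨g, hg⟩ := co0_transitive u baseU 48 (Or.inr (Or.inl rfl)) hu baseU_norm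
  obtain ⟨h, hh, hh'⟩ := minus16_base (g • x) (by rw [← hg]; exact minus16Set_smul.2 hx)
  refine ⟨h⁻¹ * g, ?_, ?_⟩ <;> rw [mul_smul, inv_smul_eq_iff]
  · rw [hg, hh]
  · exact hh'.symm

/-- The second standard vector of norm 48. -/
abbrev baseW : leechLattice := baseY - baseU

theorem hs_normal {v w : leechLattice} (hv : sqNorm (v : GolayPt → ℤ) = 48)
    (hw : sqNorm (w : GolayPt → ℤ) = 48) (hvw : dotInt (v : GolayPt → ℤ) (w : GolayPt → ℤ) = -32) :
    ∃ g : Co0, g • v = baseU ∧ g • w = baseW := by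
  have hm : -(v + w) ∈ minus16Set v := ⟨by
    rw [AddSubgroup.coe_neg, AddSubgroup.coe_add,
      show ∀ z : GolayPt → ℤ, sqNorm (-z) = sqNorm z from fun z => by simp [sqNorm], sqNorm_add, hv, hw,
      hvw]
    norm_num, by
    rw [AddSubgroup.coe_neg, AddSubgroup.coe_add, dot_neg, dot_add, dot_self, hv, hvw]
    norm_num⟩
  obtain ⟨g, h1, h2⟩ := minus16_normal hv hm
  refine ⟨g, h1, ?_⟩
  rw [co0_neg, co0_add, h1, neg_eq_iff_eq_neg] at h2
  exact eq_sub_of_add_eq' h2

/-- The points of the configuration of `v`, `w`. -/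
def hsSet (v w : leechLattice) : Set leechLattice :=
  {x | sqNorm (x : GolayPt → ℤ) = 32 ∧ dotInt (v : GolayPt → ℤ) (x : GolayPt → ℤ) = 24 ∧
    dotInt (w : GolayPt → ℤ) (x : GolayPt → ℤ) = -24}

theorem hsSet_smul {g : Co0} {v w x : leechLattice} : g • x ∈ hsSet (g • v) (g • w) ↔ x ∈ hsSet v w := by
  simp [hsSet, co0_norm, co0_dot]

theorem hsSet_base : hsSet baseU baseW = decompAt baseU baseY 0 := by
  ext x
  simp only [hsSet, decompAt, decompSet, baseW, AddSubgroup.coe_sub, Set.mem_ofPred_eq, and_assoc]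
  refine and_congr_right fun _ => and_congr_right fun h => ?_
  rw [dot_symm _ (x : GolayPt → ℤ), dot_sub, dot_symm (x : GolayPt → ℤ) (baseU : GolayPt → ℤ), h,
    dot_symm _ (x : GolayPt → ℤ)]
  omega

theorem baseV_mem_hs : baseV ∈ decompAt baseU baseY 0 := ⟨baseV_mem, baseY_facts.2.2.1⟩

theorem hs_base (x : leechLattice) (hx : x ∈ decompAt baseU baseY 0) :
    ∃ g : Co0, g • baseU = baseU ∧ g • baseW = baseW ∧ g • baseV = x := by
  obtain ⟨g, hg, e⟩ := (orbit_fills Orb.hsPoints_ok baseV hsF.2.2.2.2.symm _ (decompAt_finite _ _ _)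
    hs_counts_base.1.le fun g hg => by
      obtain ⟨h1, h2⟩ := fix_hs hg
      have := (decompAt_smul (g := g)).2 baseV_mem_hs
      rwa [h1, h2] at this).2 x hx
  obtain ⟨h1, h2⟩ := fix_hs hg
  exact ⟨g, h1, by rw [baseW, sub_eq_add_neg, co0_add, h2, co0_neg, h1], e⟩

theorem hs_point_normal {v w x : leechLattice} (hv : sqNorm (v : GolayPt → ℤ) = 48)
    (hw : sqNorm (w : GolayPt → ℤ) = 48) (hvw : dotInt (v : GolayPt → ℤ) (w : GolayPt → ℤ) = -32)
    (hx : x ∈ hsSet v w) : ∃ g : Co0, g • v = baseU ∧ g • w = baseW ∧ g • x = baseV := by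
  obtain ⟨a, a1, a2⟩ := hs_normal hv hw hvw
  obtain ⟨h, h1, h2, h3⟩ := hs_base (a • x) (by rw [← hsSet_base, ← a1, ← a2]; exact hsSet_smul.2 hx)
  refine ⟨h⁻¹ * a, ?_, ?_, ?_⟩ <;> rw [mul_smul, inv_smul_eq_iff]
  · rw [a1, h1]
  · rw [a2, h2]
  · exact h3.symm

theorem ncard_hsSet {v w : leechLattice} (hv : sqNorm (v : GolayPt → ℤ) = 48)
    (hw : sqNorm (w : GolayPt → ℤ) = 48) (hvw : dotInt (v : GolayPt → ℤ) (w : GolayPt → ℤ) = -32) :
    (hsSet v w).ncard = 100 := by
  obtain ⟨a, a1, a2⟩ := hs_normal hv hw hvw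
  rw [← hs_counts_base.1, ← hsSet_base, ← ncard_preimage_smul a (hsSet baseU baseW), ← a1, ← a2]
  congr 1
  ext y
  exact hsSet_smul.symm

theorem hs_transitive {v w x x' : leechLattice} (hv : sqNorm (v : GolayPt → ℤ) = 48)
    (hw : sqNorm (w : GolayPt → ℤ) = 48) (hvw : dotInt (v : GolayPt → ℤ) (w : GolayPt → ℤ) = -32)
    (hx : x ∈ hsSet v w) (hx' : x' ∈ hsSet v w) :
    ∃ g : Co0, g • v = v ∧ g • w = w ∧ g • x = x' := by
  obtain ⟨a, a1, a2, a3⟩ := hs_point_normal hv hw hvw hx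
  obtain ⟨b, b1, b2, b3⟩ := hs_point_normal hv hw hvw hx'
  refine ⟨b⁻¹ * a, ?_, ?_, ?_⟩ <;> rw [mul_smul, inv_smul_eq_iff]
  · rw [a1, b1]
  · rw [a2, b2]
  · rw [a3, b3]

/-- The points at dot product 8 from `x`. -/
def hsNearSet (v w x : leechLattice) : Set leechLattice :=
  {y | y ∈ hsSet v w ∧ dotInt (x : GolayPt → ℤ) (y : GolayPt → ℤ) = 8}

/-- The others. -/
def hsFarSet (v w x : leechLattice) : Set leechLattice :=
  {y | y ∈ hsSet v w ∧ y ≠ x ∧ dotInt (x : GolayPt → ℤ) (y : GolayPt → ℤ) ≠ 8}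

theorem hsNearF : Orb.hsNearF = Orb.hsFarF ∧ Orb.hsNearF.take 2 = Orb.hsPointsF ∧
    Orb.hsNearF.length = 3 ∧ dec (Orb.hsNearF.getD 2 0) = (baseV : GolayPt → ℤ) := by
  decide +kernel

theorem fix_hsNear {g : Co0} (h : FixesAll Orb.hsNearF g) :
    g • baseU = baseU ∧ g • baseW = baseW ∧ g • baseV = baseV := by
  obtain ⟨-, ht, hl, h2⟩ := hsNearF
  obtain ⟨a, b⟩ := fix_hs (g := g) fun Z hZ => h Z (List.mem_of_mem_take (i := 2) (ht ▸ hZ))
  refine ⟨a, by rw [baseW, sub_eq_add_neg, co0_add, b, co0_neg, a], h _ ?_ _ h2.symm⟩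
  rw [List.getD_eq_getElem _ _ (show 2 < _ by omega)]; exact List.getElem_mem _

theorem hs_suborbits_base :
    (hsNearSet baseU baseW baseV).ncard = 22 ∧ (hsFarSet baseU baseW baseV).ncard = 77 ∧
      ∀ y y' : leechLattice, y ∈ hsSet baseU baseW → y' ∈ hsSet baseU baseW → y ≠ baseV → y' ≠ baseV →
        (dotInt (baseV : GolayPt → ℤ) (y : GolayPt → ℤ) = 8 ↔
          dotInt (baseV : GolayPt → ℤ) (y' : GolayPt → ℤ) = 8) →
        ∃ g : Co0, g • baseU = baseU ∧ g • baseW = baseW ∧ g • baseV = baseV ∧ g • y = y' := by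
  classical
  have hAf : (hsSet baseU baseW).Finite := hsSet_base ▸ decompAt_finite _ _ _
  set N := hsNearSet baseU baseW baseV
  set R := hsFarSet baseU baseW baseV
  have hNf : N.Finite := hAf.subset fun _ h => h.1
  have hRf : R.Finite := hAf.subset fun _ h => h.1
  obtain ⟨yN, hyN, hyNm⟩ : ∃ y : leechLattice, (y : GolayPt → ℤ) = dec Orb.hsNearSeed ∧ y ∈ N := by
    have hL : InL (dec Orb.hsNearSeed) := inL_dec
      ((List.range 24).foldr (fun i m => if dig Orb.hsNearSeed i / 2 % 2 = 1 then 2 ^ i + m else m) 0)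
      (by decide +kernel) (by decide +kernel) (by decide +kernel) (by decide +kernel)
    exact ⟨⟨_, mem_leechLattice.2 hL⟩, rfl,
      ⟨(by decide +kernel : sqNorm (dec Orb.hsNearSeed) = 32),
        (by decide +kernel : dotInt (baseU : GolayPt → ℤ) (dec Orb.hsNearSeed) = 24),
        (by decide +kernel : dotInt (baseW : GolayPt → ℤ) (dec Orb.hsNearSeed) = -24)⟩,
      (by decide +kernel : dotInt (baseV : GolayPt → ℤ) (dec Orb.hsNearSeed) = 8)⟩
  obtain ⟨yR, hyR, hyRm⟩ : ∃ y : leechLattice, (y : GolayPt → ℤ) = dec Orb.hsFarSeed ∧ y ∈ R := by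
    have hL : InL (dec Orb.hsFarSeed) := inL_dec
      ((List.range 24).foldr (fun i m => if dig Orb.hsFarSeed i / 2 % 2 = 1 then 2 ^ i + m else m) 0)
      (by decide +kernel) (by decide +kernel) (by decide +kernel) (by decide +kernel)
    exact ⟨⟨_, mem_leechLattice.2 hL⟩, rfl,
      ⟨(by decide +kernel : sqNorm (dec Orb.hsFarSeed) = 32),
        (by decide +kernel : dotInt (baseU : GolayPt → ℤ) (dec Orb.hsFarSeed) = 24),
        (by decide +kernel : dotInt (baseW : GolayPt → ℤ) (dec Orb.hsFarSeed) = -24)⟩,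
      fun e => absurd (congrArg (fun z : leechLattice => (z : GolayPt → ℤ)) e)
        (by decide +kernel : ¬ dec Orb.hsFarSeed = (baseV : GolayPt → ℤ)),
      (by decide +kernel : dotInt (baseV : GolayPt → ℤ) (dec Orb.hsFarSeed) ≠ 8)⟩
  have hN : ∀ g : Co0, FixesAll Orb.hsNearF g → g • yN ∈ N := fun g hg => by
    obtain ⟨a, b, c⟩ := fix_hsNear hg
    refine ⟨?_, ?_⟩
    · have := (hsSet_smul (g := g)).2 hyNm.1
      rwa [a, b] at this
    · rw [← c, co0_dot]; exact hyNm.2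
  have hR : ∀ g : Co0, FixesAll Orb.hsNearF g → g • yR ∈ R := fun g hg => by
    obtain ⟨a, b, c⟩ := fix_hsNear hg
    refine ⟨?_, ?_, ?_⟩
    · have := (hsSet_smul (g := g)).2 hyRm.1
      rwa [a, b] at this
    · rw [← c]; exact fun e => hyRm.2.1 (MulAction.injective g e)
    · rw [← c, co0_dot]; exact hyRm.2.2
  have hFeq := hsNearF.1
  have lN := orbit_le Orb.hsNear_ok yN hyN N hNf hN
  have lR := orbit_le Orb.hsFar_ok yR hyR R hRf (hFeq ▸ hR)
  have hVm : baseV ∈ hsSet baseU baseW := by rw [hsSet_base]; exact baseV_mem_hs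
  have hsub : N ∪ R ⊆ hsSet baseU baseW \ {baseV} := by
    rintro y (h | h)
    · refine ⟨h.1, fun e => ?_⟩
      have := h.2
      rw [Set.mem_singleton_iff.1 e, dot_self, hVm.1] at this
      norm_num at this
    · exact ⟨h.1, h.2.1⟩
  have hdisj : Disjoint N R := Set.disjoint_left.2 fun y a b => b.2.2 a.2
  have htot : (hsSet baseU baseW \ {baseV}).ncard = 99 := by
    rw [Set.ncard_sdiff_singleton_of_mem hVm, hsSet_base, hs_counts_base.1]
  have hle := Set.ncard_le_ncard hsub (hAf.subset Set.sdiff_subset)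
  rw [Set.ncard_union_eq hdisj hNf hRf, htot] at hle
  have hall : ∀ y ∈ hsSet baseU baseW, y ≠ baseV → y ∈ N ∨ y ∈ R := fun y hy hne => by
    by_cases h : dotInt (baseV : GolayPt → ℤ) (y : GolayPt → ℤ) = 8
    · exact Or.inl ⟨hy, h⟩
    · exact Or.inr ⟨hy, hne, h⟩
  refine ⟨by omega, by omega, fun y y' hy hy' hne hne' hd => ?_⟩
  have orbN := (orbit_fills Orb.hsNear_ok yN hyN N hNf (by omega) hN).2
  have orbR := (orbit_fills Orb.hsFar_ok yR hyR R hRf (by omega) (hFeq ▸ hR)).2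
  have finish : ∀ (y₀ : leechLattice), (∃ g : Co0, FixesAll Orb.hsNearF g ∧ g • y₀ = y) →
      (∃ g : Co0, FixesAll Orb.hsNearF g ∧ g • y₀ = y') →
      ∃ g : Co0, g • baseU = baseU ∧ g • baseW = baseW ∧ g • baseV = baseV ∧ g • y = y' := by
    rintro y₀ ⟨a, ha, rfl⟩ ⟨b, hb, rfl⟩
    obtain ⟨a1, a2, a3⟩ := fix_hsNear ha
    obtain ⟨b1, b2, b3⟩ := fix_hsNear hb
    refine ⟨b * a⁻¹, ?_, ?_, ?_, by rw [mul_smul, inv_smul_smul]⟩ <;> rw [mul_smul]
    · rw [inv_smul_eq_iff.2 a1.symm, b1]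
    · rw [inv_smul_eq_iff.2 a2.symm, b2]
    · rw [inv_smul_eq_iff.2 a3.symm, b3]
  rcases hall y hy hne with h | h <;> rcases hall y' hy' hne' with h' | h'
  · exact finish yN (orbN y h) (orbN y' h')
  · exact absurd (hd.1 h.2) h'.2.2
  · exact absurd (hd.2 h'.2) h.2.2
  · exact finish yR (hFeq ▸ orbR y h) (hFeq ▸ orbR y' h')

/-- The rank three action on the 100 points. -/
theorem hs_suborbits {v w x : leechLattice} (hv : sqNorm (v : GolayPt → ℤ) = 48)
    (hw : sqNorm (w : GolayPt → ℤ) = 48) (hvw : dotInt (v : GolayPt → ℤ) (w : GolayPt → ℤ) = -32)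
    (hx : x ∈ hsSet v w) :
    (hsNearSet v w x).ncard = 22 ∧ (hsFarSet v w x).ncard = 77 ∧
      ∀ y y' : leechLattice, y ∈ hsSet v w → y' ∈ hsSet v w → y ≠ x → y' ≠ x →
        (dotInt (x : GolayPt → ℤ) (y : GolayPt → ℤ) = 8 ↔
          dotInt (x : GolayPt → ℤ) (y' : GolayPt → ℤ) = 8) →
        ∃ g : Co0, g • v = v ∧ g • w = w ∧ g • x = x ∧ g • y = y' := by
  obtain ⟨a, a1, a2, a3⟩ := hs_point_normal hv hw hvw hx
  obtain ⟨c1, c2, c4⟩ := hs_suborbits_base
  have hm : ∀ y, a • y ∈ hsSet baseU baseW ↔ y ∈ hsSet v w := fun y => by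
    rw [← a1, ← a2]; exact hsSet_smul
  have hne : ∀ y, a • y ≠ baseV ↔ y ≠ x := fun y => by
    rw [← a3]; exact (MulAction.injective a).ne_iff
  have hdot : ∀ y : leechLattice, dotInt (baseV : GolayPt → ℤ) ((a • y : leechLattice) : GolayPt → ℤ) =
      dotInt (x : GolayPt → ℤ) (y : GolayPt → ℤ) := fun y => by rw [← a3]; exact co0_dot a x y
  refine ⟨?_, ?_, ?_⟩
  · rw [← c1, ← ncard_preimage_smul a (hsNearSet baseU baseW baseV)]
    congr 1
    ext y
    simp only [hsNearSet, Set.mem_ofPred_eq, hm, hdot]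
  · rw [← c2, ← ncard_preimage_smul a (hsFarSet baseU baseW baseV)]
    congr 1
    ext y
    simp only [hsFarSet, Set.mem_ofPred_eq, hm, hne, hdot, ne_eq]
  · intro y y' hy hy' hn hn' hd
    obtain ⟨g, g1, g2, g3, g4⟩ := c4 (a • y) (a • y') ((hm y).2 hy) ((hm y').2 hy') ((hne y).2 hn)
      ((hne y').2 hn') (by rw [hdot, hdot]; exact hd)
    refine ⟨a⁻¹ * g * a, ?_, ?_, ?_, ?_⟩ <;> rw [mul_smul, mul_smul, inv_smul_eq_iff]
    · rw [a1, g1]
    · rw [a2, g2]
    · rw [a3, g3]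
    · exact g4

end Cfsg.Agent.Leech

namespace Cfsg.Agent.Leech

open Cfsg Finset Cfsg.Spor

/-- An element exchanging the two standard vectors of norm 48. -/
theorem hs_swap_base : ∃ g : Co0, g • baseU = baseW ∧ g • baseW = baseU := by
  obtain ⟨a, ha⟩ := exists_gen (g := [(0x10c08060e040a03120715021005140d1309110f0b1617, 2 ^ 24 - 1)])
    (by decide +kernel)
  have hU : (baseU : GolayPt → ℤ) = dec 0x377777777777777777777777 := by decide +kernel
  have hW : (baseW : GolayPt → ℤ) = dec 0x99999999999999999999999d := by decide +kernel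
  refine ⟨a, Subtype.ext ?_, Subtype.ext ?_⟩
  · rw [ha _ baseU hU, hW]
    exact edgeOK_spec (by decide +kernel)
  · rw [ha _ baseW hW, hU]
    exact edgeOK_spec (by decide +kernel)

theorem hs_swap {v w : leechLattice} (hv : sqNorm (v : GolayPt → ℤ) = 48)
    (hw : sqNorm (w : GolayPt → ℤ) = 48) (hvw : dotInt (v : GolayPt → ℤ) (w : GolayPt → ℤ) = -32) :
    ∃ g : Co0, g • v = w ∧ g • w = v := by
  obtain ⟨a, a1, a2⟩ := hs_normal hv hw hvw
  obtain ⟨s, s1, s2⟩ := hs_swap_base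
  refine ⟨a⁻¹ * s * a, ?_, ?_⟩ <;> rw [mul_smul, mul_smul, inv_smul_eq_iff]
  · rw [a1, s1, a2]
  · rw [a2, s2, a1]

theorem minus16_transitive {u x x' : leechLattice} (hu : sqNorm (u : GolayPt → ℤ) = 48)
    (hx : x ∈ minus16Set u) (hx' : x' ∈ minus16Set u) : ∃ g : Co0, g • u = u ∧ g • x = x' := by
  obtain ⟨a, a1, a2⟩ := minus16_normal hu hx
  obtain ⟨b, b1, b2⟩ := minus16_normal hu hx'
  refine ⟨b⁻¹ * a, ?_, ?_⟩ <;> rw [mul_smul, inv_smul_eq_iff]
  · rw [a1, b1]
  · rw [a2, b2]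

end Cfsg.Agent.Leech
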