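/-
A rank three group on 100 points with simple point stabiliser and subdegrees 22, 77 is simple.
-/
import Mathlib

set_option autoImplicit false

namespace Cfsg.Agent.Leech

open MulAction

theorem card_pow_25_eq_one {N : Type*} [Group N] [Finite N] (hN : Nat.card N = 100) :
    {n : N | n ^ 25 = 1}.ncard = 25 := by
  have : Fact (Nat.Prime 5) := ⟨by norm_num⟩
  let P : Sylow 5 N := default
  obtain ⟨k, hk⟩ := P.isPGroup'.exists_card_eq
  have hmul := Subgroup.card_mul_index (P : Subgroup N)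
  have hnd : ¬ 5 ∣ (P : Subgroup N).index := P.not_dvd_index
  rw [hN, hk] at hmul
  have hk2 : k = 2 := by
    rcases k with _ | _ | _ | k
    · simp only [pow_zero, one_mul] at hmul; omega
    · omega
    · rfl
    · exfalso
      have h := (pow_dvd_pow 5 (show 3 ≤ k + 1 + 1 + 1 by omega)).trans (Dvd.intro _ hmul)
      norm_num at h
  subst hk2
  have hidx : (P : Subgroup N).index = 4 := by norm_num at hmul; omega
  have hone : Nat.card (Sylow 5 N) = 1 := by
    have h1 := card_sylow_modEq_one 5 N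
    have h2 := P.card_dvd_index
    rw [hidx] at h2
    have := Nat.le_of_dvd (by norm_num) h2
    unfold Nat.ModEq at h1
    interval_cases h : Nat.card (Sylow 5 N) <;> first | rfl | omega
  have hsub := (Nat.card_eq_one_iff_unique.1 hone).1
  have hset : {n : N | n ^ 25 = 1} = (P : Set N) := by
    ext n
    constructor
    · intro hn
      have hp : IsPGroup 5 (Subgroup.zpowers n) := by
        rintro ⟨_, z, rfl⟩
        refine ⟨2, Subtype.ext ?_⟩
        show (n ^ z) ^ (5 ^ 2) = 1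
        rw [← zpow_natCast, ← zpow_mul, mul_comm, zpow_mul, zpow_natCast]
        norm_num
        rw [show n ^ 25 = 1 from hn, one_zpow]
      obtain ⟨Q, hQ⟩ := hp.exists_le_sylow
      rw [Subsingleton.elim P Q]
      exact hQ (Subgroup.mem_zpowers n)
    · intro hn
      have h := pow_card_eq_one' (G := (P : Subgroup N)) (x := ⟨n, hn⟩)
      rw [hk] at h
      exact congrArg Subtype.val h
  rw [hset, ← Nat.card_coe_set_eq]
  exact hk

/-- The simplicity criterion. -/
theorem simple_of_rank_three_hundred {G α : Type*} [Group G] [Finite G] [Finite α] [MulAction G α]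
    [FaithfulSMul G α] (x₀ : α) (hS : IsSimpleGroup (stabilizer G x₀)) (hα : Nat.card α = 100)
    (A B : Set α) (hA : A.ncard = 22) (hB : B.ncard = 77)
    (hcov : ∀ y, y = x₀ ∨ y ∈ A ∨ y ∈ B)
    (hAo : ∀ y ∈ A, ∀ z ∈ A, ∃ h ∈ stabilizer G x₀, h • y = z)
    (hBo : ∀ y ∈ B, ∀ z ∈ B, ∃ h ∈ stabilizer G x₀, h • y = z)
    (htrans : ∀ y : α, ∃ g : G, g • x₀ = y) : IsSimpleGroup G := by
  classical
  have : IsPretransitive G α := ⟨fun y z => by
    obtain ⟨g, rfl⟩ := htrans y
    obtain ⟨h, rfl⟩ := htrans z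
    exact ⟨h * g⁻¹, by rw [mul_smul, inv_smul_smul]⟩⟩
  have : Nontrivial G := by
    have := hS.toNontrivial
    exact (Subgroup.subtype_injective (stabilizer G x₀)).nontrivial
  refine ⟨fun N hN => or_iff_not_imp_left.2 fun hne => ?_⟩
  -- a point moved by `N`
  obtain ⟨n₀, hn₀, hn₀x⟩ : ∃ n ∈ N, n • x₀ ≠ x₀ := by
    by_contra h
    push Not at h
    refine hne ((Subgroup.eq_bot_iff_forall _).2 fun n hn => eq_of_smul_eq_smul fun y : α => ?_)
    obtain ⟨g, rfl⟩ := htrans y
    have := h _ (hN.conj_mem n hn g⁻¹)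
    rw [inv_inv, mul_smul, mul_smul, inv_smul_eq_iff] at this
    rw [this, one_smul]
  -- the orbit of `x₀` under `N` is stable under the stabiliser
  have hstab : ∀ h ∈ stabilizer G x₀, ∀ y ∈ orbit N x₀, h • y ∈ orbit N x₀ := by
    rintro h hh _ ⟨⟨n, hn⟩, rfl⟩
    refine ⟨⟨h * n * h⁻¹, hN.conj_mem n hn h⟩, ?_⟩
    show (h * n * h⁻¹) • x₀ = h • n • x₀
    rw [mul_smul, mul_smul, inv_smul_eq_iff.2 (mem_stabilizer_iff.1 hh).symm]
  have hfill : ∀ C : Set α, (∀ y ∈ C, ∀ z ∈ C, ∃ h ∈ stabilizer G x₀, h • y = z) →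
      ∀ S : Set α, (∀ h ∈ stabilizer G x₀, ∀ y ∈ S, h • y ∈ S) → ∀ y ∈ S, y ∈ C → C ⊆ S := by
    intro C hC S hSinv y hy hyC z hz
    obtain ⟨h, hh, rfl⟩ := hC y hyC z hz
    exact hSinv h hh y hy
  have hAB : (A ∪ B).ncard = 99 := by
    have h2 : (Set.univ : Set α) ⊆ insert x₀ (A ∪ B) := fun z _ => by
      rcases hcov z with e | e | e
      · exact Or.inl e
      · exact Or.inr (Or.inl e)
      · exact Or.inr (Or.inr e)
    have := (Set.ncard_le_ncard h2 (Set.toFinite _)).trans (Set.ncard_insert_le _ _)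
    rw [Set.ncard_univ, hα] at this
    have := Set.ncard_union_le A B
    omega
  have hdisj : Disjoint A B := by
    rw [Set.disjoint_iff_inter_eq_empty, ← Set.ncard_eq_zero (Set.toFinite _)]
    have := Set.ncard_union_add_ncard_inter A B (Set.toFinite _) (Set.toFinite _)
    omega
  -- the sizes of sets invariant under the stabiliser
  have hsize : ∀ S : Set α, (∀ h ∈ stabilizer G x₀, ∀ y ∈ S, h • y ∈ S) → x₀ ∉ S →
      S.ncard = 0 ∨ S.ncard = 22 ∨ S.ncard = 77 ∨ S.ncard = 99 := by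
    intro S hSinv hx
    have hsub : S ⊆ A ∪ B := fun y hy => by
      rcases hcov y with e | e | e
      · exact absurd (e ▸ hy) hx
      · exact Or.inl e
      · exact Or.inr e
    by_cases a : (S ∩ A).Nonempty <;> by_cases b : (S ∩ B).Nonempty
    · obtain ⟨y, hy, hyA⟩ := a
      obtain ⟨z, hz, hzB⟩ := b
      rw [show S = A ∪ B from Set.Subset.antisymm hsub (Set.union_subset
        (hfill A hAo S hSinv y hy hyA) (hfill B hBo S hSinv z hz hzB)), hAB]
      omega
    · obtain ⟨y, hy, hyA⟩ := a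
      rw [show S = A from Set.Subset.antisymm (fun w hw => (hsub hw).resolve_right fun h => b ⟨w, hw, h⟩)
        (hfill A hAo S hSinv y hy hyA), hA]
      omega
    · obtain ⟨z, hz, hzB⟩ := b
      rw [show S = B from Set.Subset.antisymm (fun w hw => (hsub hw).resolve_left fun h => a ⟨w, hw, h⟩)
        (hfill B hBo S hSinv z hz hzB), hB]
      omega
    · rw [show S = ∅ from Set.eq_empty_of_forall_notMem fun w hw =>
        (hsub hw).elim (fun h => a ⟨w, hw, h⟩) fun h => b ⟨w, hw, h⟩, Set.ncard_empty]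
      omega
  -- `N` is transitive
  have huniv : orbit N x₀ = Set.univ := by
    have hblk : IsBlock G (orbit N x₀) := IsBlock.orbit_of_normal x₀
    have hdvd := hblk.ncard_dvd_card ⟨x₀, mem_orbit_self _⟩
    rw [hα] at hdvd
    have hne' : (orbit N x₀ \ {x₀}).Nonempty := ⟨n₀ • x₀, ⟨⟨⟨n₀, hn₀⟩, rfl⟩, hn₀x⟩⟩
    have hinv : ∀ h ∈ stabilizer G x₀, ∀ y ∈ orbit N x₀ \ {x₀}, h • y ∈ orbit N x₀ \ {x₀} := by
      intro h hh y hy
      refine ⟨hstab h hh y hy.1, fun e => hy.2 ?_⟩
      rw [Set.mem_singleton_iff] at e ⊢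
      rw [← inv_smul_smul h y, e, inv_smul_eq_iff.2 (mem_stabilizer_iff.1 hh).symm]
    have hsz := hsize _ hinv fun h => h.2 rfl
    have hpos := (Set.ncard_pos (Set.toFinite _)).2 hne'
    rw [Set.ncard_sdiff_singleton_of_mem (mem_orbit_self x₀)] at hsz hpos
    refine Set.eq_of_subset_of_ncard_le (Set.subset_univ _) ?_ (Set.toFinite _)
    rw [Set.ncard_univ, hα]
    rcases hsz with e | e | e | e
    · omega
    · rw [show (orbit N x₀).ncard = 23 by omega] at hdvd; norm_num at hdvd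
    · rw [show (orbit N x₀).ncard = 78 by omega] at hdvd; norm_num at hdvd
    · omega
  have hsup : ∀ g : G, ∃ n ∈ N, ∃ h ∈ stabilizer G x₀, g = n * h := fun g => by
    have hg : g • x₀ ∈ orbit N x₀ := by rw [huniv]; trivial
    obtain ⟨⟨n, hn⟩, e⟩ := hg
    have e' : n • x₀ = g • x₀ := e
    exact ⟨n, hn, n⁻¹ * g, by rw [mem_stabilizer_iff, mul_smul, ← e', inv_smul_smul], by group⟩
  rcases hS.eq_bot_or_eq_top_of_normal (N.subgroupOf (stabilizer G x₀)) inferInstance with hb | ht
  · exfalso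
    let φ : N → α := fun n => n • x₀
    have hinj : Function.Injective φ := fun n m e => by
      have hmem : (m⁻¹ * n : N) • x₀ = x₀ := by
        rw [mul_smul, show n • x₀ = m • x₀ from e, inv_smul_smul]
      have h1 : (⟨((m⁻¹ * n : N) : G), hmem⟩ : stabilizer G x₀) ∈ N.subgroupOf (stabilizer G x₀) :=
        (m⁻¹ * n : N).2
      rw [hb, Subgroup.mem_bot, Subtype.ext_iff] at h1
      exact (inv_mul_eq_one.1 (Subtype.ext h1)).symm
    have hsurj : Function.Surjective φ := fun y => by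
      have hy : y ∈ orbit N x₀ := by rw [huniv]; trivial
      exact hy
    have hcard : Nat.card N = 100 := (Nat.card_congr (Equiv.ofBijective φ ⟨hinj, hsurj⟩)).trans hα
    have h25 := card_pow_25_eq_one hcard
    have hinv : ∀ h ∈ stabilizer G x₀, ∀ y ∈ φ '' ({n : N | n ^ 25 = 1} \ {1}),
        h • y ∈ φ '' ({n : N | n ^ 25 = 1} \ {1}) := by
      rintro h hh _ ⟨n, ⟨hn, hn1⟩, rfl⟩
      refine ⟨⟨h * n * h⁻¹, hN.conj_mem _ n.2 h⟩, ⟨?_, fun e => hn1 ?_⟩, ?_⟩
      · apply Subtype.ext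
        show (h * (n : G) * h⁻¹) ^ 25 = 1
        rw [conj_pow, show (n : G) ^ 25 = 1 from congrArg Subtype.val hn, mul_one, mul_inv_cancel]
      · rw [Set.mem_singleton_iff] at e ⊢
        refine Subtype.ext ?_
        have e' : h * (n : G) * h⁻¹ = 1 := congrArg Subtype.val e
        rw [conj_eq_one_iff] at e'
        exact e'
      · show (h * (n : G) * h⁻¹) • x₀ = h • (n : G) • x₀
        rw [mul_smul, mul_smul, inv_smul_eq_iff.2 (mem_stabilizer_iff.1 hh).symm]
    have hx : x₀ ∉ φ '' ({n : N | n ^ 25 = 1} \ {1}) := by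
      rintro ⟨n, ⟨-, hn1⟩, e⟩
      exact hn1 (hinj (e.trans (one_smul N x₀).symm))
    have hsz := hsize _ hinv hx
    rw [Set.ncard_image_of_injective _ hinj, Set.ncard_sdiff_singleton_of_mem (by simp), h25] at hsz
    omega
  · rw [eq_top_iff]
    intro g _
    obtain ⟨n, hn, h, hh, rfl⟩ := hsup g
    refine N.mul_mem hn ?_
    have : (⟨h, hh⟩ : stabilizer G x₀) ∈ N.subgroupOf (stabilizer G x₀) := by rw [ht]; trivial
    exact this

end Cfsg.Agent.Leech
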