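/-
The monomial group is maximal in `Co0`.

A subgroup containing it and one more element has an element moving the standard cross to one
of three normal forms, and each of them forces Conway's element into the subgroup.
-/
import Cfsg.Agent.Lib.Leech.Order

set_option autoImplicit false

namespace Cfsg.Agent.Leech

open Cfsg Finset

/-! ### The code is its own dual -/

/-- Code words whose masks have a single bit above position 11. -/
def hiBasis : List ℕ :=
  [5279, 10558, 18147, 36294, 69395, 133817, 262637, 525274, 1050548, 2101096, 4196943, 8391797]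

theorem hiBasis_spec : ∀ k : Fin 12, Mathieu.inCode (hiBasis.getD k.val 0) = true ∧
    ∀ p : GolayPt, 12 ≤ (Mathieu.ptEnc p).val →
      Mathieu.wordOf (hiBasis.getD k.val 0) p = if (Mathieu.ptEnc p).val = 12 + k.val then 1 else 0 := by
  decide +kernel

theorem loBasis_spec : ∀ k : Fin 12, Mathieu.inCode (Mathieu.codeBasis.getD k.val 0) = true ∧
    ∀ p : GolayPt, (Mathieu.ptEnc p).val < 12 →
      Mathieu.wordOf (Mathieu.codeBasis.getD k.val 0) p =
        if (Mathieu.ptEnc p).val = k.val then 1 else 0 := by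
  decide +kernel

theorem code_perp {w : GolayPt → ZMod 2} (h : ∀ c ∈ golayCode, ∑ i, c i * w i = 0) :
    w ∈ golayCode := by
  set c0 : GolayPt → ZMod 2 := ∑ k : Fin 12,
    w (Mathieu.ptEnc.symm ⟨k.val, k.isLt.trans (by norm_num)⟩) •
      Mathieu.wordOf (Mathieu.codeBasis.getD k.val 0) with hc0def
  have hc0 : c0 ∈ golayCode := sum_mem fun k _ =>
    Submodule.smul_mem _ _ (Mathieu.wordOf_mem_of_inCode (loBasis_spec k).1)
  have hlo : ∀ p, (Mathieu.ptEnc p).val < 12 → (w + c0) p = 0 := by
    intro p hp
    have : c0 p = w p := by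
      rw [hc0def, Finset.sum_apply, Fintype.sum_eq_single ⟨_, hp⟩]
      · rw [Pi.smul_apply, (loBasis_spec ⟨_, hp⟩).2 p hp, if_pos rfl, smul_eq_mul, mul_one]
        exact congrArg w (Mathieu.ptEnc.symm_apply_apply p)
      · intro k hk
        rw [Pi.smul_apply, (loBasis_spec k).2 p hp, if_neg (fun e => hk (Fin.ext e.symm)), smul_zero]
    rw [Pi.add_apply, this]
    rcases zmod2_cases (w p) with e | e <;> rw [e] <;> decide
  have hzero : w + c0 = 0 := by
    funext p
    by_cases hp : (Mathieu.ptEnc p).val < 12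
    · exact hlo p hp
    set k : Fin 12 := ⟨(Mathieu.ptEnc p).val - 12, by have := (Mathieu.ptEnc p).isLt; omega⟩ with hk
    have hd := Mathieu.wordOf_mem_of_inCode (hiBasis_spec k).1
    have hsum : ∑ i, Mathieu.wordOf (hiBasis.getD k.val 0) i * (w + c0) i = 0 := by
      simp only [Pi.add_apply, mul_add, sum_add_distrib, h _ hd, code_dot hd hc0, add_zero]
    rw [Fintype.sum_eq_single p] at hsum
    · rw [(hiBasis_spec k).2 p (by omega), if_pos (by simp only [hk]; omega), one_mul] at hsum
      exact hsum
    · intro q hq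
      by_cases hq' : (Mathieu.ptEnc q).val < 12
      · rw [hlo q hq', mul_zero]
      · rw [(hiBasis_spec k).2 q (by omega), if_neg ?_, zero_mul]
        intro e
        refine hq (Mathieu.ptEnc.injective (Fin.ext ?_))
        simp only [hk] at e
        omega
  have hw : w = c0 := by
    have h2 := congrArg (· + c0) hzero
    simpa [add_assoc, add_self_word] using h2
  rw [hw]; exact hc0

theorem exists_code_dot_one {w : GolayPt → ZMod 2} (h : w ∉ golayCode) :
    ∃ c ∈ golayCode, ∑ i, c i * w i = 1 := by
  by_contra hno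
  push Not at hno
  exact h (code_perp fun c hc => (zmod2_cases _).resolve_right (hno c hc))

/-! ### The stabiliser of the standard cross -/

theorem mem_monGrp {g : Co0} : g ∈ monGrp ↔ FixesStd g := by
  refine ⟨fun h => ?_, fun h => Subgroup.subset_closure h⟩
  induction h using Subgroup.closure_induction with
  | mem x hx => exact hx
  | one => exact fixesStd_iff.2 (by rw [one_smul])
  | mul x y _ _ hx hy =>
    rw [fixesStd_iff] at hx hy ⊢
    rw [mul_smul, clsV_smul hy, hx]
  | inv x _ hx =>
    rw [fixesStd_iff] at hx ⊢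
    have := clsV_smul (g := x⁻¹) hx
    rw [inv_smul_smul] at this
    exact this.symm

/-- An element sending the standard cross where another element of `K` does lies in `K`. -/
theorem mem_of_cls_eq (K : Subgroup Co0) (hK : monGrp ≤ K) {g h : Co0} (hh : h ∈ K)
    (he : clsV (g • eight none) = clsV (h • eight none)) : g ∈ K := by
  have : h⁻¹ * g ∈ monGrp := by
    rw [mem_monGrp, fixesStd_iff, mul_smul]
    have := clsV_smul (g := h⁻¹) he
    rwa [inv_smul_smul] at this
  simpa using mul_mem hh (hK this)

theorem monXi_eq_top : monXi = ⊤ := by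
  rw [eq_top_iff]
  intro g _
  obtain ⟨h, hh, he⟩ := monXi_transitive (eight none) (g • eight none) 64 (Or.inr (Or.inr rfl))
    (sqNorm_eight none) ((co0_norm g _).trans (sqNorm_eight none))
  exact mem_of_cls_eq monXi le_sup_left hh (by rw [he])

theorem dot_dvd_eight {x y : GolayPt → ℤ} (hx : InL x) (hy : InL y) : 8 ∣ dotInt x y := by
  have a := sixteen_dvd_sqNorm hx
  have b := sixteen_dvd_sqNorm hy
  have c := sixteen_dvd_sqNorm (inL_add hx hy)
  rw [sqNorm_add] at c
  omega

/-- The value of an element at the first cross vector. -/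
def img (g : Co0) : GolayPt → ℤ := ((g • eight none : leechLattice) : GolayPt → ℤ)

theorem inL_img (g : Co0) : InL (img g) := mem_leechLattice.1 (g • eight none).2

theorem sqNorm_img (g : Co0) : sqNorm (img g) = 64 := (co0_norm g _).trans (sqNorm_eight none)

theorem exists_img_of_reach {g : Co0} {y : GolayPt → ℤ} (h : Reach false (img g) y) :
    ∃ n ∈ monGrp, img (n * g) = y := by
  obtain ⟨-, -, n, hn, hv⟩ := h
  exact ⟨n, hn, by rw [img, mul_smul]; exact hv _ rfl⟩

theorem projInv_apply (p : GolayPt) : projInv p = projInvFun p := rfl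

section

variable {K : Subgroup Co0} (hK : monGrp ≤ K)
include hK

theorem xi_of_cls {g h : Co0} (hg : g ∈ K) (hh : h ∈ K)
    (he : clsV ((xiElt * g) • eight none) = clsV (h • eight none)) : xiElt ∈ K := by
  simpa using mul_mem (mem_of_cls_eq K hK hh he) (inv_mem hg)

theorem xi_of_four {g : Co0} (hg : g ∈ K) (hns : ¬ FixesStd g) (hpar : img g none % 2 = 0)
    (h0 : hb (img g) = 0) : xiElt ∈ K := by
  rcases four64_cases (inL_img g) hpar h0 (sqNorm_img g) with h | h
  · obtain ⟨n, hn, he⟩ := exists_img_of_reach h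
    refine absurd (mem_monGrp.1 ?_) hns
    have hmem : n * g ∈ monGrp := by
      rw [mem_monGrp, fixesStd_iff]
      refine cls_stdCross ?_
      show img (n * g) ∈ stdCross
      rw [he]
      exact ⟨none, 8, Or.inl rfl, funext (by decide +kernel)⟩
    simpa using mul_mem (inv_mem hn) hmem
  · obtain ⟨n, hn, he⟩ := exists_img_of_reach h
    refine xi_of_cls hK (mul_mem (hK hn) hg) (one_mem K) ?_
    rw [one_smul]
    refine cls_stdCross ?_
    rw [mul_smul, xiElt_smul]
    show xiFun (img (n * g)) ∈ stdCross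
    rw [he]
    exact ⟨some 2, 8, Or.inl rfl, funext (by decide +kernel)⟩

theorem xi_of_odd {g : Co0} (hg : g ∈ K) (hpar : img g none % 2 = 1) : xiElt ∈ K := by
  obtain ⟨z, hz, h1⟩ := odd_normal (inL_img g) hpar
  obtain ⟨a, b, c, ha, hb', hc, hN, hab, hv⟩ := odd_counts hz.2.1 h1 (N := 64) (by norm_num)
    (hz.sqNorm_eq.trans (sqNorm_img g))
  rcases (show (a = 5 ∧ b = 0 ∧ c = 0) ∨ (a = 2 ∧ b = 1 ∧ c = 0) by omega) with
    ⟨rfl, rfl, rfl⟩ | ⟨rfl, rfl, rfl⟩
  · have hv' : ∀ i, z i = 1 ∨ z i = -3 := fun i => by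
      rcases hv i with h | h | h | h
      · exact Or.inl h
      · exact Or.inr h
      · exact absurd (card_eq_zero.1 hb') (Finset.Nonempty.ne_empty ⟨i, by simp [h]⟩)
      · exact absurd (card_eq_zero.1 hc) (Finset.Nonempty.ne_empty ⟨i, by simp [h]⟩)
    have hA := hz.trans (threes_reach hz.2.1 (by norm_num) ha hv')
    obtain ⟨n, hn, he⟩ := exists_img_of_reach hA
    set rA := patt (resEmb 5 (by norm_num)) (fun _ => -3) 1 with hrA
    set q := permElt projInv Mathieu.projInv_mem with hq
    have hv2 : img (q * (n * g)) = fun p => rA (projInv.symm p) := by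
      rw [img, mul_smul, hq, permElt_smul]
      show (fun i => img (n * g) (projInv.symm i)) = _
      rw [he]
    set w := vecOf [-1, -1, -1, 1, 1, 1, -1, -1, 1, 1, 1, -3, 1, 1, 1, -3, 1, -3, 1, -1, 1, -1, -3, 3] with hw
    have hxw : img (xiElt * (q * (n * g))) = w := by
      rw [img, mul_smul, xiElt_smul]
      show xiFun (img (q * (n * g))) = w
      rw [hv2]
      funext p
      revert p
      decide +kernel
    have hwL : InL w := hxw ▸ inL_img _
    have hrw : Reach false (img (xiElt * (q * (n * g)))) rA := by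
      rw [hxw]
      have h1 := reach_sign hwL hwL.2.1
      exact h1.trans (threes_reach h1.2.1 (a := 5) le_rfl (by decide +kernel) (by decide +kernel))
    obtain ⟨m, hm, hme⟩ := exists_img_of_reach hrw
    refine xi_of_cls hK (g := q * (n * g)) (mul_mem (hK (hq ▸ permElt_mem projInv Mathieu.projInv_mem)) (mul_mem (hK hn) hg))
      (mul_mem (inv_mem (hK hm)) (mul_mem (hK hn) hg)) (congrArg clsV (Subtype.ext ?_))
    have h2 : (m * (xiElt * (q * (n * g)))) • eight none = (n * g) • eight none :=
      Subtype.ext (hme.trans he.symm)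
    have h3 := congrArg (fun v => m⁻¹ • v) h2
    simp only [smul_smul, inv_mul_cancel_left] at h3
    exact congrArg Subtype.val h3
  · have hv' : ∀ i, z i = 1 ∨ z i = -3 ∨ z i = 5 := fun i => by
      rcases hv i with h | h | h | h
      · exact Or.inl h
      · exact Or.inr (Or.inl h)
      · exact Or.inr (Or.inr h)
      · exact absurd (card_eq_zero.1 hc) (Finset.Nonempty.ne_empty ⟨i, by simp [h]⟩)
    have hB := hz.trans (five_reach hz.2.1 (by norm_num) ha hb' hv')
    obtain ⟨n, hn, he⟩ := exists_img_of_reach hB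
    refine xi_of_cls hK (mul_mem (hK hn) hg) (mul_mem (hK hn) hg) ?_
    have hneg : (xiElt * (n * g)) • eight none = -((n * g) • eight none) := by
      refine Subtype.ext ?_
      rw [mul_smul, xiElt_smul, AddSubgroup.coe_neg]
      show xiFun (img (n * g)) = -img (n * g)
      rw [he]
      have hB5 : ∀ p, xiFun (patt (resEmb 3 (by norm_num)) (Fin.cons 5 fun _ => -3) 1) p =
          -patt (resEmb 3 (by norm_num)) (Fin.cons 5 fun _ => -3) 1 p := by decide +kernel
      exact funext hB5
    rw [hneg]
    exact clsV_eq_iff.2 ⟨-((n * g) • eight none), by abel⟩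

theorem xi_of_even {g : Co0} (hg : g ∈ K) (hpar : img g none % 2 = 0) (h0 : hb (img g) ≠ 0) :
    xiElt ∈ K := by
  classical
  set y := img g with hy
  have hyL := inL_img g
  rw [← hy] at hyL
  set h := hb y with hh
  have hcard := hb_card_le hyL hpar (by rw [hy, sqNorm_img])
  rw [← hh] at hcard
  have hpos : 2 ≤ (support₂ h).card := by
    have := code_min_weight hyL.2.1 h0
    rw [← hh] at this
    omega
  obtain ⟨a, ha, b, hb2, hab⟩ := one_lt_card.1 hpos
  have hcompl : 2 ≤ (univ \ support₂ h).card := by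
    rw [card_sdiff_of_subset (subset_univ _), card_univ, show Fintype.card GolayPt = 24 from rfl]
    omega
  obtain ⟨c, hc, d, hd, hcd⟩ := one_lt_card.1 hcompl
  have hne : ∀ {p q : GolayPt}, p ∈ support₂ h → q ∈ univ \ support₂ h → p ≠ q :=
    fun hp hq e => (mem_sdiff.1 hq).2 (e ▸ hp)
  obtain ⟨σ, hσ, hσs⟩ := Mathieu.M24_exists_map (k := 3) (by norm_num)
    ⟨![a, b, c], by
      intro i j e
      fin_cases i <;> fin_cases j <;>
        simp [hab, hab.symm, hne ha hc, hne hb2 hc, (hne ha hc).symm, (hne hb2 hc).symm] at e ⊢⟩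
    ⟨![a, d, c], by
      intro i j e
      fin_cases i <;> fin_cases j <;>
        simp [hcd, hcd.symm, hne ha hc, hne ha hd, (hne ha hc).symm, (hne ha hd).symm] at e ⊢⟩
  have sa : σ.symm a = a := σ.symm_apply_eq.2 (hσs 0).symm
  have sd : σ.symm d = b := σ.symm_apply_eq.2 (hσs 1).symm
  have sc : σ.symm c = c := σ.symm_apply_eq.2 (hσs 2).symm
  set h' : GolayPt → ZMod 2 := fun p => h (σ.symm p) with hh'
  have hh'C : h' ∈ golayCode := comp_mem_code (σ := σ.symm) (inv_mem hσ) hyL.2.1
  set w : GolayPt → ZMod 2 := fun p => h p * h' p with hw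
  have hsupp : support₂ w = support₂ h ∩ support₂ h' := by
    ext p
    simp only [mem_inter, mem_supp, hw]
    rcases zmod2_cases (h p) with e | e <;> rcases zmod2_cases (h' p) with e' | e' <;> simp [e, e']
  have hcard' : (support₂ h').card = (support₂ h).card := by
    rw [← card_map σ.symm.toEmbedding]
    refine congrArg card ?_
    ext p
    simp [mem_supp, hh', Finset.mem_map_equiv]
  have hc0 : c ∉ support₂ h' := by
    rw [mem_supp, hh']
    show ¬ h (σ.symm c) = 1
    rw [sc]
    exact fun e => (mem_sdiff.1 hc).2 (mem_supp.2 e)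
  have hd1 : d ∈ support₂ h' := by
    rw [mem_supp, hh']
    show h (σ.symm d) = 1
    rw [sd]
    exact mem_supp.1 hb2
  have ha1 : a ∈ support₂ h' := by
    rw [mem_supp, hh']
    show h (σ.symm a) = 1
    rw [sa]
    exact mem_supp.1 ha
  have hwC : w ∉ golayCode := by
    intro hwm
    have hw0 : w ≠ 0 := fun e => by
      have : a ∈ support₂ w := hsupp ▸ mem_inter.2 ⟨ha, ha1⟩
      rw [e, mem_supp] at this
      exact zero_ne_one this
    have hsub : h + w ≠ 0 := fun e => by
      have heq : w = h := by
        have := congrArg (· + h) e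
        simpa [add_comm h w, add_assoc, add_self_word] using this
      have hss : support₂ h ⊆ support₂ h' := fun p hp => by
        have : p ∈ support₂ w := by rw [heq]; exact hp
        rw [hsupp] at this
        exact (mem_inter.1 this).2
      exact (mem_sdiff.1 hd).2 (eq_of_subset_of_card_le hss hcard'.le ▸ hd1)
    have h8 := code_min_weight hwm hw0
    have h8' := code_min_weight (add_mem hyL.2.1 hwm) hsub
    have hadd := supp_add h w
    have hi : support₂ h ∩ support₂ w = support₂ w := by
      rw [hsupp]; exact inter_eq_right.2 inter_subset_left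
    rw [hi] at hadd
    rw [← hh] at h8'
    have hu := card_union_add_card_inter (support₂ h) (support₂ h')
    rw [← hsupp, hcard'] at hu
    have hlt : (support₂ h ∪ support₂ h').card < 24 := by
      rw [← show Fintype.card GolayPt = 24 from rfl]
      refine card_lt_univ_of_notMem (x := c) fun hm => ?_
      rcases mem_union.1 hm with hm | hm
      · exact (mem_sdiff.1 hc).2 hm
      · exact hc0 hm
    omega
  obtain ⟨e, heC, hew⟩ := exists_code_dot_one hwC
  set z : GolayPt → ℤ := fun p => y (σ.symm p) with hz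
  have hzL : InL z := inL_comp (σ := σ.symm) (inv_mem hσ) hyL
  have hev : ∀ p, y p % 2 = 0 := fun p => by have := hyL.1 p; omega
  have hterm : ∀ p, (8 : ℤ) ∣ z p * y p - 4 * (if w p = 1 then 1 else 0) := by
    intro p
    have key : ∀ q, h q = 1 → ∃ k, y q = 4 * k + 2 := fun q hq => by
      rw [hh, hb_eq_one_iff] at hq
      exact ⟨y q / 4, by have := hev q; omega⟩
    have key' : ∀ q, h q = 0 → ∃ k, y q = 4 * k := fun q hq => by
      rw [hh, hb_eq_zero_iff] at hq
      exact ⟨y q / 4, by have := hev q; omega⟩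
    have hzp : z p = y (σ.symm p) := rfl
    rcases zmod2_cases (h p) with e1 | e1 <;> rcases zmod2_cases (h (σ.symm p)) with e2 | e2
    · obtain ⟨k, hk⟩ := key' _ e1; obtain ⟨l, hl⟩ := key' _ e2
      exact ⟨2 * k * l, by simp only [hw, hh', e1, e2, hzp, hk, hl]; simp; ring⟩
    · obtain ⟨k, hk⟩ := key' _ e1; obtain ⟨l, hl⟩ := key _ e2
      exact ⟨2 * k * l + k, by simp only [hw, hh', e1, e2, hzp, hk, hl]; simp; ring⟩
    · obtain ⟨k, hk⟩ := key _ e1; obtain ⟨l, hl⟩ := key' _ e2
      exact ⟨2 * k * l + l, by simp only [hw, hh', e1, e2, hzp, hk, hl]; simp; ring⟩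
    · obtain ⟨k, hk⟩ := key _ e1; obtain ⟨l, hl⟩ := key _ e2
      exact ⟨2 * k * l + k + l, by simp only [hw, hh', e1, e2, hzp, hk, hl]; simp; ring⟩
  have hsum4 : (8 : ℤ) ∣ ∑ p ∈ support₂ e, z p * y p - 4 * ((support₂ e ∩ support₂ w).card : ℤ) := by
    have := Finset.dvd_sum fun p (_ : p ∈ support₂ e) => hterm p
    rw [sum_sub_distrib, ← mul_sum, sum_boole] at this
    have hf : (support₂ e).filter (fun p => w p = 1) = support₂ e ∩ support₂ w := by
      ext p; simp [mem_supp]
    rwa [hf] at this
  have hdiff : dotInt (signFun e z) y = dotInt z y - 2 * ∑ p ∈ support₂ e, z p * y p := by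
    rw [dotInt, dotInt, mul_sum, ← sum_filter_add_sum_filter_not univ (· ∈ support₂ e) fun p => signFun e z p * y p,
      ← sum_filter_add_sum_filter_not univ (· ∈ support₂ e) fun p => z p * y p, filter_univ_mem,
      sum_congr rfl fun p hp => show signFun e z p * y p = -(z p * y p) by
        simp only [signFun, if_pos hp]; ring,
      sum_congr rfl fun p hp => show signFun e z p * y p = z p * y p by
        simp only [signFun, if_neg (mem_filter.1 hp).2],
      sum_neg_distrib, ← mul_sum]
    ring
  have h8a := dot_dvd_eight hzL hyL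
  have hodd : ((support₂ e ∩ support₂ w).card : ℤ) % 2 = 1 := by
    rw [dot_eq_inter_card] at hew
    have : ¬ 2 ∣ (support₂ e ∩ support₂ w).card := fun hdvd => by
      rw [← ZMod.natCast_eq_zero_iff] at hdvd
      rw [hdvd] at hew
      exact zero_ne_one hew
    omega
  obtain ⟨n, hn, hn8⟩ : ∃ n ∈ monGrp, dotInt (img (n * g)) y % 16 = 8 := by
    by_cases hz16 : dotInt z y % 16 = 8
    · exact ⟨permElt σ hσ, permElt_mem σ hσ, by rw [img, mul_smul, permElt_smul]; exact hz16⟩
    · refine ⟨signElt e heC * permElt σ hσ, mul_mem (signElt_mem e heC) (permElt_mem σ hσ), ?_⟩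
      rw [img, mul_smul, mul_smul, signElt_smul, permElt_smul]
      show dotInt (signFun e z) y % 16 = 8
      rw [hdiff]
      omega
  have hg' : g⁻¹ * (n * g) ∈ K := mul_mem (inv_mem hg) (mul_mem (hK hn) hg)
  refine xi_of_odd hK hg' ?_
  have hdot := co0_dot g ((g⁻¹ * (n * g)) • eight none) (eight none)
  rw [smul_smul, mul_inv_cancel_left] at hdot
  change dotInt (img (n * g)) y = dotInt (img (g⁻¹ * (n * g))) (eight none : GolayPt → ℤ) at hdot
  have hdot8 : dotInt (img (g⁻¹ * (n * g))) (eight none : GolayPt → ℤ) = img (g⁻¹ * (n * g)) none * 8 := by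
    simp [dotInt, eight_val, Pi.single_apply]
  omega

theorem xi_mem_of {g : Co0} (hg : g ∈ K) (hns : ¬ FixesStd g) : xiElt ∈ K := by
  rcases Int.emod_two_eq_zero_or_one (img g none) with h | h
  · by_cases h0 : hb (img g) = 0
    · exact xi_of_four hK hg hns h h0
    · exact xi_of_even hK hg h h0
  · exact xi_of_odd hK hg h

end

theorem monGrp_isCoatom : IsCoatom monGrp := by
  refine ⟨fun h => ?_, fun K hK => ?_⟩
  · have hx : FixesStd xiElt := mem_monGrp.1 (h ▸ Subgroup.mem_top _)
    obtain ⟨i, s, hs, he⟩ := hx _ (eight_mem_stdCross none)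
    rw [xiElt_smul, eight_val] at he
    have h1 := congrFun he (some 0)
    have hval : xiFun (Pi.single none 8) (some 0) = 4 := by decide +kernel
    rw [hval, Pi.single_apply] at h1
    split_ifs at h1 <;> omega
  · obtain ⟨g, hg, hgn⟩ := SetLike.exists_of_lt hK
    rw [← top_le_iff, ← monXi_eq_top, monXi, sup_le_iff, Subgroup.zpowers_le]
    exact ⟨hK.le, xi_mem_of hK.le hg fun h => hgn (mem_monGrp.2 h)⟩

end Cfsg.Agent.Leech
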