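/-
`Co0` is perfect and `Co0` modulo its centre is simple.
-/
import Cfsg.Agent.Lib.Leech.Maximal
import Cfsg.Agent.Lib.Mathieu.Simple
import Cfsg.Prelude.Def_Sporadic

set_option autoImplicit false

namespace Cfsg.Agent.Leech

open Cfsg Finset

/-- `permElt` as a homomorphism. -/
def permHom : M24 →* Co0 where
  toFun σ := permElt σ σ.2
  map_one' := eq_of_smul_eq_smul (α := leechLattice) fun v => Subtype.ext (by
    rw [permElt_smul, one_smul]; rfl)
  map_mul' σ τ := eq_of_smul_eq_smul (α := leechLattice) fun v => Subtype.ext (by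
    rw [mul_smul, permElt_smul, permElt_smul, permElt_smul]; rfl)

/-- The group of sign changes. -/
def signGrp : Subgroup Co0 where
  carrier := {g | ∃ (c : GolayPt → ZMod 2) (hc : c ∈ golayCode), g = signElt c hc}
  one_mem' := ⟨0, zero_mem _, eq_of_smul_eq_smul (α := leechLattice) fun v => Subtype.ext (by
    rw [signElt_smul, one_smul]; funext i; simp [signFun, mem_supp])⟩
  mul_mem' := by
    rintro _ _ ⟨c, hc, rfl⟩ ⟨d, hd, rfl⟩
    refine ⟨c + d, add_mem hc hd, eq_of_smul_eq_smul (α := leechLattice) fun v => Subtype.ext ?_⟩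
    rw [mul_smul, signElt_smul, signElt_smul, signElt_smul]
    funext i
    simp only [signFun, mem_supp, Pi.add_apply]
    rcases zmod2_cases (c i) with h | h <;> rcases zmod2_cases (d i) with h' | h' <;> rw [h, h'] <;>
      simp [show (1 : ZMod 2) + 1 = 0 from by decide]
  inv_mem' := by
    rintro _ ⟨c, hc, rfl⟩
    refine ⟨c, hc, inv_eq_of_mul_eq_one_right ?_⟩
    refine eq_of_smul_eq_smul (α := leechLattice) fun v => Subtype.ext ?_
    rw [mul_smul, signElt_smul, signElt_smul, signFun_signFun, one_smul]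

theorem signElt_add {c d : GolayPt → ZMod 2} (hc : c ∈ golayCode) (hd : d ∈ golayCode) :
    signElt (c + d) (add_mem hc hd) = signElt c hc * signElt d hd := by
  refine eq_of_smul_eq_smul (α := leechLattice) fun v => Subtype.ext ?_
  rw [mul_smul, signElt_smul, signElt_smul, signElt_smul]
  funext i
  simp only [signFun, mem_supp, Pi.add_apply]
  rcases zmod2_cases (c i) with h | h <;> rcases zmod2_cases (d i) with h' | h' <;> rw [h, h'] <;>
    simp [show (1 : ZMod 2) + 1 = 0 from by decide]

theorem signElt_congr {c d : GolayPt → ZMod 2} (hc : c ∈ golayCode) (hd : d ∈ golayCode) (h : c = d) :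
    signElt c hc = signElt d hd := by subst h; rfl

theorem signGrp_comm : IsMulCommutative signGrp := by
  refine ⟨⟨?_⟩⟩
  rintro ⟨_, c, hc, rfl⟩ ⟨_, d, hd, rfl⟩
  refine Subtype.ext ?_
  show signElt c hc * signElt d hd = signElt d hd * signElt c hc
  rw [← signElt_add hc hd, ← signElt_add hd hc]
  exact signElt_congr _ _ (add_comm c d)

theorem signGrp_le : signGrp ≤ monGrp := by
  rintro _ ⟨c, hc, rfl⟩
  exact signElt_mem c hc

theorem perm_conj_sign (σ : M24) {c : GolayPt → ZMod 2} (hc : c ∈ golayCode) :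
    permHom σ * signElt c hc * (permHom σ)⁻¹ =
      signElt (c ∘ (σ : Equiv.Perm GolayPt).symm) (comp_mem_code (inv_mem σ.2) hc) := by
  rw [mul_inv_eq_iff_eq_mul]
  refine eq_of_smul_eq_smul (α := leechLattice) fun v => Subtype.ext ?_
  rw [mul_smul, mul_smul]
  show ((permElt σ σ.2 • signElt c hc • v : leechLattice) : GolayPt → ℤ) = _
  rw [permElt_smul, signElt_smul, signElt_smul]
  show _ = signFun _ ((permElt σ σ.2 • v : leechLattice) : GolayPt → ℤ)
  rw [permElt_smul]
  funext i
  simp only [signFun, mem_supp, Function.comp_apply]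

theorem mono_decomp {g : Co0} (hg : g ∈ monGrp) :
    ∃ (σ : M24) (c : GolayPt → ZMod 2) (hc : c ∈ golayCode), g = signElt c hc * permHom σ := by
  obtain ⟨p, rfl⟩ := exists_monoElt_of_fixesStd (mem_monGrp.1 hg)
  exact ⟨p.1, p.2, p.2.2, rfl⟩

theorem mono_conj_signGrp {g : Co0} (hg : g ∈ monGrp) {a : Co0} (ha : a ∈ signGrp) :
    g * a * g⁻¹ ∈ signGrp := by
  obtain ⟨σ, c, hc, rfl⟩ := mono_decomp hg
  obtain ⟨d, hd, rfl⟩ := ha
  rw [show signElt c hc * permHom σ * signElt d hd * (signElt c hc * permHom σ)⁻¹ =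
    signElt c hc * (permHom σ * signElt d hd * (permHom σ)⁻¹) * (signElt c hc)⁻¹ by group,
    perm_conj_sign]
  exact mul_mem (mul_mem ⟨c, hc, rfl⟩ ⟨_, _, rfl⟩) (inv_mem ⟨c, hc, rfl⟩)

/-- A sign change at exactly one point of the tetrad ∞, 0, 1, 2 is carried out of the monomial
group by Conway's element. -/
theorem xi_sign_not_mem {c : GolayPt → ZMod 2} (hc : c ∈ golayCode) (h0 : c none = 1)
    (h1 : c (some 0) = 0) (h2 : c (some 1) = 0) (h3 : c (some 2) = 0) :
    xiElt * signElt c hc * xiElt ∉ monGrp := by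
  intro hm
  obtain ⟨i, s, hs, he⟩ := (mem_monGrp.1 hm) _ (eight_mem_stdCross none)
  rw [mul_smul, mul_smul, xiElt_smul, signElt_smul, xiElt_smul, eight_val] at he
  have hflip : signFun c (xiFun (Pi.single none 8)) = patt tetEmb ![4, 4, 4, 4] 0 := by
    funext p
    have hoff : ∀ q : GolayPt, q ≠ none → q ≠ some 0 → q ≠ some 1 → q ≠ some 2 →
        xiFun (Pi.single none 8) q = 0 ∧ patt tetEmb ![4, 4, 4, 4] 0 q = 0 := by decide +kernel
    have hon : xiFun (Pi.single none 8) none = -4 ∧ xiFun (Pi.single none 8) (some 0) = 4 ∧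
        xiFun (Pi.single none 8) (some 1) = 4 ∧ xiFun (Pi.single none 8) (some 2) = 4 ∧
        patt tetEmb ![4, 4, 4, 4] 0 none = 4 ∧ patt tetEmb ![4, 4, 4, 4] 0 (some 0) = 4 ∧
        patt tetEmb ![4, 4, 4, 4] 0 (some 1) = 4 ∧ patt tetEmb ![4, 4, 4, 4] 0 (some 2) = 4 := by
      decide +kernel
    obtain ⟨v0, v1, v2, v3, w0, w1, w2, w3⟩ := hon
    simp only [signFun, mem_supp]
    by_cases e0 : p = none
    · rw [e0, if_pos h0, v0, w0]; rfl
    by_cases e1 : p = some 0
    · rw [e1, if_neg (by rw [h1]; decide), v1, w1]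
    by_cases e2 : p = some 1
    · rw [e2, if_neg (by rw [h2]; decide), v2, w2]
    by_cases e3 : p = some 2
    · rw [e3, if_neg (by rw [h3]; decide), v3, w3]
    obtain ⟨a, b⟩ := hoff p e0 e1 e2 e3
    rw [a, b]; simp
  rw [hflip] at he
  have hval : xiFun (patt tetEmb ![4, 4, 4, 4] 0) none = 4 := by decide +kernel
  have h := congrFun he none
  rw [hval, Pi.single_apply] at h
  split_ifs at h <;> omega

theorem exists_sign_out : ∃ (c : GolayPt → ZMod 2) (hc : c ∈ golayCode),
    xiElt * signElt c hc * xiElt ∉ monGrp := by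
  obtain ⟨c, hc, h⟩ := code_interp {none, some 0, some 1, some 2}
    (by decide) (fun p => if p = none then 1 else 0)
  exact ⟨c, hc, xi_sign_not_mem hc (by rw [h _ (by simp)]; rfl) (by rw [h _ (by simp)]; rfl)
    (by rw [h _ (by simp)]; rfl) (by rw [h _ (by simp)]; rfl)⟩

theorem xiElt_inv : xiElt⁻¹ = xiElt := by
  refine inv_eq_of_mul_eq_one_right (eq_of_smul_eq_smul (α := leechLattice) fun v => Subtype.ext ?_)
  rw [mul_smul, xiElt_smul, xiElt_smul, xiFun_xiFun (mem_leechLattice.1 v.2), one_smul]

/-- A normal subgroup containing all sign changes is everything. -/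
theorem eq_top_of_signGrp_le (L : Subgroup Co0) [hL : L.Normal] (h : signGrp ≤ L) : L = ⊤ := by
  have hnle : ¬ L ≤ monGrp := by
    intro hle
    obtain ⟨c, hc, hout⟩ := exists_sign_out
    have := hle (hL.conj_mem _ (h ⟨c, hc, rfl⟩) xiElt)
    rw [xiElt_inv] at this
    exact hout this
  have hsup : L ⊔ monGrp = ⊤ :=
    monGrp_isCoatom.2 _ (lt_of_le_of_ne le_sup_right fun e => hnle (e ▸ le_sup_left))
  have : IsSimpleGroup M24 := Mathieu.isSimple_M24
  rcases this.eq_bot_or_eq_top_of_normal (L.comap permHom) inferInstance with hb | ht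
  · -- a product of sign changes and their conjugates with a nontrivial permutation part
    exfalso
    set d := Mathieu.wordOf 1808541 with hd
    have hdC : d ∈ golayCode := Mathieu.wordOf_mem_of_inCode (by decide +kernel)
    have hxL : xiElt * signElt d hdC * xiElt ∈ L := by
      have := hL.conj_mem _ (h ⟨d, hdC, rfl⟩) xiElt
      rwa [xiElt_inv] at this
    set g := xiElt * signElt d hdC * xiElt with hg
    have hval : ((g • eight none : leechLattice) : GolayPt → ℤ) = Pi.single (some 1) (-8) := by
      rw [hg, mul_smul, mul_smul, xiElt_smul, signElt_smul, xiElt_smul, eight_val]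
      have hdec : ∀ p, xiFun (fun i => if Mathieu.hasPt 1808541 i then -xiFun (Pi.single none 8) i
          else xiFun (Pi.single none 8) i) p = (Pi.single (some 1) (-8) : GolayPt → ℤ) p := by
        decide +kernel
      rw [← funext hdec]
      congr 1
      funext i
      simp only [signFun, mem_supp, hd, Mathieu.wordOf]
      by_cases hi : Mathieu.hasPt 1808541 i = true <;> simp [hi]
    have hmon : g ∈ monGrp := by
      rw [mem_monGrp, fixesStd_iff]
      exact cls_stdCross (hval ▸ ⟨some 1, -8, Or.inr rfl, rfl⟩)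
    obtain ⟨σ, c, hc, hσ⟩ := mono_decomp hmon
    have hσL : permHom σ ∈ L := by
      have : (signElt c hc)⁻¹ * g = permHom σ := by rw [hσ, inv_mul_cancel_left]
      rw [← this]
      exact mul_mem (inv_mem (h ⟨c, hc, rfl⟩)) hxL
    have hσ1 : σ = 1 := by
      have : σ ∈ L.comap permHom := hσL
      rwa [hb, Subgroup.mem_bot] at this
    rw [hσ, hσ1, map_one, mul_one, signElt_smul] at hval
    have h1 := congrFun hval (some 1)
    simp [signFun, eight_val] at h1
  · have hperm : ∀ σ, permHom σ ∈ L := fun σ => by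
      have : σ ∈ L.comap permHom := by rw [ht]; trivial
      exact this
    rw [← hsup, eq_comm, sup_eq_left]
    intro g hg
    obtain ⟨σ, c, hc, rfl⟩ := mono_decomp hg
    exact mul_mem (h ⟨c, hc, rfl⟩) (hperm σ)

/-- For each basis mask, two code words whose differences with their images under translation and
inversion add up to it. -/
def commPairs : List (ℕ × ℕ) :=
  [(1140602, 13938692), (13062145, 0), (10471289, 13938692), (5902343, 0), (2443125, 13938692),
   (12482405, 13938692), (530245, 13938692), (16101503, 0), (15425791, 0), (14074367, 0),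
   (12379269, 13938692), (864389, 13938692)]

/-- Mask of the image of a mask under a map of the points. -/
def imgMask (f : GolayPt → GolayPt) (m : ℕ) : GolayPt → ZMod 2 := fun p => Mathieu.wordOf m (f p)

theorem commPairs_ok : ∀ k : Fin 12,
    Mathieu.inCode (commPairs.getD k.val (0, 0)).1 = true ∧
    Mathieu.inCode (commPairs.getD k.val (0, 0)).2 = true ∧
    ∀ p : GolayPt, Mathieu.wordOf (Mathieu.codeBasis.getD k.val 0) p =
      Mathieu.wordOf (commPairs.getD k.val (0, 0)).1 p +
        imgMask (Option.map fun x : ZMod 23 => x - 1) (commPairs.getD k.val (0, 0)).1 p +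
      (Mathieu.wordOf (commPairs.getD k.val (0, 0)).2 p +
        imgMask projInvFun (commPairs.getD k.val (0, 0)).2 p) := by
  decide +kernel

theorem translation_symm (p : GolayPt) :
    (Equiv.optionCongr (Equiv.addRight (1 : ZMod 23))).symm p = Option.map (fun x => x - 1) p := by
  rw [Equiv.symm_apply_eq]
  cases p <;> simp

theorem commutator_co0 : commutator Co0 = ⊤ := by
  refine eq_top_of_signGrp_le _ ?_
  set W : AddSubgroup (GolayPt → ZMod 2) :=
    { carrier := {c | ∃ hc : c ∈ golayCode, signElt c hc ∈ commutator Co0}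
      zero_mem' := ⟨zero_mem _, by
        have : signElt 0 (zero_mem _) = 1 := eq_of_smul_eq_smul (α := leechLattice) fun v =>
          Subtype.ext (by rw [signElt_smul, one_smul]; funext i; simp [signFun, mem_supp])
        rw [this]; exact one_mem _⟩
      add_mem' := fun ⟨ha, ha'⟩ ⟨hb, hb'⟩ => ⟨add_mem ha hb, by rw [signElt_add ha hb]; exact mul_mem ha' hb'⟩
      neg_mem' := fun {a} ha => by
        have : -a = a := funext fun i => by rcases zmod2_cases (a i) with h | h <;> simp [h]
        rwa [this] } with hW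
  have hdiff : ∀ (σ : M24) (c : GolayPt → ZMod 2), c ∈ golayCode →
      c + c ∘ (σ : Equiv.Perm GolayPt).symm ∈ W := by
    intro σ c hc
    have hc' : c ∘ (σ : Equiv.Perm GolayPt).symm ∈ golayCode := comp_mem_code (inv_mem σ.2) hc
    refine ⟨add_mem hc hc', ?_⟩
    rw [signElt_add hc hc', ← perm_conj_sign σ hc]
    have hinv : (signElt c hc)⁻¹ = signElt c hc := inv_eq_of_mul_eq_one_right
      (eq_of_smul_eq_smul (α := leechLattice) fun v => Subtype.ext (by
        rw [mul_smul, signElt_smul, signElt_smul, signFun_signFun, one_smul]))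
    have := Subgroup.commutator_mem_commutator (H₁ := (⊤ : Subgroup Co0)) (H₂ := (⊤ : Subgroup Co0))
      (Subgroup.mem_top (signElt c hc)) (Subgroup.mem_top (permHom σ))
    rw [commutatorElement_def, hinv] at this
    have e : signElt c hc * (permHom σ * signElt c hc * (permHom σ)⁻¹) =
        signElt c hc * permHom σ * signElt c hc * (permHom σ)⁻¹ := by group
    rw [e]
    exact this
  have hbasis : ∀ b ∈ Mathieu.codeBasis, Mathieu.wordOf b ∈ W := by
    intro b hb
    obtain ⟨k, hk, rfl⟩ := List.getElem_of_mem hb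
    obtain ⟨h1, h2, h3⟩ := commPairs_ok ⟨k, hk⟩
    set a := (commPairs.getD k (0, 0)).1 with ha
    set a' := (commPairs.getD k (0, 0)).2 with ha'
    have e1 : Mathieu.wordOf Mathieu.codeBasis[k] =
        (Mathieu.wordOf a + Mathieu.wordOf a ∘ (Equiv.optionCongr (Equiv.addRight (1 : ZMod 23))).symm) +
        (Mathieu.wordOf a' + Mathieu.wordOf a' ∘ projInv.symm) := by
      funext p
      have := h3 p
      rw [List.getD_eq_getElem _ _ hk] at this
      rw [this]
      simp only [Pi.add_apply, Function.comp_apply, imgMask]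
      rw [translation_symm]
      rfl
    rw [e1]
    exact add_mem (hdiff ⟨_, Mathieu.translation_mem⟩ _ (Mathieu.wordOf_mem_of_inCode h1))
      (hdiff ⟨_, Mathieu.projInv_mem⟩ _ (Mathieu.wordOf_mem_of_inCode h2))
  rintro _ ⟨c, hc, rfl⟩
  suffices c ∈ W from this.2
  obtain ⟨m, hm, rfl⟩ := Mathieu.mem_golayCode_iff.1 hc
  rw [Mathieu.inCode, beq_iff_eq] at hm
  rw [← hm]
  clear hc hm
  suffices ∀ bs : List ℕ, (∀ b ∈ bs, Mathieu.wordOf b ∈ W) → ∀ k,
      Mathieu.wordOf (Mathieu.encC bs k) ∈ W from this _ hbasis m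
  intro bs
  induction bs with
  | nil =>
    intro _ k
    have : Mathieu.wordOf (Mathieu.encC [] k) = 0 := by
      funext i; simp [Mathieu.encC, Mathieu.wordOf, Mathieu.hasPt]
    rw [this]; exact W.zero_mem
  | cons b bs ih =>
    intro h k
    have ih := ih (fun a ha => h a (List.mem_cons_of_mem _ ha)) (k / 2)
    rw [Mathieu.encC, Mathieu.wordOf_xor]
    refine W.add_mem ?_ ih
    split_ifs
    · exact h b List.mem_cons_self
    · convert W.zero_mem using 1
      funext i; simp [Mathieu.wordOf, Mathieu.hasPt]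

theorem normal_le_center (K : Subgroup Co0) [hK : K.Normal] (hle : K ≤ monGrp) :
    K ≤ Subgroup.center Co0 := by
  have diag : ∀ (c : GolayPt → ZMod 2) (hc : c ∈ golayCode), signElt c hc ∈ K → c = 0 ∨ c = 1 := by
    intro c hc hcK
    by_contra hne
    push Not at hne
    obtain ⟨a, ha⟩ := Function.ne_iff.1 hne.1
    have hsmall : (support₂ c).card ≠ 24 := fun h24 => hne.2 (funext fun i => mem_supp.1 (by
      rw [eq_univ_of_card _ (h24.trans (show 24 = Fintype.card GolayPt from rfl))]
      exact mem_univ i))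
    have hc3 : 3 ≤ (univ \ support₂ c).card := by
      rw [card_sdiff_of_subset (subset_univ _), card_univ, show Fintype.card GolayPt = 24 from rfl]
      rcases code_weight hc with h | h | h | h | h <;> omega
    obtain ⟨T, hT, hT3⟩ := exists_subset_card_eq hc3
    obtain ⟨p, q, r, hpq, hpr, hqr, rfl⟩ := card_eq_three.1 hT3
    have hz : ∀ x ∈ ({p, q, r} : Finset GolayPt), c x = 0 ∧ x ≠ a := fun x hx => by
      have h := (mem_sdiff.1 (hT hx)).2
      rw [mem_supp] at h
      exact ⟨(zmod2_cases _).resolve_right h, fun e => h (e ▸ zmod2_eq_one_of_ne ha)⟩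
    obtain ⟨hp0, hpa⟩ := hz p (by simp)
    obtain ⟨hq0, hqa⟩ := hz q (by simp)
    obtain ⟨hr0, hra⟩ := hz r (by simp)
    obtain ⟨σ, hσ, hσs⟩ := Mathieu.M24_exists_map (k := 4) (by norm_num)
      ⟨![a, p, q, r], by
        intro i j h
        fin_cases i <;> fin_cases j <;> simp [hpa, hqa, hra, hpq, hpr, hqr, hpa.symm, hqa.symm,
          hra.symm, hpq.symm, hpr.symm, hqr.symm] at h ⊢⟩ tetEmb
    have hconj : signElt (c ∘ σ.symm) (comp_mem_code (inv_mem hσ) hc) ∈ K := by
      rw [← perm_conj_sign ⟨σ, hσ⟩ hc]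
      exact hK.conj_mem _ hcK _
    have hx := hK.conj_mem _ hconj xiElt
    rw [xiElt_inv] at hx
    refine xi_sign_not_mem _ ?_ ?_ ?_ ?_ (hle hx)
    · show c (σ.symm none) = 1
      rw [show σ.symm none = a from σ.symm_apply_eq.2 (hσs 0).symm]
      exact zmod2_eq_one_of_ne ha
    · show c (σ.symm (some 0)) = 0
      rw [show σ.symm (some 0) = p from σ.symm_apply_eq.2 (hσs 1).symm]
      exact hp0
    · show c (σ.symm (some 1)) = 0
      rw [show σ.symm (some 1) = q from σ.symm_apply_eq.2 (hσs 2).symm]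
      exact hq0
    · show c (σ.symm (some 2)) = 0
      rw [show σ.symm (some 2) = r from σ.symm_apply_eq.2 (hσs 3).symm]
      exact hr0
  intro k hk
  obtain ⟨σ, c, hc, rfl⟩ := mono_decomp (hle hk)
  by_cases hσ : σ = 1
  · rw [hσ, map_one, mul_one] at hk ⊢
    rcases diag c hc hk with rfl | rfl
    · have : signElt 0 hc = 1 := eq_of_smul_eq_smul (α := leechLattice) fun v =>
        Subtype.ext (by rw [signElt_smul, one_smul]; funext i; simp [signFun, mem_supp])
      rw [this]; exact one_mem _
    · exact negElt_mem_center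
  exfalso
  obtain ⟨p, hp⟩ : ∃ p, (σ : Equiv.Perm GolayPt).symm p ≠ p := by
    by_contra h
    push Not at h
    refine hσ (Subtype.ext (Equiv.ext fun p => ?_))
    have := h p
    rw [Equiv.symm_apply_eq] at this
    exact this.symm
  set τ := (σ : Equiv.Perm GolayPt).symm with hτ
  obtain ⟨q, hq⟩ : (univ \ ({p, τ p, (σ : Equiv.Perm GolayPt) p} : Finset GolayPt)).Nonempty := by
    apply card_pos.1
    rw [card_sdiff_of_subset (subset_univ _), card_univ, show Fintype.card GolayPt = 24 from rfl]
    have := (card_le_three (a := p) (b := τ p) (c := (σ : Equiv.Perm GolayPt) p))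
    omega
  simp only [mem_sdiff, mem_univ, true_and, mem_insert, mem_singleton, not_or] at hq
  obtain ⟨d, hd, hdv⟩ := code_interp {p, τ p, q, τ q} (card_le_four.trans (by norm_num))
    fun x => if x = τ p then 1 else 0
  have h1 : signElt d hd ∈ monGrp := signElt_mem d hd
  have hcomm : (signElt c hc * permHom σ) * signElt d hd * (signElt c hc * permHom σ)⁻¹ *
      (signElt d hd)⁻¹ ∈ K := by
    have e : (signElt c hc * permHom σ) * signElt d hd * (signElt c hc * permHom σ)⁻¹ * (signElt d hd)⁻¹ =
        (signElt c hc * permHom σ) * (signElt d hd * (signElt c hc * permHom σ)⁻¹ * (signElt d hd)⁻¹) := by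
      group
    rw [e]
    exact mul_mem hk (hK.conj_mem _ (inv_mem hk) _)
  have hσc : (signElt c hc * permHom σ) * signElt d hd * (signElt c hc * permHom σ)⁻¹ *
      (signElt d hd)⁻¹ = signElt (d ∘ τ + d) (add_mem (comp_mem_code (inv_mem σ.2) hd) hd) := by
    have e1 : signElt c hc * permHom σ * signElt d hd * (signElt c hc * permHom σ)⁻¹ =
        signElt c hc * (permHom σ * signElt d hd * (permHom σ)⁻¹) * (signElt c hc)⁻¹ := by group
    have hinv : (signElt d hd)⁻¹ = signElt d hd := inv_eq_of_mul_eq_one_right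
      (eq_of_smul_eq_smul (α := leechLattice) fun v => Subtype.ext (by
        rw [mul_smul, signElt_smul, signElt_smul, signFun_signFun, one_smul]))
    have hinvc : (signElt c hc)⁻¹ = signElt c hc := inv_eq_of_mul_eq_one_right
      (eq_of_smul_eq_smul (α := leechLattice) fun v => Subtype.ext (by
        rw [mul_smul, signElt_smul, signElt_smul, signFun_signFun, one_smul]))
    rw [e1, perm_conj_sign, hinv, hinvc, ← signElt_add, ← signElt_add, ← signElt_add]
    refine signElt_congr _ _ ?_
    rw [add_comm c, add_assoc _ c c, add_self_word, add_zero]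
  rw [hσc] at hcomm
  have hv : ∀ x ∈ ({p, τ p, q, τ q} : Finset GolayPt), d x = if x = τ p then 1 else 0 := hdv
  have hτq : τ q ≠ τ p := fun e => hq.1 (τ.injective e)
  rcases diag _ _ hcomm with e | e
  · have := congrFun e p
    simp only [Pi.add_apply, Function.comp_apply, Pi.zero_apply, hv (τ p) (by simp), hv p (by simp),
      if_neg (Ne.symm hp), add_zero] at this
    exact one_ne_zero this
  · have := congrFun e q
    simp only [Pi.add_apply, Function.comp_apply, Pi.one_apply, hv (τ q) (by simp), hv q (by simp),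
      if_neg hτq, if_neg hq.2.1, add_zero] at this
    exact zero_ne_one this

theorem co1_simple : IsSimpleGroup (Co0 ⧸ Subgroup.center Co0) := by
  have hne : Nontrivial (Co0 ⧸ Subgroup.center Co0) := by
    refine Finite.one_lt_card_iff_nontrivial.1 ?_
    have h := Subgroup.card_eq_card_quotient_mul_card_subgroup (Subgroup.center Co0)
    rw [card_co0, card_center] at h
    omega
  refine ⟨fun N hN => or_iff_not_imp_left.2 fun hN0 => ?_⟩
  set K := N.comap (QuotientGroup.mk' (Subgroup.center Co0)) with hK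
  have hKn : K.Normal := hN.comap _
  have hKc : ¬ K ≤ Subgroup.center Co0 := fun h => hN0 (by
    rw [eq_bot_iff]
    intro x hx
    obtain ⟨g, rfl⟩ := QuotientGroup.mk'_surjective _ x
    rw [Subgroup.mem_bot, QuotientGroup.mk'_apply, QuotientGroup.eq_one_iff]
    exact h hx)
  have hnle : ¬ K ≤ monGrp := fun h => hKc (normal_le_center K h)
  have hsup : K ⊔ monGrp = ⊤ :=
    monGrp_isCoatom.2 _ (lt_of_le_of_ne le_sup_right fun e => hnle (e ▸ le_sup_left))
  have hKA : K ⊔ signGrp = ⊤ := by
    refine top_le_iff.1 ?_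
    rw [← eq_top_of_signGrp_le (Subgroup.normalClosure (signGrp : Set Co0))
      Subgroup.le_normalClosure]
    refine Subgroup.closure_le _ |>.2 fun x hx => ?_
    obtain ⟨a, ha, hax⟩ := Group.mem_conjugatesOfSet_iff.1 hx
    obtain ⟨g, rfl⟩ := isConj_iff.1 hax
    obtain ⟨k, hk, n, hn, rfl⟩ : ∃ k ∈ K, ∃ n ∈ monGrp, k * n = g := by
      have : g ∈ K ⊔ monGrp := hsup ▸ Subgroup.mem_top g
      rwa [Subgroup.mem_sup_of_normal_left] at this
    rw [SetLike.mem_coe, show k * n * a * (k * n)⁻¹ = k * (n * a * n⁻¹) * k⁻¹ by group]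
    exact mul_mem (mul_mem (Subgroup.mem_sup_left hk)
      (Subgroup.mem_sup_right (mono_conj_signGrp hn ha))) (inv_mem (Subgroup.mem_sup_left hk))
  have := Subgroup.Normal.commutator_le_of_self_sup_commutative_eq_top hKA signGrp_comm
  rw [commutator_co0, top_le_iff] at this
  rw [eq_top_iff]
  intro x _
  obtain ⟨g, rfl⟩ := QuotientGroup.mk'_surjective _ x
  have : g ∈ K := by rw [this]; trivial
  exact this

theorem co1_isCo1 : Cfsg.IsCo1 (Co0 ⧸ Subgroup.center Co0) := by
  refine ⟨co1_simple, ?_⟩
  have h := Subgroup.card_eq_card_quotient_mul_card_subgroup (Subgroup.center Co0)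
  rw [card_co0, card_center] at h
  omega

end Cfsg.Agent.Leech
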