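/-
The joint stabiliser of two vectors of norm 48 with dot product -32: faithful rank three action on
its 100 points with point stabiliser the monomial M22, simplicity and order.
-/
import Cfsg.Agent.Lib.Leech.ConfigsHS
import Cfsg.Agent.Lib.Leech.Simple
import Cfsg.Agent.Lib.Leech.RankThreeSimple
import Cfsg.Agent.Lib.Mathieu.Simple

set_option autoImplicit false

namespace Cfsg.Agent.Leech

open Cfsg Finset Cfsg.Spor MulAction

/-- The joint stabiliser of the two standard vectors of norm 48. -/
abbrev hsGrp : Subgroup Co0 := stabilizer Co0 baseU ⊓ stabilizer Co0 baseW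

/-- The 100 points. -/
abbrev HSPoint : Type := ↥(hsSet baseU baseW)

theorem hs_mem_smul (g : hsGrp) (x : HSPoint) : (g : Co0) • (x : leechLattice) ∈ hsSet baseU baseW := by
  have h := (hsSet_smul (g := (g : Co0))).2 x.2
  rwa [mem_stabilizer_iff.1 g.2.1, mem_stabilizer_iff.1 g.2.2] at h

instance hsAction : MulAction hsGrp HSPoint where
  smul g x := ⟨(g : Co0) • (x : leechLattice), hs_mem_smul g x⟩
  one_smul x := Subtype.ext (one_smul Co0 (x : leechLattice))
  mul_smul g h x := Subtype.ext (mul_smul (g : Co0) (h : Co0) (x : leechLattice))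

theorem hs_smul_val (g : hsGrp) (x : HSPoint) :
    ((g • x : HSPoint) : leechLattice) = (g : Co0) • (x : leechLattice) := rfl

theorem card_HSPoint : Nat.card HSPoint = 100 := by
  rw [Nat.card_coe_set_eq, hsSet_base, hs_counts_base.1]

instance finite_HSPoint : Finite HSPoint :=
  Nat.finite_of_card_ne_zero (by rw [card_HSPoint]; norm_num)

/-- The standard point. -/
def ptV : HSPoint := ⟨baseV, by rw [hsSet_base]; exact baseV_mem_hs⟩

/-- The 22 points given by odd vectors. -/
def pointVal (k : GolayPt) : GolayPt → ℤ := fun p => if p = k then 3 else -1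

theorem pointVal_facts : ∀ k : GolayPt, k ≠ none → k ≠ some 0 →
    hb (pointVal k) = 1 ∧ (∀ i, pointVal k i % 2 = pointVal k none % 2) ∧
      (∑ i, pointVal k i) % 8 = 4 * pointVal k none % 8 ∧ sqNorm (pointVal k) = 32 ∧
      dotInt (baseU : GolayPt → ℤ) (pointVal k) = 24 ∧
      dotInt (baseW : GolayPt → ℤ) (pointVal k) = -24 := by
  decide +kernel

theorem permHom_val (σ : M24) (v : leechLattice) :
    ((permHom σ • v : leechLattice) : GolayPt → ℤ) =
      fun i => (v : GolayPt → ℤ) ((σ : Equiv.Perm GolayPt).symm i) := rfl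

theorem fixed_of_const {σ : Equiv.Perm GolayPt} {f : GolayPt → ℤ}
    (h : ∀ q, q ≠ none → q ≠ some 0 → ∀ r, r ≠ none → r ≠ some 0 → f q = f r)
    (h1 : σ none = none) (h2 : σ (some 0) = some 0) (i : GolayPt) : f (σ.symm i) = f i := by
  have e1 : σ.symm none = none := by rw [Equiv.symm_apply_eq, h1]
  have e2 : σ.symm (some 0) = some 0 := by rw [Equiv.symm_apply_eq, h2]
  by_cases a : i = none
  · rw [a, e1]
  by_cases b : i = some 0
  · rw [b, e2]
  exact h _ (fun e => a (σ.symm.injective (e.trans e1.symm)))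
    (fun e => b (σ.symm.injective (e.trans e2.symm))) _ a b

/-- Elements of `M22` as elements of the group. -/
def m22Elt (σ : Spor.M22) : hsGrp :=
  ⟨permHom ⟨σ.1, (Mathieu.mem_M22_iff.1 σ.2).1⟩, by
    obtain ⟨-, h1, h2⟩ := Mathieu.mem_M22_iff.1 σ.2
    refine ⟨mem_stabilizer_iff.2 (Subtype.ext ?_), mem_stabilizer_iff.2 (Subtype.ext ?_)⟩ <;>
      rw [permHom_val] <;> funext i <;> refine fixed_of_const ?_ h1 h2 i
    · decide +kernel
    · decide +kernel⟩

theorem m22Elt_fix (σ : Spor.M22) : m22Elt σ • ptV = ptV := by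
  obtain ⟨-, h1, h2⟩ := Mathieu.mem_M22_iff.1 σ.2
  refine Subtype.ext (Subtype.ext ?_)
  rw [hs_smul_val]
  show ((permHom _ • baseV : leechLattice) : GolayPt → ℤ) = _
  rw [permHom_val]
  funext i
  exact fixed_of_const (by decide +kernel) h1 h2 i

theorem permHom_injective : Function.Injective permHom := by
  intro σ τ h
  refine Subtype.ext (Equiv.ext fun p => ?_)
  have h1 := congrArg (fun g => ((g • eight p : leechLattice) : GolayPt → ℤ) ((σ : Equiv.Perm GolayPt) p)) h
  simp only [permHom_val, eight_val, Equiv.symm_apply_apply, Pi.single_eq_same] at h1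
  by_contra hne
  rw [Pi.single_eq_of_ne] at h1
  · norm_num at h1
  · intro e
    exact hne ((Equiv.symm_apply_eq _).1 e)

/-- `M22` inside the stabiliser of the standard point. -/
def m22Hom : Spor.M22 →* stabilizer hsGrp ptV where
  toFun σ := ⟨m22Elt σ, m22Elt_fix σ⟩
  map_one' := Subtype.ext (Subtype.ext (map_one permHom))
  map_mul' σ τ := Subtype.ext (Subtype.ext (map_mul permHom
    (⟨σ.1, (Mathieu.mem_M22_iff.1 σ.2).1⟩ : M24) ⟨τ.1, (Mathieu.mem_M22_iff.1 τ.2).1⟩))

/-- The stabiliser of the standard point is monomial. -/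
theorem hs_stab_mono {g : Co0} (hU : g • baseU = baseU) (hW : g • baseW = baseW)
    (hV : g • baseV = baseV) : ∃ σ : Spor.M22, g = permHom ⟨σ.1, (Mathieu.mem_M22_iff.1 σ.2).1⟩ := by
  have hY : baseY = baseU + baseW := by rw [baseW]; abel
  have hU' : g • leechU' = leechU' := by
    have : g • baseY = baseY := by rw [hY, co0_add, hU, hW]
    simpa [baseY, co0_neg] using this
  have hUv : g • leechU = leechU := by simpa [baseV, co0_neg] using hV
  have h8 : g • eight none = eight none := by
    have e : eight none = leechU + leechU' := by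
      refine Subtype.ext ?_
      rw [eight_val, AddSubgroup.coe_add]
      decide +kernel
    rw [e, co0_add, hUv, hU']
  have hmon : g ∈ monGrp := by rw [mem_monGrp, fixesStd_iff, h8]
  obtain ⟨σ, c, hc, rfl⟩ := mono_decomp hmon
  have val : ∀ (v : leechLattice), (signElt c hc * permHom σ) • v = v → ∀ i,
      signFun c (fun j => (v : GolayPt → ℤ) ((σ : Equiv.Perm GolayPt).symm j)) i = (v : GolayPt → ℤ) i := by
    intro v hv i
    have h := congrArg (fun w : leechLattice => (w : GolayPt → ℤ) i) hv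
    simp only [mul_smul, signElt_smul, permHom_val] at h
    exact h
  have h1 : (σ : Equiv.Perm GolayPt).symm none = none := by
    by_contra hne
    have h := val _ h8 none
    simp only [eight_val, Pi.single_eq_same, signFun, Pi.single_eq_of_ne hne, neg_zero, ite_self] at h
    norm_num at h
  have h2 : (σ : Equiv.Perm GolayPt).symm (some 0) = some 0 := by
    have hne : (σ : Equiv.Perm GolayPt).symm (some 0) ≠ none := fun e =>
      Option.some_ne_none (0 : ZMod 23) ((σ : Equiv.Perm GolayPt).symm.injective (e.trans h1.symm))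
    by_contra h0
    have h := val _ hUv (some 0)
    have hu : ∀ q : GolayPt, q ≠ none → q ≠ some 0 → (leechU : GolayPt → ℤ) q = 0 := by decide +kernel
    have hu0 : (leechU : GolayPt → ℤ) (some 0) = 4 := by decide +kernel
    simp only [signFun, hu _ hne h0, neg_zero, ite_self, hu0] at h
    norm_num at h
  have e1 : (σ : Equiv.Perm GolayPt) none = none := by rw [Equiv.symm_apply_eq] at h1; exact h1.symm
  have e2 : (σ : Equiv.Perm GolayPt) (some 0) = some 0 := by
    rw [Equiv.symm_apply_eq] at h2; exact h2.symm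
  refine ⟨⟨σ.1, Mathieu.mem_M22_iff.2 ⟨σ.2, e1, e2⟩⟩, ?_⟩
  have hc0 : c = 0 := by
    funext i
    have h := val _ hU i
    have hfix := fixed_of_const (f := (baseU : GolayPt → ℤ)) (by decide +kernel) e1 e2 i
    have hneg : ∀ q : GolayPt, (baseU : GolayPt → ℤ) q < 0 := by decide +kernel
    rcases zmod2_cases (c i) with h0 | h0
    · exact h0
    · simp only [signFun, mem_supp, h0, if_pos] at h
      rw [hfix] at h
      have := hneg i
      omega
  subst hc0
  have hz : signElt 0 hc = 1 := eq_of_smul_eq_smul (α := leechLattice) fun v => Subtype.ext (by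
    rw [signElt_smul, one_smul]; funext i; simp [signFun, mem_supp])
  rw [hz, one_mul]

theorem m22Hom_bijective : Function.Bijective m22Hom := by
  constructor
  · intro σ τ h
    have h' := congrArg (fun z : stabilizer hsGrp ptV => ((z : hsGrp) : Co0)) h
    exact Subtype.ext (congrArg (fun z : M24 => (z : Equiv.Perm GolayPt)) (permHom_injective h'))
  · rintro ⟨⟨g, hU, hW⟩, hg⟩
    have hV : g • baseV = baseV := congrArg Subtype.val (mem_stabilizer_iff.1 hg)
    obtain ⟨σ, rfl⟩ := hs_stab_mono (mem_stabilizer_iff.1 hU) (mem_stabilizer_iff.1 hW) hV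
    exact ⟨σ, rfl⟩

theorem hs_exists_smul (y : HSPoint) : ∃ g : hsGrp, g • ptV = y := by
  obtain ⟨g, g1, g2, g3⟩ := hs_base y.1 (by rw [← hsSet_base]; exact y.2)
  exact ⟨⟨g, mem_stabilizer_iff.2 g1, mem_stabilizer_iff.2 g2⟩, Subtype.ext g3⟩

theorem card_hsGrp : Nat.card hsGrp = 44352000 := by
  have horb : orbit hsGrp ptV = Set.univ := Set.eq_univ_of_forall fun y => mem_orbit_iff.2 (hs_exists_smul y)
  have h := Subgroup.index_mul_card (stabilizer hsGrp ptV)
  rw [index_stabilizer, horb, Set.ncard_univ, card_HSPoint,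
    ← Nat.card_congr (MulEquiv.ofBijective m22Hom m22Hom_bijective).toEquiv, Mathieu.card_M22] at h
  omega

instance hs_faithful : FaithfulSMul hsGrp HSPoint := by
  refine ⟨fun {g h} e => ?_⟩
  have e' : ∀ y : HSPoint, (h⁻¹ * g) • y = y := fun y => by rw [mul_smul, e y, inv_smul_smul]
  suffices hk : h⁻¹ * g = 1 from (inv_mul_eq_one.1 hk).symm
  generalize h⁻¹ * g = k at e' ⊢
  obtain ⟨k, hk1, hk2⟩ := k
  obtain ⟨σ, rfl⟩ := hs_stab_mono (mem_stabilizer_iff.1 hk1) (mem_stabilizer_iff.1 hk2)
    (congrArg Subtype.val (e' ptV))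
  obtain ⟨-, h1, h2⟩ := Mathieu.mem_M22_iff.1 σ.2
  have hσ : (σ : Equiv.Perm GolayPt) = 1 := by
    refine Equiv.ext fun p => ?_
    by_cases a : p = none
    · rw [a, h1]; rfl
    by_cases b : p = some 0
    · rw [b, h2]; rfl
    obtain ⟨hh, hp, hs, hn, hd1, hd2⟩ := pointVal_facts p a b
    have hL : InL (pointVal p) := ⟨hp, hh ▸ one_mem_code, hs⟩
    have h := congrArg (fun w : HSPoint => ((w : leechLattice) : GolayPt → ℤ) ((σ : Equiv.Perm GolayPt) p))
      (e' ⟨⟨pointVal p, mem_leechLattice.2 hL⟩, hn, hd1, hd2⟩)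
    simp only [hs_smul_val, permHom_val, Equiv.symm_apply_apply] at h
    simp only [pointVal, if_pos] at h
    show (σ : Equiv.Perm GolayPt) p = p
    by_contra hne
    rw [if_neg hne] at h
    norm_num at h
  refine Subtype.ext ?_
  show permHom _ = 1
  rw [← map_one permHom]
  exact congrArg permHom (Subtype.ext hσ)

theorem hsGrp_simple : IsSimpleGroup hsGrp := by
  have : IsSimpleGroup Spor.M22 := Mathieu.isSimple_M22
  have hS : IsSimpleGroup (stabilizer hsGrp ptV) :=
    (MulEquiv.ofBijective m22Hom m22Hom_bijective).symm.isSimpleGroup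
  obtain ⟨c1, c2, c3⟩ := hs_suborbits_base
  have himage : ∀ P : Set leechLattice, P ⊆ hsSet baseU baseW →
      {y : HSPoint | (y : leechLattice) ∈ P}.ncard = P.ncard := fun P hP =>
    Set.ncard_congr (fun y _ => (y : leechLattice)) (fun y hy => hy)
      (fun a b _ _ e => Subtype.ext e) fun y hy => ⟨⟨y, hP hy⟩, hy, rfl⟩
  refine simple_of_rank_three_hundred ptV hS card_HSPoint
    {y | (y : leechLattice) ∈ hsNearSet baseU baseW baseV}
    {y | (y : leechLattice) ∈ hsFarSet baseU baseW baseV}
    ((himage _ fun _ h => h.1).trans c1) ((himage _ fun _ h => h.1).trans c2) (fun y => ?_) ?_ ?_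
    hs_exists_smul
  · by_cases hy : (y : leechLattice) = baseV
    · exact Or.inl (Subtype.ext hy)
    by_cases h8 : dotInt (baseV : GolayPt → ℤ) ((y : leechLattice) : GolayPt → ℤ) = 8
    · exact Or.inr (Or.inl ⟨y.2, h8⟩)
    · exact Or.inr (Or.inr ⟨y.2, hy, h8⟩)
  all_goals
    intro y hy z hz
  · have hny : (y : leechLattice) ≠ baseV := fun e => by
      have := hy.2
      rw [e, dot_self, baseV_mem.1] at this
      norm_num at this
    have hnz : (z : leechLattice) ≠ baseV := fun e => by
      have := hz.2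
      rw [e, dot_self, baseV_mem.1] at this
      norm_num at this
    obtain ⟨g, g1, g2, g3, g4⟩ := c3 y z y.2 z.2 hny hnz ⟨fun _ => hz.2, fun _ => hy.2⟩
    exact ⟨⟨g, mem_stabilizer_iff.2 g1, mem_stabilizer_iff.2 g2⟩,
      mem_stabilizer_iff.2 (Subtype.ext g3), Subtype.ext g4⟩
  · obtain ⟨g, g1, g2, g3, g4⟩ := c3 y z y.2 z.2 hy.2.1 hz.2.1
      ⟨fun e => absurd e hy.2.2, fun e => absurd e hz.2.2⟩
    exact ⟨⟨g, mem_stabilizer_iff.2 g1, mem_stabilizer_iff.2 g2⟩,
      mem_stabilizer_iff.2 (Subtype.ext g3), Subtype.ext g4⟩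

theorem hsGrp_isHS : IsHS hsGrp := ⟨hsGrp_simple, card_hsGrp⟩

/-- Joint stabilisers at conjugate pairs are isomorphic. -/
noncomputable def stabPairEquiv (a : Co0) {v w v' w' : leechLattice} (hv : a • v = v') (hw : a • w = w') :
    ↥(stabilizer Co0 v ⊓ stabilizer Co0 w) ≃* ↥(stabilizer Co0 v' ⊓ stabilizer Co0 w') :=
  (Subgroup.equivMapOfInjective _ (MulAut.conj a).toMonoidHom (MulAut.conj a).injective).trans
    (MulEquiv.subgroupCongr (by
      rw [Subgroup.map_inf _ _ _ (MulAut.conj a).injective, ← hv, ← hw,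
        stabilizer_smul_eq_stabilizer_map_conj, stabilizer_smul_eq_stabilizer_map_conj]))

theorem isHS_stabilizer {v w : leechLattice} (hv : sqNorm (v : GolayPt → ℤ) = 48)
    (hw : sqNorm (w : GolayPt → ℤ) = 48) (hvw : dotInt (v : GolayPt → ℤ) (w : GolayPt → ℤ) = -32) :
    IsHS ↥(stabilizer Co0 v ⊓ stabilizer Co0 w) := by
  obtain ⟨a, a1, a2⟩ := hs_normal hv hw hvw
  let e := stabPairEquiv a a1 a2
  have : IsSimpleGroup hsGrp := hsGrp_simple
  exact ⟨e.isSimpleGroup, (Nat.card_congr e.toEquiv).trans card_hsGrp⟩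

end Cfsg.Agent.Leech
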