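/-
The stabiliser of a vector of norm 48 and one of its decompositions: faithful rank three action on
275 points, order and simplicity.
-/
import Cfsg.Agent.Lib.Leech.Configs
import Cfsg.Agent.Lib.Leech.HSGroup
import Cfsg.Agent.Lib.Leech.Orb.MclM21
import Cfsg.Agent.Lib.Mathieu.PlaneStab

set_option autoImplicit false

namespace Cfsg.Agent.Leech

open Cfsg Finset Cfsg.Spor MulAction

/-- The stabiliser of the standard decomposition. -/
abbrev mclGrp : Subgroup Co0 := stabilizer Co0 baseU ⊓ stabilizer Co0 baseV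

/-- The 275 points. -/
abbrev MclPoint : Type := ↥(decompAt baseU baseV 16)

theorem mcl_mem_smul (g : mclGrp) (x : MclPoint) :
    (g : Co0) • (x : leechLattice) ∈ decompAt baseU baseV 16 := by
  have h := (decompAt_smul (g := (g : Co0))).2 x.2
  rwa [mem_stabilizer_iff.1 g.2.1, mem_stabilizer_iff.1 g.2.2] at h

instance mclAction : MulAction mclGrp MclPoint where
  smul g x := ⟨(g : Co0) • (x : leechLattice), mcl_mem_smul g x⟩
  one_smul x := Subtype.ext (one_smul Co0 (x : leechLattice))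
  mul_smul g h x := Subtype.ext (mul_smul (g : Co0) (h : Co0) (x : leechLattice))

theorem mcl_smul_val (g : mclGrp) (x : MclPoint) :
    ((g • x : MclPoint) : leechLattice) = (g : Co0) • (x : leechLattice) := rfl

theorem card_MclPoint : Nat.card MclPoint = 275 := by
  rw [Nat.card_coe_set_eq, ncard_mcl baseU_norm baseV_mem]

instance finite_MclPoint : Finite MclPoint :=
  Nat.finite_of_card_ne_zero (by rw [card_MclPoint]; norm_num)

/-- The standard point. -/
def ptX : MclPoint := ⟨baseX, baseX_mem⟩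

theorem mcl_exists_smul (y : MclPoint) : ∃ g : mclGrp, g • ptX = y := by
  obtain ⟨g, g1, g2, g3⟩ := mcl_base y.1 y.2
  exact ⟨⟨g, mem_stabilizer_iff.2 g1, mem_stabilizer_iff.2 g2⟩, Subtype.ext g3⟩

/-! ### Order -/

theorem ncard_shell48 : {x : leechLattice | sqNorm (x : GolayPt → ℤ) = 48}.ncard = 16773120 := by
  rw [← card_shells.2.1, ← Set.ncard_coe_finset]
  refine Set.ncard_congr (fun x _ => (x : GolayPt → ℤ)) ?_ (fun a b _ _ e => Subtype.ext e) ?_
  · intro x hx
    exact mem_coe.2 (mem_shellFinset.2 ⟨mem_leechLattice.1 x.2, by exact_mod_cast hx⟩)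
  · intro y hy
    obtain ⟨h1, h2⟩ := mem_shellFinset.1 (mem_coe.1 hy)
    exact ⟨⟨y, mem_leechLattice.2 h1⟩, by exact_mod_cast h2, rfl⟩

theorem card_stab_baseU : Nat.card (stabilizer Co0 baseU) = 495766656000 := by
  have horb : orbit Co0 baseU = {x : leechLattice | sqNorm (x : GolayPt → ℤ) = 48} := by
    ext x
    constructor
    · rintro ⟨g, rfl⟩
      exact (co0_norm g baseU).trans baseU_norm
    · intro hx
      exact mem_orbit_iff.2 (co0_transitive baseU x 48 (Or.inr (Or.inl rfl)) baseU_norm hx)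
  have h := Subgroup.index_mul_card (stabilizer Co0 baseU)
  rw [index_stabilizer, horb, ncard_shell48, card_co0] at h
  omega

theorem card_mclGrp : Nat.card mclGrp = 898128000 := by
  have horb : orbit (stabilizer Co0 baseU) baseV = decompSet baseU := by
    ext x
    constructor
    · rintro ⟨⟨g, hg⟩, rfl⟩
      have := (decompSet_smul (g := g)).2 baseV_mem
      rwa [mem_stabilizer_iff.1 hg] at this
    · intro hx
      obtain ⟨g, g1, g2⟩ := decomp_base x hx
      exact ⟨⟨g, mem_stabilizer_iff.2 g1⟩, g2⟩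
  have h := Subgroup.index_mul_card (stabilizer (stabilizer Co0 baseU) baseV)
  rw [index_stabilizer, horb, ncard_decompSet baseU_norm, card_stab_baseU] at h
  have e : Nat.card (stabilizer (stabilizer Co0 baseU) baseV) = Nat.card mclGrp :=
    Nat.card_congr
      { toFun := fun g => ⟨(g.1 : Co0), g.1.2, g.2⟩
        invFun := fun g => ⟨⟨(g : Co0), g.2.1⟩, g.2.2⟩
        left_inv := fun _ => rfl
        right_inv := fun _ => rfl }
  omega

/-! ### The monomial subgroup and faithfulness -/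

/-- `M22` in the group. -/
def mclHom : Spor.M22 →* mclGrp where
  toFun σ := ⟨(m22Elt σ : Co0), (m22Elt σ).2.1,
    mem_stabilizer_iff.2 (congrArg Subtype.val (m22Elt_fix σ))⟩
  map_one' := Subtype.ext (map_one permHom)
  map_mul' σ τ := Subtype.ext (map_mul permHom
    (⟨σ.1, (Mathieu.mem_M22_iff.1 σ.2).1⟩ : M24) ⟨τ.1, (Mathieu.mem_M22_iff.1 τ.2).1⟩)

theorem mclHom_val (σ : Spor.M22) :
    (mclHom σ : Co0) = permHom ⟨σ.1, (Mathieu.mem_M22_iff.1 σ.2).1⟩ := rfl

theorem mclHom_injective : Function.Injective mclHom := fun σ τ h => by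
  have h' := congrArg (fun z : mclGrp => (z : Co0)) h
  exact Subtype.ext (congrArg (fun z : M24 => (z : Equiv.Perm GolayPt)) (permHom_injective h'))

theorem mem_range_mclHom {g : mclGrp} (h8 : (g : Co0) • eight none = eight none) :
    g ∈ mclHom.range := by
  have hU := mem_stabilizer_iff.1 g.2.1
  have hV := mem_stabilizer_iff.1 g.2.2
  have hUv : (g : Co0) • leechU = leechU := by simpa [baseV, co0_neg] using hV
  have hU' : (g : Co0) • leechU' = leechU' := by
    have e : leechU' = eight none - leechU := by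
      refine Subtype.ext ?_
      rw [AddSubgroup.coe_sub, eight_val]
      decide +kernel
    rw [e, sub_eq_add_neg, co0_add, co0_neg, h8, hUv]
  have hW : (g : Co0) • baseW = baseW := by
    rw [baseW, baseY, sub_eq_add_neg, co0_add, co0_neg, co0_neg, hU, hU']
  obtain ⟨σ, hσ⟩ := hs_stab_mono hU hW hV
  exact ⟨σ, Subtype.ext hσ.symm⟩

theorem pairVal_facts : ∀ k : GolayPt, k ≠ none → k ≠ some 0 →
    (Pi.single none (-4) + Pi.single k (-4) : GolayPt → ℤ) = -(Pi.single none 4 + Pi.single k 4) ∧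
      sqNorm (Pi.single none (-4) + Pi.single k (-4) : GolayPt → ℤ) = 32 ∧
      dotInt (baseU : GolayPt → ℤ) (Pi.single none (-4) + Pi.single k (-4)) = 24 ∧
      dotInt (baseV : GolayPt → ℤ) (Pi.single none (-4) + Pi.single k (-4)) = 16 := by
  decide +kernel

theorem pairVal_mem (k : GolayPt) (h1 : k ≠ none) (h2 : k ≠ some 0) :
    ∃ y : MclPoint, ((y : leechLattice) : GolayPt → ℤ) = Pi.single none (-4) + Pi.single k (-4) := by
  obtain ⟨e, hn, d1, d2⟩ := pairVal_facts k h1 h2
  have hL : InL (Pi.single none (-4) + Pi.single k (-4)) := by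
    rw [e]; exact inL_neg (inL_pair (Ne.symm h1) (Or.inl rfl)).1
  exact ⟨⟨⟨_, mem_leechLattice.2 hL⟩, ⟨hn, d1⟩, d2⟩, rfl⟩

theorem eight_combination :
    (-9 : ℤ) • (Pi.single none 8 : GolayPt → ℤ) =
      (∑ k ∈ (univ.erase none).erase (some 0), (Pi.single none (-4) + Pi.single k (-4) : GolayPt → ℤ)) +
        ((-4 : ℤ) • (baseU : GolayPt → ℤ) + (baseV : GolayPt → ℤ)) := by
  decide +kernel

instance mcl_faithful : FaithfulSMul mclGrp MclPoint := by
  refine ⟨fun {g h} e => ?_⟩
  have e' : ∀ y : MclPoint, (h⁻¹ * g) • y = y := fun y => by rw [mul_smul, e y, inv_smul_smul]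
  suffices hk : h⁻¹ * g = 1 from (inv_mul_eq_one.1 hk).symm
  generalize h⁻¹ * g = a at e' ⊢
  have hU := mem_stabilizer_iff.1 a.2.1
  have hV := mem_stabilizer_iff.1 a.2.2
  have h8 : (a : Co0) • eight none = eight none := by
    classical
    have hy : ∀ k : ((univ.erase none).erase (some 0) : Finset GolayPt), ∃ y : MclPoint,
        ((y : leechLattice) : GolayPt → ℤ) = Pi.single none (-4) + Pi.single (k : GolayPt) (-4) := fun k =>
      pairVal_mem k (ne_of_mem_erase (mem_of_mem_erase k.2)) (ne_of_mem_erase k.2)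
    choose y hy using hy
    have hsum : (-9 : ℤ) • eight none =
        (∑ k, (y k : leechLattice)) + ((-4 : ℤ) • baseU + baseV) := by
      refine Subtype.ext ?_
      rw [AddSubgroupClass.coe_zsmul, eight_val, eight_combination, AddSubgroup.coe_add,
        AddSubgroup.coe_add, AddSubgroupClass.coe_zsmul, AddSubgroup.val_finsetSum,
        ← Finset.sum_coe_sort ((univ.erase none).erase (some 0))]
      simp only [hy]
    have h9 : (-9 : ℤ) • ((a : Co0) • eight none) = (-9 : ℤ) • eight none := by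
      rw [← co0_zsmul, hsum, co0_add, co0_add, co0_zsmul, hU, hV]
      congr 1
      show actHom (a : Co0) (∑ k, (y k : leechLattice)) = _
      rw [map_sum]
      exact sum_congr rfl fun k _ => congrArg Subtype.val (e' (y k))
    refine Subtype.ext (funext fun i => ?_)
    have h := congrArg (fun w : leechLattice => (w : GolayPt → ℤ) i) h9
    simp only [AddSubgroupClass.coe_zsmul, Pi.smul_apply, smul_eq_mul] at h
    omega
  obtain ⟨σ, rfl⟩ := mem_range_mclHom h8
  obtain ⟨-, h1, h2⟩ := Mathieu.mem_M22_iff.1 σ.2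
  have hσ : σ = 1 := by
    refine Subtype.ext (Equiv.ext fun p => ?_)
    by_cases c : p = none
    · rw [c, h1]; rfl
    by_cases b : p = some 0
    · rw [b, h2]; rfl
    obtain ⟨y, hy⟩ := pairVal_mem p c b
    have h := congrArg (fun w : MclPoint => ((w : leechLattice) : GolayPt → ℤ) ((σ : Equiv.Perm GolayPt) p))
      (e' y)
    simp only [mcl_smul_val, mclHom_val, permHom_val, Equiv.symm_apply_apply, hy] at h
    show (σ : Equiv.Perm GolayPt) p = p
    by_contra hne
    have hnone : (σ : Equiv.Perm GolayPt) p ≠ none := fun z => c (σ.1.injective (z.trans h1.symm))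
    simp only [Pi.add_apply, Pi.single_eq_of_ne c, Pi.single_eq_same, zero_add,
      Pi.single_eq_of_ne hnone, Pi.single_eq_of_ne hne] at h
    norm_num at h
  rw [hσ, map_one]

/-! ### A monomial two point stabiliser -/

/-- A vector of norm 48 symmetric in the three points `∞, 0, 1`. -/
def triU : GolayPt → ℤ := fun p => if p = none ∨ p = some 0 ∨ p = some 1 then -3 else 1
/-- Its three decompositions. -/
def triV (i : GolayPt) : GolayPt → ℤ := fun p => if p = i then -3 else 1

theorem triU_inL : InL triU :=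
  ⟨by decide +kernel, by rw [show hb triU = 0 by decide +kernel]; exact zero_mem _, by decide +kernel⟩

theorem triV_inL : ∀ i, InL (triV i) := by
  have h : ∀ i, hb (triV i) = 0 ∧ (∀ j, triV i j % 2 = triV i none % 2) ∧
      (∑ j, triV i j) % 8 = 4 * triV i none % 8 := by decide +kernel
  intro i
  exact ⟨(h i).2.1, by rw [(h i).1]; exact zero_mem _, (h i).2.2⟩

/-- The vector of norm 48. -/
def triUL : leechLattice := ⟨triU, mem_leechLattice.2 triU_inL⟩
/-- The decompositions. -/
def triVL (i : GolayPt) : leechLattice := ⟨triV i, mem_leechLattice.2 (triV_inL i)⟩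

theorem tri_facts : sqNorm triU = 48 ∧ sqNorm (triV none) = 32 ∧ dotInt triU (triV none) = 24 ∧
    sqNorm (triV (some 0)) = 32 ∧ dotInt triU (triV (some 0)) = 24 ∧
    dotInt (triV none) (triV (some 0)) = 16 ∧
    sqNorm (triV (some 1)) = 32 ∧ dotInt triU (triV (some 1)) = 24 ∧
    dotInt (triV none) (triV (some 1)) = 16 ∧ dotInt (triV (some 0)) (triV (some 1)) = 16 := by
  decide +kernel

theorem tri_fixed (σ : ↥(Spor.M22 ⊓ stabilizer (Equiv.Perm GolayPt) (some 1 : GolayPt))) :
    permHom ⟨σ.1, Mathieu.M22_le_M24 σ.2.1⟩ • triUL = triUL ∧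
      ∀ i, i = none ∨ i = some 0 ∨ i = some 1 →
        permHom ⟨σ.1, Mathieu.M22_le_M24 σ.2.1⟩ • triVL i = triVL i := by
  obtain ⟨-, h1, h2⟩ := Mathieu.mem_M22_iff.1 σ.2.1
  have h3 : σ.1 (some 1) = some 1 := σ.2.2
  have hfix : ∀ q, (q = none ∨ q = some 0 ∨ q = some 1) → σ.1.symm q = q := by
    rintro q (rfl | rfl | rfl) <;> rw [Equiv.symm_apply_eq] <;> simp [h1, h2, h3]
  have hout : ∀ q, (σ.1.symm q = none ∨ σ.1.symm q = some 0 ∨ σ.1.symm q = some 1) →
      q = none ∨ q = some 0 ∨ q = some 1 := by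
    intro q h
    rcases h with h | h | h <;> rw [Equiv.symm_apply_eq] at h <;> simp [h, h1, h2, h3]
  refine ⟨Subtype.ext (funext fun q => ?_), fun i hi => Subtype.ext (funext fun q => ?_)⟩
  · show triU (σ.1.symm q) = triU q
    simp only [triU]
    by_cases hq : q = none ∨ q = some 0 ∨ q = some 1
    · rw [hfix q hq]
    · rw [if_neg hq, if_neg fun h => hq (hout q h)]
  · show triV i (σ.1.symm q) = triV i q
    simp only [triV]
    by_cases hq : q = i
    · rw [hq, hfix i hi]
    · rw [if_neg hq, if_neg]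
      intro h
      exact hq (σ.1.symm.injective (h.trans (hfix i hi).symm))

theorem m21_simple :
    IsSimpleGroup ↥(Spor.M22 ⊓ stabilizer (Equiv.Perm GolayPt) (some 1 : GolayPt)) := by
  obtain ⟨e⟩ := Mathieu.PlaneStab.psl_equiv_stab (F := Agent.SylL34.F4)
    (by decide +kernel)
  have : IsSimpleGroup (Matrix.ProjectiveSpecialLinearGroup (Fin 3) Agent.SylL34.F4) :=
    GL.PSL_isSimpleGroup_of_three_le (by simp)
  exact e.symm.isSimpleGroup

/-- A far point with monomial stabiliser. -/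
theorem exists_far_point : ∃ y₁ : MclPoint, dotInt (baseX : GolayPt → ℤ) ((y₁ : leechLattice) : GolayPt → ℤ) = 16 ∧
    y₁ ≠ ptX ∧ IsSimpleGroup ↥(stabilizer mclGrp ptX ⊓ stabilizer mclGrp y₁) ∧
    Nat.card ↥(stabilizer mclGrp ptX ⊓ stabilizer mclGrp y₁) = 20160 := by
  classical
  obtain ⟨t1, t2, t3, t4, t5, t6, t7, t8, t9, t10⟩ := tri_facts
  have hU : sqNorm (triUL : GolayPt → ℤ) = 48 := t1
  have hV : triVL none ∈ decompSet triUL := ⟨t2, t3⟩
  have hX : triVL (some 0) ∈ decompAt triUL (triVL none) 16 := ⟨⟨t4, t5⟩, t6⟩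
  have hY : triVL (some 1) ∈ decompAt triUL (triVL none) 16 := ⟨⟨t7, t8⟩, t9⟩
  obtain ⟨a, a1, a2, a3⟩ := mcl_normal hU hV hX
  let y₁ : MclPoint := ⟨a • triVL (some 1), by rw [← a1, ← a2]; exact decompAt_smul.2 hY⟩
  have hne : y₁ ≠ ptX := fun e => by
    have h := congrArg Subtype.val e
    have h' : a • triVL (some 1) = a • triVL (some 0) := h.trans a3.symm
    exact absurd (congrArg (fun w : leechLattice => (w : GolayPt → ℤ) (some 0)) (MulAction.injective a h'))
      (by decide +kernel : ¬ triV (some 1) (some 0) = triV (some 0) (some 0))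
  have hd : dotInt (baseX : GolayPt → ℤ) ((y₁ : leechLattice) : GolayPt → ℤ) = 16 := by
    show dotInt _ ((a • triVL (some 1) : leechLattice) : GolayPt → ℤ) = 16
    rw [← a3, co0_dot]
    exact t10
  let f : ↥(Spor.M22 ⊓ stabilizer (Equiv.Perm GolayPt) (some 1 : GolayPt)) →*
      ↥(stabilizer mclGrp ptX ⊓ stabilizer mclGrp y₁) :=
    { toFun := fun σ =>
        ⟨⟨a * permHom ⟨σ.1, Mathieu.M22_le_M24 σ.2.1⟩ * a⁻¹, by
          obtain ⟨f1, f2⟩ := tri_fixed σ
          refine ⟨mem_stabilizer_iff.2 ?_, mem_stabilizer_iff.2 ?_⟩ <;> rw [mul_smul, mul_smul]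
          · rw [inv_smul_eq_iff.2 a1.symm, f1, a1]
          · rw [inv_smul_eq_iff.2 a2.symm, f2 _ (Or.inl rfl), a2]⟩, by
          obtain ⟨f1, f2⟩ := tri_fixed σ
          refine ⟨mem_stabilizer_iff.2 (Subtype.ext ?_), mem_stabilizer_iff.2 (Subtype.ext ?_)⟩ <;>
            rw [mcl_smul_val]
          · show (a * permHom _ * a⁻¹) • baseX = baseX
            rw [mul_smul, mul_smul, inv_smul_eq_iff.2 a3.symm, f2 _ (Or.inr (Or.inl rfl)), a3]
          · show (a * permHom _ * a⁻¹) • (a • triVL (some 1)) = a • triVL (some 1)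
            rw [mul_smul, mul_smul, inv_smul_smul, f2 _ (Or.inr (Or.inr rfl))]⟩
      map_one' := Subtype.ext (Subtype.ext (by
        show a * permHom (1 : M24) * a⁻¹ = 1
        rw [map_one]; group))
      map_mul' := fun σ τ => Subtype.ext (Subtype.ext (by
        show a * permHom (⟨σ.1, Mathieu.M22_le_M24 σ.2.1⟩ * ⟨τ.1, Mathieu.M22_le_M24 τ.2.1⟩ : M24) * a⁻¹ =
          a * permHom _ * a⁻¹ * (a * permHom _ * a⁻¹)
        rw [map_mul]; group)) }
  have hinj : Function.Injective f := fun σ τ h => by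
    have h' := congrArg (fun z : ↥(stabilizer mclGrp ptX ⊓ stabilizer mclGrp y₁) => ((z : mclGrp) : Co0)) h
    have h'' : permHom ⟨σ.1, Mathieu.M22_le_M24 σ.2.1⟩ = permHom ⟨τ.1, Mathieu.M22_le_M24 τ.2.1⟩ :=
      mul_left_cancel (mul_right_cancel h')
    exact Subtype.ext (congrArg (fun z : M24 => (z : Equiv.Perm GolayPt)) (permHom_injective h''))
  have hcard : Nat.card ↥(stabilizer mclGrp ptX ⊓ stabilizer mclGrp y₁) = 20160 := by
    have horbX : orbit mclGrp ptX = Set.univ :=
      Set.eq_univ_of_forall fun y => mem_orbit_iff.2 (mcl_exists_smul y)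
    have h1 := Subgroup.index_mul_card (stabilizer mclGrp ptX)
    rw [index_stabilizer, horbX, Set.ncard_univ, card_MclPoint, card_mclGrp] at h1
    obtain ⟨-, c2, -, c4⟩ := mcl_suborbits_base
    have horb : orbit (stabilizer mclGrp ptX) y₁ =
        {y : MclPoint | (y : leechLattice) ∈ mclFarSet baseU baseV baseX} := by
      ext y
      constructor
      · rintro ⟨⟨g, hg⟩, rfl⟩
        have hg' : (g : Co0) • baseX = baseX := congrArg Subtype.val (mem_stabilizer_iff.1 hg)
        refine ⟨mcl_mem_smul g y₁, fun e => hne (Subtype.ext ?_), ?_⟩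
        · exact MulAction.injective (g : Co0) (e.trans hg'.symm)
        · show dotInt _ (((g : Co0) • (y₁ : leechLattice) : leechLattice) : GolayPt → ℤ) = 16
          rw [← hg', co0_dot]; exact hd
      · rintro ⟨hy1, hy2, hy3⟩
        obtain ⟨g, g1, g2, g3, g4⟩ := c4 y₁ y y₁.2 hy1 (fun e => hne (Subtype.ext e)) hy2
          (hd.trans hy3.symm)
        exact ⟨⟨⟨g, mem_stabilizer_iff.2 g1, mem_stabilizer_iff.2 g2⟩,
          mem_stabilizer_iff.2 (Subtype.ext g3)⟩, Subtype.ext g4⟩
    have himage : {y : MclPoint | (y : leechLattice) ∈ mclFarSet baseU baseV baseX}.ncard = 162 := by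
      rw [← c2]
      exact Set.ncard_congr (fun y _ => (y : leechLattice)) (fun y hy => hy)
        (fun a b _ _ e => Subtype.ext e) fun y hy => ⟨⟨y, hy.1⟩, hy, rfl⟩
    have h2 := Subgroup.index_mul_card (stabilizer (stabilizer mclGrp ptX) y₁)
    rw [index_stabilizer, horb, himage] at h2
    have e : Nat.card (stabilizer (stabilizer mclGrp ptX) y₁) =
        Nat.card ↥(stabilizer mclGrp ptX ⊓ stabilizer mclGrp y₁) :=
      Nat.card_congr
        { toFun := fun g => ⟨(g.1 : mclGrp), g.1.2, g.2⟩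
          invFun := fun g => ⟨⟨(g : mclGrp), g.2.1⟩, g.2.2⟩
          left_inv := fun _ => rfl
          right_inv := fun _ => rfl }
    omega
  refine ⟨y₁, hd, hne, ?_, hcard⟩
  have : IsSimpleGroup ↥(Spor.M22 ⊓ stabilizer (Equiv.Perm GolayPt) (some 1 : GolayPt)) := m21_simple
  have hb : Function.Bijective f := (Nat.bijective_iff_injective_and_card f).2
    ⟨hinj, by rw [hcard, Mathieu.PlaneStab.card_stab_three]⟩
  exact (MulEquiv.ofBijective f hb).symm.isSimpleGroup

/-! ### Simplicity -/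

theorem mclM21F : Orb.mclM21F.take 3 = Orb.mclNearF ∧ Orb.mclM21F.length = 4 ∧
    dec (Orb.mclM21F.getD 3 0) = (leechU' : GolayPt → ℤ) := by decide +kernel

set_option maxHeartbeats 1600000 in
theorem mclGrp_simple : IsSimpleGroup mclGrp := by
  classical
  have : IsSimpleGroup Spor.M22 := Mathieu.isSimple_M22
  have : IsPretransitive mclGrp MclPoint := ⟨fun y z => by
    obtain ⟨g, rfl⟩ := mcl_exists_smul y
    obtain ⟨h, rfl⟩ := mcl_exists_smul z
    exact ⟨h * g⁻¹, by rw [mul_smul, inv_smul_smul]⟩⟩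
  have : Nontrivial mclGrp := by
    refine Finite.one_lt_card_iff_nontrivial.1 ?_
    rw [card_mclGrp]; norm_num
  obtain ⟨c1, c2, c3, c4⟩ := mcl_suborbits_base
  obtain ⟨y₁, hy₁, hy₁ne, hsimple, hcard₁⟩ := exists_far_point
  refine ⟨fun N hN => or_iff_not_imp_left.2 fun hne => ?_⟩
  -- the orbit of the standard point under `N`
  obtain ⟨n₀, hn₀, hn₀x⟩ : ∃ n ∈ N, n • ptX ≠ ptX := by
    by_contra h
    push Not at h
    refine hne ((Subgroup.eq_bot_iff_forall _).2 fun n hn => eq_of_smul_eq_smul fun y : MclPoint => ?_)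
    obtain ⟨g, rfl⟩ := mcl_exists_smul y
    have := h _ (hN.conj_mem n hn g⁻¹)
    rw [inv_inv, mul_smul, mul_smul, inv_smul_eq_iff] at this
    rw [this, one_smul]
  have himage : ∀ P : Set leechLattice, P ⊆ decompAt baseU baseV 16 →
      {y : MclPoint | (y : leechLattice) ∈ P}.ncard = P.ncard := fun P hP =>
    Set.ncard_congr (fun y _ => (y : leechLattice)) (fun y hy => hy)
      (fun a b _ _ e => Subtype.ext e) fun y hy => ⟨⟨y, hP hy⟩, hy, rfl⟩
  set A : Set MclPoint := {y | (y : leechLattice) ∈ mclNearSet baseU baseV baseX} with hA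
  set B : Set MclPoint := {y | (y : leechLattice) ∈ mclFarSet baseU baseV baseX} with hB
  have hAc : A.ncard = 112 := (himage _ fun _ h => h.1).trans c1
  have hBc : B.ncard = 162 := (himage _ fun _ h => h.1).trans c2
  have hxA : ptX ∉ A := fun h => by
    have h8 : dotInt (baseX : GolayPt → ℤ) (baseX : GolayPt → ℤ) = 8 := h.2
    rw [dot_self, baseX_mem.1.1] at h8
    norm_num at h8
  have hcov : ∀ y : MclPoint, y = ptX ∨ y ∈ A ∨ y ∈ B := fun y => by
    by_cases e : (y : leechLattice) = baseX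
    · exact Or.inl (Subtype.ext e)
    · exact Or.inr (c3 y y.2 e)
  have horbit : ∀ (y z : MclPoint), y ≠ ptX → z ≠ ptX →
      dotInt (baseX : GolayPt → ℤ) ((y : leechLattice) : GolayPt → ℤ) =
        dotInt (baseX : GolayPt → ℤ) ((z : leechLattice) : GolayPt → ℤ) →
      ∃ h ∈ stabilizer mclGrp ptX, h • y = z := by
    intro y z hy hz hd
    obtain ⟨g, g1, g2, g3, g4⟩ := c4 y z y.2 z.2 (fun e => hy (Subtype.ext e))
      (fun e => hz (Subtype.ext e)) hd
    exact ⟨⟨g, mem_stabilizer_iff.2 g1, mem_stabilizer_iff.2 g2⟩,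
      mem_stabilizer_iff.2 (Subtype.ext g3), Subtype.ext g4⟩
  have hstab : ∀ h ∈ stabilizer mclGrp ptX, ∀ y ∈ orbit N ptX, h • y ∈ orbit N ptX := by
    rintro h hh _ ⟨⟨n, hn⟩, rfl⟩
    refine ⟨⟨h * n * h⁻¹, hN.conj_mem n hn h⟩, ?_⟩
    show (h * n * h⁻¹) • ptX = h • n • ptX
    rw [mul_smul, mul_smul, inv_smul_eq_iff.2 (mem_stabilizer_iff.1 hh).symm]
  -- `N` is transitive
  have huniv : orbit N ptX = Set.univ := by
    have hblk : IsBlock mclGrp (orbit N ptX) := IsBlock.orbit_of_normal ptX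
    have hdvd := hblk.ncard_dvd_card ⟨ptX, mem_orbit_self _⟩
    rw [card_MclPoint] at hdvd
    have hle : (orbit N ptX).ncard ≤ 275 := by
      rw [← card_MclPoint, ← Set.ncard_univ]; exact Set.ncard_le_ncard (Set.subset_univ _)
    have hbig : 113 ≤ (orbit N ptX).ncard := by
      have hy : n₀ • ptX ∈ orbit N ptX := ⟨⟨n₀, hn₀⟩, rfl⟩
      have hfill : ∀ C : Set MclPoint, ptX ∉ C → 112 ≤ C.ncard →
          (∀ y ∈ C, ∀ z ∈ C, ∃ h ∈ stabilizer mclGrp ptX, h • y = z) →
          n₀ • ptX ∈ C → 113 ≤ (orbit N ptX).ncard := by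
        intro C hxC hC hCo hyC
        have hsub : insert ptX C ⊆ orbit N ptX := Set.insert_subset (mem_orbit_self _) fun z hz => by
          obtain ⟨h, hh, rfl⟩ := hCo _ hyC z hz
          exact hstab h hh _ hy
        have := Set.ncard_le_ncard hsub
        rw [Set.ncard_insert_of_notMem hxC] at this
        omega
      rcases hcov (n₀ • ptX) with e | e | e
      · exact absurd e hn₀x
      · exact hfill A hxA hAc.ge
          (fun y hy z hz => horbit y z (fun e => hxA (e ▸ hy)) (fun e => hxA (e ▸ hz)) (hy.2.trans hz.2.symm)) e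
      · exact hfill B (fun h => h.2.1 rfl) (by omega)
          (fun y hy z hz => horbit y z (fun e => hy.2.1 (congrArg Subtype.val e))
            (fun e => hz.2.1 (congrArg Subtype.val e)) (hy.2.2.trans hz.2.2.symm)) e
    refine Set.eq_of_subset_of_ncard_le (Set.subset_univ _) ?_ (Set.toFinite _)
    rw [Set.ncard_univ, card_MclPoint]
    rcases (Nat.mem_divisors.2 ⟨hdvd, by norm_num⟩ : (orbit N ptX).ncard ∈ Nat.divisors 275) with h
    rw [show Nat.divisors 275 = ({1, 5, 11, 25, 55, 275} : Finset ℕ) by decide +kernel] at h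
    simp only [mem_insert, mem_singleton] at h
    omega
  have hN275 : Nat.card N = 275 * Nat.card (stabilizer N ptX) := by
    have h := Subgroup.index_mul_card (stabilizer N ptX)
    rw [index_stabilizer, huniv, Set.ncard_univ, card_MclPoint] at h
    exact h.symm
  -- the monomial subgroup lies in `N`
  have hM : mclHom.range ≤ N := by
    rcases (IsSimpleGroup.eq_bot_or_eq_top_of_normal (N.comap mclHom) inferInstance) with hb | ht
    · exfalso
      have hinj : Function.Injective ((QuotientGroup.mk' N).comp mclHom) := by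
        rw [← MonoidHom.ker_eq_bot_iff, ← MonoidHom.comap_ker, QuotientGroup.ker_mk']
        exact hb
      have hdvd := Subgroup.card_dvd_of_injective _ hinj
      have hidx := Subgroup.index_mul_card N
      rw [← Subgroup.index_eq_card, Mathieu.card_M22] at hdvd
      obtain ⟨k, hk⟩ := hdvd
      rw [card_mclGrp, hN275, hk] at hidx
      have h121 : 121968000 ∣ 898128000 :=
        ⟨k * Nat.card (stabilizer N ptX), by rw [← hidx]; ring⟩
      norm_num at h121
    · rintro _ ⟨σ, rfl⟩
      have : σ ∈ N.comap mclHom := by rw [ht]; trivial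
      exact this
  -- the stabiliser in `N` is transitive on the far points
  have hLinv : ∀ h ∈ stabilizer mclGrp ptX, ∀ k : mclGrp, k ∈ N ⊓ stabilizer mclGrp ptX →
      h * k * h⁻¹ ∈ N ⊓ stabilizer mclGrp ptX := fun h hh k hk =>
    ⟨hN.conj_mem k hk.1 h, (stabilizer mclGrp ptX).mul_mem
      ((stabilizer mclGrp ptX).mul_mem hh hk.2) ((stabilizer mclGrp ptX).inv_mem hh)⟩
  set O : MclPoint → Set MclPoint := fun y => {z | ∃ k ∈ N ⊓ stabilizer mclGrp ptX, k • y = z} with hO
  have hs : InL (dec Orb.mclM21Seed) := inL_dec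
    ((List.range 24).foldr (fun i m => if dig Orb.mclM21Seed i / 2 % 2 = 1 then 2 ^ i + m else m) 0)
    (by decide +kernel) (by decide +kernel) (by decide +kernel) (by decide +kernel)
  let s₀ : MclPoint := ⟨⟨_, mem_leechLattice.2 hs⟩,
    ⟨(by decide +kernel : sqNorm (dec Orb.mclM21Seed) = 32),
      (by decide +kernel : dotInt (baseU : GolayPt → ℤ) (dec Orb.mclM21Seed) = 24)⟩,
    (by decide +kernel : dotInt (baseV : GolayPt → ℤ) (dec Orb.mclM21Seed) = 16)⟩
  have hs₀B : s₀ ∈ B := ⟨s₀.2,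
    fun e => absurd (congrArg (fun w : leechLattice => (w : GolayPt → ℤ)) e)
      (by decide +kernel : ¬ dec Orb.mclM21Seed = (baseX : GolayPt → ℤ)),
    (by decide +kernel : dotInt (baseX : GolayPt → ℤ) (dec Orb.mclM21Seed) = 16)⟩
  have hOB : O s₀ ⊆ B := by
    rintro z ⟨k, hk, rfl⟩
    have hkX : (k : Co0) • baseX = baseX := congrArg Subtype.val (mem_stabilizer_iff.1 hk.2)
    refine ⟨mcl_mem_smul k s₀, fun e => hs₀B.2.1 (MulAction.injective (k : Co0) (e.trans hkX.symm)), ?_⟩
    show dotInt _ (((k : Co0) • (s₀ : leechLattice) : leechLattice) : GolayPt → ℤ) = 16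
    rw [← hkX, co0_dot]
    exact hs₀B.2.2
  have hO120 : 120 ≤ (O s₀).ncard := by
    obtain ⟨S, hS, hSg⟩ := orbit_cert Orb.mclM21_ok (s₀ : leechLattice) rfl
    have hsub : (S : Set leechLattice) ⊆ (fun y : MclPoint => (y : leechLattice)) '' O s₀ := by
      intro z hz
      obtain ⟨g, hg, rfl⟩ := hSg z hz
      obtain ⟨ht, hl, hd⟩ := mclM21F
      obtain ⟨g1, g2, g3⟩ := fix_mclNear (g := g) fun Z hZ =>
        hg Z (List.mem_of_mem_take (i := 3) (ht ▸ hZ))
      have g4 : g • leechU' = leechU' := hg _ (by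
        rw [List.getD_eq_getElem _ _ (show 3 < _ by omega)]; exact List.getElem_mem _) _ hd.symm
      let k : mclGrp := ⟨g, mem_stabilizer_iff.2 g1, mem_stabilizer_iff.2 g2⟩
      refine ⟨k • s₀, ⟨k, ⟨hM (mem_range_mclHom ?_), mem_stabilizer_iff.2 (Subtype.ext g3)⟩, rfl⟩, rfl⟩
      have e : eight none = leechU + leechU' := by
        refine Subtype.ext ?_
        rw [eight_val, AddSubgroup.coe_add]
        decide +kernel
      have g2' : g • leechU = leechU := by simpa [baseV, co0_neg] using g2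
      show g • eight none = eight none
      rw [e, co0_add, g2', g4]
    have := Set.ncard_le_ncard hsub (Set.toFinite _)
    rw [Set.ncard_coe_finset, hS, Set.ncard_image_of_injective _ Subtype.val_injective] at this
    exact this
  have hOtop : O s₀ = B := by
    refine Set.Subset.antisymm hOB fun z hz => ?_
    by_contra hzO
    obtain ⟨h, hh, rfl⟩ := horbit s₀ z (fun e => hs₀B.2.1 (congrArg Subtype.val e))
      (fun e => hz.2.1 (congrArg Subtype.val e)) (hs₀B.2.2.trans hz.2.2.symm)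
    have hdisj : Disjoint (O s₀) ((fun y => h • y) '' O s₀) := by
      refine Set.disjoint_left.2 ?_
      rintro y ⟨k, hk, rfl⟩ ⟨_, ⟨k', hk', rfl⟩, e⟩
      refine hzO ⟨(h * k' * h⁻¹)⁻¹ * k, mul_mem (inv_mem (hLinv h hh k' hk')) hk, ?_⟩
      rw [mul_smul, inv_smul_eq_iff, ← mul_smul, inv_mul_cancel_right, mul_smul]
      exact e.symm
    have hsub : O s₀ ∪ (fun y => h • y) '' O s₀ ⊆ B := by
      refine Set.union_subset hOB ?_
      rintro _ ⟨y, hy, rfl⟩
      have hy' := hOB hy
      have hhX : (h : Co0) • baseX = baseX := congrArg Subtype.val (mem_stabilizer_iff.1 hh)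
      refine ⟨mcl_mem_smul h y, fun e => hy'.2.1 (MulAction.injective (h : Co0) (e.trans hhX.symm)), ?_⟩
      show dotInt _ (((h : Co0) • (y : leechLattice) : leechLattice) : GolayPt → ℤ) = 16
      rw [← hhX, co0_dot]
      exact hy'.2.2
    have := Set.ncard_le_ncard hsub (Set.toFinite _)
    rw [Set.ncard_union_eq hdisj (Set.toFinite _) (Set.toFinite _),
      Set.ncard_image_of_injective _ (MulAction.injective h)] at this
    omega
  have hy₁B : y₁ ∈ B := ⟨y₁.2, fun e => hy₁ne (Subtype.ext e), hy₁⟩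
  obtain ⟨k₁, hk₁, hk₁e⟩ : y₁ ∈ O s₀ := hOtop ▸ hy₁B
  -- the two point stabiliser
  set K := stabilizer mclGrp ptX ⊓ stabilizer mclGrp y₁ with hK
  have hKN : K ≤ N := by
    rcases hsimple.eq_bot_or_eq_top_of_normal (N.subgroupOf K) inferInstance with hb | ht
    · exfalso
      -- the stabiliser in `N` would be regular on the far points, yet it contains `M21`
      let j : ↥(Spor.M22 ⊓ stabilizer (Equiv.Perm GolayPt) (some 1 : GolayPt)) → B := fun σ =>
        ⟨mclHom ⟨σ.1, σ.2.1⟩ • y₁, by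
          have hk : mclHom ⟨σ.1, σ.2.1⟩ • ptX = ptX := by
            obtain ⟨-, h1, h2⟩ := Mathieu.mem_M22_iff.1 σ.2.1
            refine Subtype.ext (Subtype.ext (funext fun q => ?_))
            show (baseX : GolayPt → ℤ) (σ.1.symm q) = (baseX : GolayPt → ℤ) q
            have h3 : σ.1 (some 1) = some 1 := σ.2.2
            have hbx : ∀ q : GolayPt, (baseX : GolayPt → ℤ) q =
                if q = none ∨ q = some 1 then -4 else 0 := by decide +kernel
            simp only [hbx, Equiv.symm_apply_eq, h1, h3]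
          refine ⟨mcl_mem_smul _ y₁, fun e => hy₁ne (MulAction.injective (mclHom ⟨σ.1, σ.2.1⟩)
            ((Subtype.ext e : mclHom ⟨σ.1, σ.2.1⟩ • y₁ = ptX).trans hk.symm)), ?_⟩
          have hk' : (mclHom ⟨σ.1, σ.2.1⟩ : Co0) • baseX = baseX := congrArg Subtype.val hk
          show dotInt _ (((mclHom ⟨σ.1, σ.2.1⟩ : Co0) • (y₁ : leechLattice) : leechLattice) : GolayPt → ℤ) = 16
          rw [← hk', co0_dot]
          exact hy₁⟩
      have hj : Function.Injective j := by
        intro σ τ e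
        have e' : mclHom ⟨σ.1, σ.2.1⟩ • y₁ = mclHom ⟨τ.1, τ.2.1⟩ • y₁ := congrArg Subtype.val e
        set k := (mclHom ⟨τ.1, τ.2.1⟩)⁻¹ * mclHom ⟨σ.1, σ.2.1⟩ with hk
        have hfixX : ∀ π : ↥(Spor.M22 ⊓ stabilizer (Equiv.Perm GolayPt) (some 1 : GolayPt)),
            mclHom ⟨π.1, π.2.1⟩ ∈ stabilizer mclGrp ptX := by
          intro π
          obtain ⟨-, h1, h2⟩ := Mathieu.mem_M22_iff.1 π.2.1
          refine mem_stabilizer_iff.2 (Subtype.ext (Subtype.ext (funext fun q => ?_)))
          show (baseX : GolayPt → ℤ) (π.1.symm q) = (baseX : GolayPt → ℤ) q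
          have h3 : π.1 (some 1) = some 1 := π.2.2
          have hbx : ∀ q : GolayPt, (baseX : GolayPt → ℤ) q =
              if q = none ∨ q = some 1 then -4 else 0 := by decide +kernel
          simp only [hbx, Equiv.symm_apply_eq, h1, h3]
        have hkK : k ∈ K := ⟨(stabilizer mclGrp ptX).mul_mem
            ((stabilizer mclGrp ptX).inv_mem (hfixX τ)) (hfixX σ),
          mem_stabilizer_iff.2 (by rw [hk, mul_smul, e', inv_smul_smul])⟩
        have hkN : (⟨k, hkK⟩ : K) ∈ N.subgroupOf K :=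
          mul_mem (inv_mem (hM ⟨_, rfl⟩)) (hM ⟨_, rfl⟩)
        rw [hb, Subgroup.mem_bot] at hkN
        have hk1 : k = 1 := congrArg Subtype.val hkN
        rw [hk, inv_mul_eq_one] at hk1
        exact Subtype.ext (congrArg (fun z : Spor.M22 => (z : Equiv.Perm GolayPt)) (mclHom_injective hk1).symm)
      have hle := Nat.card_le_card_of_injective j hj
      rw [Mathieu.PlaneStab.card_stab_three, Nat.card_coe_set_eq, hBc] at hle
      norm_num at hle
    · intro k hk
      have : (⟨k, hk⟩ : K) ∈ N.subgroupOf K := by rw [ht]; trivial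
      exact this
  rw [eq_top_iff]
  intro g _
  have hg : g • ptX ∈ orbit N ptX := by rw [huniv]; trivial
  obtain ⟨⟨n, hn⟩, e⟩ := hg
  have e' : n • ptX = g • ptX := e
  obtain ⟨h, hdef⟩ : ∃ h, h = n⁻¹ * g := ⟨_, rfl⟩
  have hh : h ∈ stabilizer mclGrp ptX := by
    rw [hdef, mem_stabilizer_iff, mul_smul, ← e', inv_smul_smul]
  obtain ⟨k, hk, hke⟩ : h • y₁ ∈ O s₀ := by
    rw [hOtop]
    have hhX : (h : Co0) • baseX = baseX := congrArg Subtype.val (mem_stabilizer_iff.1 hh)
    refine ⟨mcl_mem_smul h y₁, fun e => hy₁ne (Subtype.ext (MulAction.injective (h : Co0) (e.trans hhX.symm))), ?_⟩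
    show dotInt _ (((h : Co0) • (y₁ : leechLattice) : leechLattice) : GolayPt → ℤ) = 16
    rw [← hhX, co0_dot]
    exact hy₁
  have hc : (k * k₁⁻¹)⁻¹ * h ∈ K := by
    refine ⟨(stabilizer mclGrp ptX).mul_mem ((stabilizer mclGrp ptX).inv_mem
      ((stabilizer mclGrp ptX).mul_mem hk.2 ((stabilizer mclGrp ptX).inv_mem hk₁.2))) hh,
      mem_stabilizer_iff.2 ?_⟩
    rw [mul_smul, inv_smul_eq_iff, mul_smul, ← hke, inv_smul_eq_iff.2 hk₁e.symm]
  have hh' : h ∈ N := by
    have : h = (k * k₁⁻¹) * ((k * k₁⁻¹)⁻¹ * h) := by group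
    rw [this]
    exact N.mul_mem (N.mul_mem hk.1 (N.inv_mem hk₁.1)) (hKN hc)
  have : g = n * h := by rw [hdef]; group
  rw [this]
  exact N.mul_mem hn hh'

theorem mclGrp_isMcL : IsMcL mclGrp := ⟨mclGrp_simple, card_mclGrp⟩

theorem isMcL_stabilizer {v w : leechLattice} (hv : sqNorm (v : GolayPt → ℤ) = 32)
    (hw : sqNorm (w : GolayPt → ℤ) = 32) (hvw : dotInt (v : GolayPt → ℤ) (w : GolayPt → ℤ) = -8) :
    IsMcL ↥(stabilizer Co0 v ⊓ stabilizer Co0 w) := by
  have hu : sqNorm ((v + w : leechLattice) : GolayPt → ℤ) = 48 := by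
    rw [AddSubgroup.coe_add, sqNorm_add, hv, hw, hvw]; norm_num
  have hvu : v ∈ decompSet (v + w) := ⟨hv, by
    rw [AddSubgroup.coe_add, dot_symm, dot_add, dot_self, hv, hvw]; norm_num⟩
  obtain ⟨a, a1, a2⟩ := decomp_normal hu hvu
  have e0 : stabilizer Co0 v ⊓ stabilizer Co0 w = stabilizer Co0 (v + w) ⊓ stabilizer Co0 v := by
    ext g
    simp only [Subgroup.mem_inf, mem_stabilizer_iff]
    refine ⟨fun ⟨x, y⟩ => ⟨by rw [co0_add, x, y], x⟩, fun ⟨x, y⟩ => ⟨y, ?_⟩⟩
    rw [co0_add, y] at x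
    exact add_left_cancel x
  let e := (MulEquiv.subgroupCongr e0).trans (stabPairEquiv a a1 a2)
  have : IsSimpleGroup mclGrp := mclGrp_simple
  exact ⟨e.isSimpleGroup, (Nat.card_congr e.toEquiv).trans card_mclGrp⟩

end Cfsg.Agent.Leech
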