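/-
The stabiliser of a vector of norm 48 on its 552 decompositions: simplicity.

A point stabiliser is the simple group on 275 points, with orbits of lengths 1, 1, 275, 275.
A normal subgroup meeting it trivially is semiregular, and its elements of order 3 or 23 would
fill an orbit of odd length; one containing it has an orbit which is no block unless it is everything.
-/
import Cfsg.Agent.Lib.Leech.McLGroup

set_option autoImplicit false

namespace Cfsg.Agent.Leech

open Cfsg Finset Cfsg.Spor MulAction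

/-- The stabiliser of the standard vector of norm 48. -/
abbrev co3Grp : Subgroup Co0 := stabilizer Co0 baseU

/-- The 552 decompositions. -/
abbrev Co3Point : Type := ↥(decompSet baseU)

theorem co3_mem_smul (g : co3Grp) (x : Co3Point) :
    (g : Co0) • (x : leechLattice) ∈ decompSet baseU := by
  have h := (decompSet_smul (g := (g : Co0))).2 x.2
  rwa [mem_stabilizer_iff.1 g.2] at h

instance co3Action : MulAction co3Grp Co3Point where
  smul g x := ⟨(g : Co0) • (x : leechLattice), co3_mem_smul g x⟩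
  one_smul x := Subtype.ext (one_smul Co0 (x : leechLattice))
  mul_smul g h x := Subtype.ext (mul_smul (g : Co0) (h : Co0) (x : leechLattice))

theorem co3_smul_val (g : co3Grp) (x : Co3Point) :
    ((g • x : Co3Point) : leechLattice) = (g : Co0) • (x : leechLattice) := rfl

theorem card_Co3Point : Nat.card Co3Point = 552 := by
  rw [Nat.card_coe_set_eq, ncard_decompSet baseU_norm]

instance finite_Co3Point : Finite Co3Point :=
  Nat.finite_of_card_ne_zero (by rw [card_Co3Point]; norm_num)

/-- The standard point. -/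
def co3Pt : Co3Point := ⟨baseV, baseV_mem⟩

/-- The other summand of a decomposition. -/
def co3Opp (y : Co3Point) : Co3Point := ⟨baseU - y, sub_mem_decompSet baseU_norm y.2⟩

theorem co3Opp_val (y : Co3Point) : (co3Opp y : leechLattice) = baseU - y := rfl

theorem co3Opp_opp (y : Co3Point) : co3Opp (co3Opp y) = y := Subtype.ext (sub_sub_cancel baseU (y : leechLattice))

theorem smul_co3Opp (g : co3Grp) (y : Co3Point) : g • co3Opp y = co3Opp (g • y) := by
  refine Subtype.ext ?_
  simp only [co3_smul_val, co3Opp_val, sub_eq_add_neg, co0_add, co0_neg,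
    mem_stabilizer_iff.1 g.2]

/-- Dot product with another point. -/
def co3Dot (x y : Co3Point) : ℤ :=
  dotInt ((x : leechLattice) : GolayPt → ℤ) ((y : leechLattice) : GolayPt → ℤ)

theorem co3Dot_smul (g : co3Grp) (x y : Co3Point) : co3Dot (g • x) (g • y) = co3Dot x y :=
  co0_dot (g : Co0) x y

theorem co3Dot_opp (x y : Co3Point) : co3Dot x (co3Opp y) = 24 - co3Dot x y := by
  unfold co3Dot
  rw [co3Opp_val, AddSubgroup.coe_sub, dot_sub, dot_symm _ (baseU : GolayPt → ℤ), x.2.2]

theorem co3Dot_self (x : Co3Point) : co3Dot x x = 32 := by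
  unfold co3Dot; rw [dot_self]; exact x.2.1

theorem co3Dot_values (x y : Co3Point) :
    y = x ∨ y = co3Opp x ∨ co3Dot x y = 16 ∨ co3Dot x y = 8 := by
  have hm := min_dot_values (mem_leechLattice.1 x.1.2) (mem_leechLattice.1 y.1.2) x.2.1 y.2.1
  have hm' := min_dot_values (mem_leechLattice.1 x.1.2) (mem_leechLattice.1 (co3Opp y).1.2) x.2.1
    (co3Opp y).2.1
  have e := co3Dot_opp x y
  simp only [mem_insert, mem_singleton] at hm hm'
  have heq : ∀ z : Co3Point, co3Dot x z = 32 → z = x := fun z hz =>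
    (Subtype.ext (Subtype.ext (eq_of_dot_self (mem_leechLattice.1 x.1.2) (mem_leechLattice.1 z.1.2)
      (by unfold co3Dot at hz; rw [x.2.1, z.2.1, hz]; norm_num)))).symm
  by_cases h1 : co3Dot x y = 32
  · exact Or.inl (heq y h1)
  by_cases h2 : co3Dot x y = -8
  · refine Or.inr (Or.inl ?_)
    have := heq (co3Opp y) (by omega)
    rw [← this, co3Opp_opp]
  unfold co3Dot at *
  omega

/-! ### The point stabiliser -/

/-- The point stabiliser is the group on 275 points. -/
def co3StabEquiv : stabilizer co3Grp co3Pt ≃* mclGrp where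
  toFun g := ⟨((g : co3Grp) : Co0), (g : co3Grp).2,
    mem_stabilizer_iff.2 (congrArg Subtype.val (mem_stabilizer_iff.1 g.2))⟩
  invFun g := ⟨⟨(g : Co0), g.2.1⟩, mem_stabilizer_iff.2 (Subtype.ext (mem_stabilizer_iff.1 g.2.2))⟩
  left_inv _ := rfl
  right_inv _ := rfl
  map_mul' _ _ := rfl

theorem co3Stab_simple : IsSimpleGroup (stabilizer co3Grp co3Pt) := by
  have : IsSimpleGroup mclGrp := mclGrp_simple
  exact co3StabEquiv.isSimpleGroup

theorem co3_exists_smul (y : Co3Point) : ∃ g : co3Grp, g • co3Pt = y := by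
  obtain ⟨g, g1, g2⟩ := decomp_base y.1 y.2
  exact ⟨⟨g, mem_stabilizer_iff.2 g1⟩, Subtype.ext g2⟩

theorem co3_trans16 {y z : Co3Point} (hy : co3Dot co3Pt y = 16) (hz : co3Dot co3Pt z = 16) :
    ∃ s ∈ stabilizer co3Grp co3Pt, s • y = z := by
  obtain ⟨g, g1, g2, g3⟩ := mcl_transitive baseU_norm baseV_mem
    (x := y.1) (x' := z.1) ⟨y.2, hy⟩ ⟨z.2, hz⟩
  exact ⟨⟨g, mem_stabilizer_iff.2 g1⟩, mem_stabilizer_iff.2 (Subtype.ext g2), Subtype.ext g3⟩

theorem co3_trans8 {y z : Co3Point} (hy : co3Dot co3Pt y = 8) (hz : co3Dot co3Pt z = 8) :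
    ∃ s ∈ stabilizer co3Grp co3Pt, s • y = z := by
  obtain ⟨s, hs, h⟩ := co3_trans16 (y := co3Opp y) (z := co3Opp z)
    (by rw [co3Dot_opp, hy]; norm_num) (by rw [co3Dot_opp, hz]; norm_num)
  refine ⟨s, hs, ?_⟩
  have := congrArg co3Opp h
  rwa [← smul_co3Opp, co3Opp_opp, co3Opp_opp] at this

theorem co3_ncard16 : {y : Co3Point | co3Dot co3Pt y = 16}.ncard = 275 := by
  rw [← ncard_mcl baseU_norm baseV_mem]
  exact Set.ncard_congr (fun y _ => (y : leechLattice)) (fun y hy => ⟨y.2, hy⟩)
    (fun a b _ _ e => Subtype.ext e) fun y hy => ⟨⟨y, hy.1⟩, hy.2, rfl⟩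

theorem co3_ncard8 : {y : Co3Point | co3Dot co3Pt y = 8}.ncard = 275 := by
  rw [← co3_ncard16]
  refine Set.ncard_congr (fun y _ => co3Opp y) (fun y (hy : co3Dot co3Pt y = 8) => ?_)
    (fun a b _ _ e => by simpa only [co3Opp_opp] using congrArg co3Opp e)
    fun y (hy : co3Dot co3Pt y = 16) => ⟨co3Opp y, ?_, co3Opp_opp y⟩
  · show co3Dot co3Pt (co3Opp y) = 16
    rw [co3Dot_opp, hy]; norm_num
  · show co3Dot co3Pt (co3Opp y) = 8
    rw [co3Dot_opp, hy]; norm_num

theorem co3_stab_fix_opp {s : co3Grp} (hs : s ∈ stabilizer co3Grp co3Pt) :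
    s • co3Opp co3Pt = co3Opp co3Pt := by
  rw [smul_co3Opp, mem_stabilizer_iff.1 hs]

instance co3_faithful : FaithfulSMul co3Grp Co3Point := by
  refine ⟨fun {g h} e => ?_⟩
  have e' : ∀ y : Co3Point, (h⁻¹ * g) • y = y := fun y => by rw [mul_smul, e y, inv_smul_smul]
  suffices hk : h⁻¹ * g = 1 from (inv_mul_eq_one.1 hk).symm
  generalize h⁻¹ * g = a at e' ⊢
  have h1 : co3StabEquiv ⟨a, mem_stabilizer_iff.2 (e' co3Pt)⟩ = 1 :=
    eq_of_smul_eq_smul fun x : MclPoint => by
      rw [one_smul]
      refine Subtype.ext ?_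
      show (a : Co0) • (x : leechLattice) = x
      exact congrArg Subtype.val (e' ⟨x.1, x.2.1⟩)
  rw [← co3StabEquiv.map_one] at h1
  exact congrArg Subtype.val (co3StabEquiv.injective h1)

/-- No element exchanges the summands of every decomposition. -/
theorem co3_no_flip (n : co3Grp) : ¬ ∀ y : Co3Point, n • y = co3Opp y := by
  classical
  intro h
  have hy : ∀ k : ((univ.erase none).erase (some 0) : Finset GolayPt), ∃ y : MclPoint,
      ((y : leechLattice) : GolayPt → ℤ) = Pi.single none (-4) + Pi.single (k : GolayPt) (-4) := fun k =>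
    pairVal_mem k (ne_of_mem_erase (mem_of_mem_erase k.2)) (ne_of_mem_erase k.2)
  choose y hy using hy
  have hn : ∀ k, (n : Co0) • (y k : leechLattice) = baseU - y k := fun k =>
    congrArg Subtype.val (h ⟨(y k).1, (y k).2.1⟩)
  have hV : (n : Co0) • baseV = baseU - baseV := congrArg Subtype.val (h co3Pt)
  have hU : (n : Co0) • baseU = baseU := mem_stabilizer_iff.1 n.2
  have hsum : (-9 : ℤ) • eight none =
      (∑ k, (y k : leechLattice)) + ((-4 : ℤ) • baseU + baseV) := by
    refine Subtype.ext ?_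
    rw [AddSubgroupClass.coe_zsmul, eight_val, eight_combination, AddSubgroup.coe_add,
      AddSubgroup.coe_add, AddSubgroupClass.coe_zsmul, AddSubgroup.val_finsetSum,
      ← Finset.sum_coe_sort ((univ.erase none).erase (some 0))]
    simp only [hy]
  have hcard : Fintype.card ↥((univ.erase none).erase (some 0) : Finset GolayPt) = 22 := by
    rw [Fintype.card_coe]; decide +kernel
  have h9 : (-9 : ℤ) • ((n : Co0) • eight none + eight none) = (15 : ℤ) • baseU := by
    rw [zsmul_add, ← co0_zsmul, hsum, co0_add, co0_add, co0_zsmul, hU, hV]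
    have hs : (n : Co0) • (∑ k, (y k : leechLattice)) = (22 : ℤ) • baseU - ∑ k, (y k : leechLattice) := by
      show actHom (n : Co0) (∑ k, (y k : leechLattice)) = _
      rw [map_sum]
      have : ∀ k, actHom (n : Co0) (y k : leechLattice) = baseU - y k := hn
      simp only [this, Finset.sum_sub_distrib, Finset.sum_const, Finset.card_univ, hcard,
        ← natCast_zsmul, Nat.cast_ofNat]
    rw [hs]
    abel
  have hc := congrArg (fun w : leechLattice => (w : GolayPt → ℤ) (some 2)) h9
  simp only [AddSubgroupClass.coe_zsmul, Pi.smul_apply, smul_eq_mul] at hc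
  have h2 : (baseU : GolayPt → ℤ) (some 2) = 1 ∨ (baseU : GolayPt → ℤ) (some 2) = -1 := by
    decide +kernel
  omega

/-! ### Simplicity -/

theorem exists_near_far :
    ∃ x y z : Co3Point, co3Dot co3Pt x = 16 ∧ co3Dot co3Pt y = 16 ∧ co3Dot co3Pt z = 16 ∧
      co3Dot x y = 8 ∧ co3Dot x z = 16 := by
  obtain ⟨c1, c2, -, -⟩ := mcl_suborbits_base
  obtain ⟨y, hy⟩ := Set.nonempty_of_ncard_ne_zero (s := mclNearSet baseU baseV baseX) (by omega)
  obtain ⟨z, hz⟩ := Set.nonempty_of_ncard_ne_zero (s := mclFarSet baseU baseV baseX) (by omega)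
  exact ⟨⟨baseX, baseX_mem.1⟩, ⟨y, hy.1.1⟩, ⟨z, hz.1.1⟩, baseX_mem.2, hy.1.2, hz.1.2, hy.2, hz.2.2⟩

theorem co3Grp_simple : IsSimpleGroup co3Grp := by
  classical
  have : IsPretransitive co3Grp Co3Point := ⟨fun y z => by
    obtain ⟨g, rfl⟩ := co3_exists_smul y
    obtain ⟨h, rfl⟩ := co3_exists_smul z
    exact ⟨h * g⁻¹, by rw [mul_smul, inv_smul_smul]⟩⟩
  have : Nontrivial co3Grp := by
    refine Finite.one_lt_card_iff_nontrivial.1 ?_
    rw [card_stab_baseU]; norm_num
  obtain ⟨x₀, y₀, z₀, hx₀, hy₀, hz₀, hxy, hxz⟩ := exists_near_far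
  refine ⟨fun N hN => or_iff_not_imp_left.2 fun hne => ?_⟩
  set O : Set Co3Point := orbit N co3Pt with hO
  have hmove : ∀ n ∈ N, n • co3Pt ∈ O := fun n hn => ⟨⟨n, hn⟩, rfl⟩
  have hback : ∀ z ∈ O, ∃ n ∈ N, n • co3Pt = z := by
    rintro _ ⟨⟨n, hn⟩, rfl⟩; exact ⟨n, hn, rfl⟩
  have hsO : ∀ s ∈ stabilizer co3Grp co3Pt, ∀ z ∈ O, s • z ∈ O := by
    intro s hs z hz
    obtain ⟨n, hn, rfl⟩ := hback z hz
    have e : s • n • co3Pt = (s * n * s⁻¹) • co3Pt := by
      rw [mul_smul, mul_smul, inv_smul_eq_iff.2 (mem_stabilizer_iff.1 hs).symm]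
    rw [e]
    exact hmove _ (hN.conj_mem n hn s)
  -- the orbit is neither a point nor too small
  obtain ⟨n₀, hn₀, hn₀v⟩ : ∃ n ∈ N, n • co3Pt ≠ co3Pt := by
    by_contra h
    push Not at h
    refine hne ((Subgroup.eq_bot_iff_forall _).2 fun n hn => eq_of_smul_eq_smul fun y : Co3Point => ?_)
    obtain ⟨g, rfl⟩ := co3_exists_smul y
    have := h _ (hN.conj_mem n hn g⁻¹)
    rw [inv_inv, mul_smul, mul_smul, inv_smul_eq_iff] at this
    rw [this, one_smul]
  have hblk : IsBlock co3Grp O := IsBlock.orbit_of_normal co3Pt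
  have hdvd := hblk.ncard_dvd_card ⟨co3Pt, mem_orbit_self _⟩
  rw [card_Co3Point] at hdvd
  have h16 : ∀ z ∈ O, co3Dot co3Pt z = 16 → ∀ w, co3Dot co3Pt w = 16 → w ∈ O := fun z hz hd w hw => by
    obtain ⟨s, hs, rfl⟩ := co3_trans16 hd hw
    exact hsO s hs z hz
  have h8 : ∀ z ∈ O, co3Dot co3Pt z = 8 → ∀ w, co3Dot co3Pt w = 8 → w ∈ O := fun z hz hd w hw => by
    obtain ⟨s, hs, rfl⟩ := co3_trans8 hd hw
    exact hsO s hs z hz
  have hsimple := co3Stab_simple
  rcases hsimple.eq_bot_or_eq_top_of_normal (N.subgroupOf (stabilizer co3Grp co3Pt)) inferInstance with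
    hb | ht
  · exfalso
    -- semiregular
    have hfree : ∀ n ∈ N, ∀ m ∈ N, n • co3Pt = m • co3Pt → n = m := by
      intro n hn m hm e
      have hk : m⁻¹ * n ∈ stabilizer co3Grp co3Pt := by
        rw [mem_stabilizer_iff, mul_smul, e, inv_smul_smul]
      have hk' : (⟨m⁻¹ * n, hk⟩ : stabilizer co3Grp co3Pt) ∈ N.subgroupOf (stabilizer co3Grp co3Pt) :=
        N.mul_mem (N.inv_mem hm) hn
      rw [hb, Subgroup.mem_bot] at hk'
      exact (inv_mul_eq_one.1 (congrArg Subtype.val hk')).symm
    have hcardN : Nat.card N = O.ncard := by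
      rw [← Nat.card_coe_set_eq]
      refine Nat.card_eq_of_bijective (fun n : N => ⟨(n : co3Grp) • co3Pt, hmove n n.2⟩) ⟨?_, ?_⟩
      · intro a b e
        exact Subtype.ext (hfree a a.2 b b.2 (congrArg Subtype.val e))
      · rintro ⟨z, hz⟩
        obtain ⟨n, hn, e⟩ := hback z hz
        exact ⟨⟨n, hn⟩, Subtype.ext e⟩
    by_cases hsmall : ∀ z ∈ O, z = co3Pt ∨ z = co3Opp co3Pt
    · -- a flip
      refine co3_no_flip n₀ fun y => ?_
      obtain ⟨g, rfl⟩ := co3_exists_smul y
      have hv : n₀ • co3Pt = co3Opp co3Pt := (hsmall _ (hmove n₀ hn₀)).resolve_left hn₀v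
      have hm : g⁻¹ * n₀ * g ∈ N := by simpa using hN.conj_mem n₀ hn₀ g⁻¹
      rcases hsmall _ (hmove _ hm) with e | e
      · have h1 := hfree _ hm 1 N.one_mem (by rw [e, one_smul])
        have h0 : n₀ = 1 := by
          calc n₀ = g * (g⁻¹ * n₀ * g) * g⁻¹ := by group
            _ = 1 := by rw [h1]; group
        exact absurd (by rw [h0, one_smul]) hn₀v
      · rw [mul_smul, mul_smul, inv_smul_eq_iff, smul_co3Opp] at e
        exact e
    · push Not at hsmall
      obtain ⟨z, hz, hzV, hzV'⟩ := hsmall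
      have hbig : 276 ≤ O.ncard := by
        have hins : ∀ C : Set Co3Point, co3Pt ∉ C → C.ncard = 275 → C ⊆ O → 276 ≤ O.ncard := by
          intro C hvC hC hCO
          have := Set.ncard_le_ncard (Set.insert_subset (mem_orbit_self (M := N) co3Pt) hCO)
          rw [Set.ncard_insert_of_notMem hvC, hC] at this
          exact this
        rcases co3Dot_values co3Pt z with e | e | e | e
        · exact absurd e hzV
        · exact absurd e hzV'
        · exact hins _ (fun h => by simp [co3Dot_self] at h) co3_ncard16 (h16 z hz e)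
        · exact hins _ (fun h => by simp [co3Dot_self] at h) co3_ncard8 (h8 z hz e)
      have hd : O.ncard = 276 ∨ O.ncard = 552 := by
        have hle : O.ncard ≤ 552 := Nat.le_of_dvd (by norm_num) hdvd
        obtain ⟨c, hc⟩ := hdvd
        have : c ≤ 2 := by
          by_contra h
          have : 276 * 3 ≤ O.ncard * c := Nat.mul_le_mul hbig (by omega)
          omega
        interval_cases c <;> omega
      -- the elements of a prime order
      let T : ℕ → Set Co3Point := fun p => {y | ∃ n ∈ N, orderOf n = p ∧ n • co3Pt = y}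
      have hT : ∀ p : ℕ, 3 ≤ p → (T p).Nonempty → ∀ y ∈ T p,
          co3Dot co3Pt y = 16 ∨ co3Dot co3Pt y = 8 := by
        rintro p hp - y ⟨n, hn, ho, rfl⟩
        rcases co3Dot_values co3Pt (n • co3Pt) with e | e | e | e
        · have h1 := hfree n hn 1 N.one_mem (by rw [e, one_smul])
          rw [h1, orderOf_one] at ho
          omega
        · exfalso
          have hfix : ∀ s ∈ stabilizer co3Grp co3Pt, s • (n * n) • co3Pt = (n * n) • co3Pt := by
            intro s hs
            have hsv : s⁻¹ • co3Pt = co3Pt := inv_smul_eq_iff.2 (mem_stabilizer_iff.1 hs).symm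
            have hc : s * n * s⁻¹ = n := hfree _ (hN.conj_mem n hn s) n hn (by
              rw [mul_smul, mul_smul, hsv, e, co3_stab_fix_opp hs])
            calc s • (n * n) • co3Pt = ((s * n * s⁻¹) * (s * n * s⁻¹)) • (s • co3Pt) := by
                  simp only [smul_smul]; congr 1; group
              _ = (n * n) • co3Pt := by rw [hc, mem_stabilizer_iff.1 hs]
          have hnn : ∀ w : Co3Point, co3Dot co3Pt w = 16 ∨ co3Dot co3Pt w = 8 →
              (n * n) • co3Pt ≠ w := by
            intro w hw e'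
            rw [e'] at hfix
            rcases hw with hw | hw
            · have hsub : {u : Co3Point | co3Dot co3Pt u = 16} ⊆ {w} := fun u hu => by
                obtain ⟨s, hs, e''⟩ := co3_trans16 hw hu
                exact e''.symm.trans (hfix s hs)
              have := Set.ncard_le_ncard hsub
              rw [co3_ncard16, Set.ncard_singleton] at this
              omega
            · have hsub : {u : Co3Point | co3Dot co3Pt u = 8} ⊆ {w} := fun u hu => by
                obtain ⟨s, hs, e''⟩ := co3_trans8 hw hu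
                exact e''.symm.trans (hfix s hs)
              have := Set.ncard_le_ncard hsub
              rw [co3_ncard8, Set.ncard_singleton] at this
              omega
          rcases co3Dot_values co3Pt ((n * n) • co3Pt) with e' | e' | e' | e'
          · have h1 := hfree _ (N.mul_mem hn hn) 1 N.one_mem (by rw [e', one_smul])
            have := orderOf_le_of_pow_eq_one (x := n) (n := 2) (by norm_num) (by rw [pow_two, h1])
            omega
          · have h1 := hfree _ (N.mul_mem hn hn) n hn (e'.trans e.symm)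
            rw [mul_eq_left] at h1
            rw [h1, orderOf_one] at ho
            omega
          · exact hnn _ (Or.inl e') rfl
          · exact hnn _ (Or.inr e') rfl
        · exact Or.inl e
        · exact Or.inr e
      have hTS : ∀ p, ∀ s ∈ stabilizer co3Grp co3Pt, ∀ y ∈ T p, s • y ∈ T p := by
        rintro p s hs _ ⟨n, hn, ho, rfl⟩
        refine ⟨MulAut.conj s n, hN.conj_mem n hn s, ?_, ?_⟩
        · rw [← ho]; exact orderOf_injective (MulAut.conj s).toMonoidHom (MulAut.conj s).injective n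
        · show (s * n * s⁻¹) • co3Pt = s • n • co3Pt
          rw [mul_smul, mul_smul, inv_smul_eq_iff.2 (mem_stabilizer_iff.1 hs).symm]
      have hTne : ∀ p, p.Prime → p ∣ 276 → (T p).Nonempty := by
        intro p hp hdiv
        have : Fact p.Prime := ⟨hp⟩
        have hdN : p ∣ Nat.card N := by
          rw [hcardN]
          rcases hd with e | e <;> rw [e]
          · exact hdiv
          · exact hdiv.trans ⟨2, rfl⟩
        obtain ⟨n, hn⟩ := exists_prime_orderOf_dvd_card' p hdN
        exact ⟨(n : co3Grp) • co3Pt, n, n.2, by rw [Subgroup.orderOf_coe, hn], rfl⟩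
      have hdisj : ∀ p q, p ≠ q → ∀ y, y ∈ T p → y ∉ T q := by
        rintro p q hpq y ⟨n, hn, ho, rfl⟩ ⟨m, hm, ho', e⟩
        rw [hfree m hm n hn e] at ho'
        exact hpq (ho.symm.trans ho')
      -- both classes are full
      have hfull16 : ∀ p, ∀ y ∈ T p, co3Dot co3Pt y = 16 → ∀ w, co3Dot co3Pt w = 16 → w ∈ T p :=
        fun p y hy hd' w hw => by
          obtain ⟨s, hs, rfl⟩ := co3_trans16 hd' hw
          exact hTS p s hs y hy
      have hfull8 : ∀ p, ∀ y ∈ T p, co3Dot co3Pt y = 8 → ∀ w, co3Dot co3Pt w = 8 → w ∈ T p :=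
        fun p y hy hd' w hw => by
          obtain ⟨s, hs, rfl⟩ := co3_trans8 hd' hw
          exact hTS p s hs y hy
      obtain ⟨y3, hy3⟩ := hTne 3 (by norm_num) (by norm_num)
      obtain ⟨y23, hy23⟩ := hTne 23 (by norm_num) (by norm_num)
      have h275 : (T 3).ncard = 275 := by
        rcases hT 3 le_rfl ⟨y3, hy3⟩ y3 hy3 with a | a <;>
          rcases hT 23 (by norm_num) ⟨y23, hy23⟩ y23 hy23 with b | b
        · exact absurd hy23 (hdisj 3 23 (by norm_num) _ (hfull16 3 y3 hy3 a y23 b))
        · rw [← co3_ncard16]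
          congr 1
          ext w
          refine ⟨fun hw => ?_, fun hw => hfull16 3 y3 hy3 a w hw⟩
          rcases hT 3 le_rfl ⟨y3, hy3⟩ w hw with c | c
          · exact c
          · exact absurd (hfull8 23 y23 hy23 b w c) (hdisj 3 23 (by norm_num) _ hw)
        · rw [← co3_ncard8]
          congr 1
          ext w
          refine ⟨fun hw => ?_, fun hw => hfull8 3 y3 hy3 a w hw⟩
          rcases hT 3 le_rfl ⟨y3, hy3⟩ w hw with c | c
          · exact absurd (hfull16 23 y23 hy23 b w c) (hdisj 3 23 (by norm_num) _ hw)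
          · exact c
        · exact absurd hy23 (hdisj 3 23 (by norm_num) _ (hfull8 3 y3 hy3 a y23 b))
      have hE : (T 3).ncard = ({n : co3Grp | n ∈ N ∧ orderOf n = 3} : Set co3Grp).ncard := by
        symm
        exact Set.ncard_congr (fun n _ => n • co3Pt) (fun n hn => ⟨n, hn.1, hn.2, rfl⟩)
          (fun a b ha hb e => hfree a ha.1 b hb.1 e)
          fun y ⟨n, hn, ho, e⟩ => ⟨n, ⟨hn, ho⟩, e⟩
      rw [h275, Set.ncard_eq_toFinset_card _ (Set.toFinite _)] at hE
      set F := (Set.toFinite {n : co3Grp | n ∈ N ∧ orderOf n = 3}).toFinset with hF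
      have hz : ∑ _n ∈ F, (1 : ZMod 2) = 0 := by
        refine Finset.sum_involution (fun n _ => n⁻¹) (fun _ _ => by decide) ?_ ?_ ?_
        · intro n hn _ e
          have hn' : n ∈ N ∧ orderOf n = 3 := by simpa [hF] using hn
          have := orderOf_le_of_pow_eq_one (x := n) (n := 2) (by norm_num)
            (by rw [pow_two]; nth_rw 1 [← e]; exact inv_mul_cancel n)
          omega
        · intro n hn
          have hn' : n ∈ N ∧ orderOf n = 3 := by simpa [hF] using hn
          simpa [hF] using (⟨N.inv_mem hn'.1, (orderOf_inv n).trans hn'.2⟩ : n⁻¹ ∈ N ∧ orderOf n⁻¹ = 3)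
        · intro n _; exact inv_inv n
      rw [Finset.sum_const, ← hE, nsmul_one, ZMod.natCast_eq_zero_iff_even] at hz
      exact absurd hz (by decide +kernel)
  · -- the point stabiliser lies in `N`
    have hS : ∀ s ∈ stabilizer co3Grp co3Pt, s ∈ N := fun s hs => by
      have : (⟨s, hs⟩ : stabilizer co3Grp co3Pt) ∈ N.subgroupOf (stabilizer co3Grp co3Pt) := by
        rw [ht]; trivial
      exact this
    suffices huniv : ∀ z : Co3Point, z ∈ O by
      rw [eq_top_iff]
      intro g _
      obtain ⟨n, hn, e⟩ := hback _ (huniv (g • co3Pt))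
      have hh : n⁻¹ * g ∈ stabilizer co3Grp co3Pt := by
        rw [mem_stabilizer_iff, mul_smul, ← e, inv_smul_smul]
      have : g = n * (n⁻¹ * g) := by group
      rw [this]
      exact N.mul_mem hn (hS _ hh)
    by_cases a16 : ∃ z ∈ O, co3Dot co3Pt z = 16 <;> by_cases a8 : ∃ z ∈ O, co3Dot co3Pt z = 8
    · -- both
      obtain ⟨z, hz, hzd⟩ := a16
      obtain ⟨z', hz', hzd'⟩ := a8
      have h551 : 551 ≤ O.ncard := by
        have hd : Disjoint {u : Co3Point | co3Dot co3Pt u = 16} {u : Co3Point | co3Dot co3Pt u = 8} := by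
          refine Set.disjoint_left.2 fun u h1 h2 => ?_
          simp only [Set.mem_ofPred_eq] at h1 h2
          omega
        have hsub : insert co3Pt ({u : Co3Point | co3Dot co3Pt u = 16} ∪ {u | co3Dot co3Pt u = 8}) ⊆ O :=
          Set.insert_subset (mem_orbit_self _) (Set.union_subset (h16 z hz hzd) (h8 z' hz' hzd'))
        have := Set.ncard_le_ncard hsub
        rw [Set.ncard_insert_of_notMem (by simp [co3Dot_self]), Set.ncard_union_eq hd, co3_ncard16,
          co3_ncard8] at this
        exact this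
      have hfull : O.ncard = 552 := by
        obtain ⟨c, hc⟩ := hdvd
        have hle : O.ncard ≤ 552 := Nat.le_of_dvd (by norm_num) ⟨c, hc⟩
        rcases (by omega : O.ncard = 551 ∨ O.ncard = 552) with e | e
        · rw [e] at hc; omega
        · exact e
      intro w
      have : O = Set.univ := Set.eq_of_subset_of_ncard_le (Set.subset_univ _)
        (by rw [Set.ncard_univ, card_Co3Point, hfull])
      rw [this]; trivial
    · exfalso
      -- all mutual products in the orbit would be 16
      obtain ⟨z, hz, hzd⟩ := a16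
      obtain ⟨n, hn, e⟩ := hback x₀ (h16 z hz hzd x₀ hx₀)
      obtain ⟨m, hm, e'⟩ := hback y₀ (h16 z hz hzd y₀ hy₀)
      have hmem := hmove _ (N.mul_mem (N.inv_mem hn) hm)
      refine a8 ⟨_, hmem, ?_⟩
      rw [← co3Dot_smul n, e, smul_smul, mul_inv_cancel_left, e', hxy]
    · exfalso
      obtain ⟨z, hz, hzd⟩ := a8
      obtain ⟨n, hn, e⟩ := hback (co3Opp x₀) (h8 z hz hzd _ (by rw [co3Dot_opp, hx₀]; norm_num))
      obtain ⟨m, hm, e'⟩ := hback (co3Opp z₀) (h8 z hz hzd _ (by rw [co3Dot_opp, hz₀]; norm_num))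
      have hmem := hmove _ (N.mul_mem (N.inv_mem hn) hm)
      refine a16 ⟨_, hmem, ?_⟩
      rw [← co3Dot_smul n, e, smul_smul, mul_inv_cancel_left, e']
      have : co3Dot (co3Opp x₀) (co3Opp z₀) = co3Dot x₀ z₀ := by
        rw [co3Dot_opp]
        unfold co3Dot
        rw [dot_symm, co3Opp_val, AddSubgroup.coe_sub, dot_sub, dot_symm _ (baseU : GolayPt → ℤ),
          z₀.2.2, dot_symm]
        omega
      rw [this, hxz]
    · exfalso
      -- pairs
      have hpair : ∀ w ∈ O, w = co3Pt ∨ w = co3Opp co3Pt := fun w hw => by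
        rcases co3Dot_values co3Pt w with e | e | e | e
        · exact Or.inl e
        · exact Or.inr e
        · exact absurd ⟨w, hw, e⟩ a16
        · exact absurd ⟨w, hw, e⟩ a8
      obtain ⟨g, hg⟩ := co3_exists_smul x₀
      obtain ⟨s, hs, hsx⟩ := co3_trans16 hx₀ hy₀
      have hm : g⁻¹ * s * g ∈ N := by simpa using hN.conj_mem s (hS s hs) g⁻¹
      have e : (g⁻¹ * s * g) • co3Pt = g⁻¹ • y₀ := by rw [mul_smul, mul_smul, hg, hsx]
      rcases hpair _ (hmove _ hm) with h | h
      · rw [e, inv_smul_eq_iff, hg] at h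
        have := congrArg (co3Dot x₀) h
        rw [co3Dot_self, hxy] at this
        norm_num at this
      · rw [e, inv_smul_eq_iff, smul_co3Opp, hg] at h
        have := congrArg (co3Dot co3Pt) h
        rw [co3Dot_opp, hy₀, hx₀] at this
        norm_num at this

theorem co3Grp_isCo3 : IsCo3 co3Grp := ⟨co3Grp_simple, card_stab_baseU⟩

theorem isCo3_stabilizer {v : leechLattice} (hv : sqNorm (v : GolayPt → ℤ) = 48) :
    IsCo3 (stabilizer Co0 v) := by
  obtain ⟨g, hg⟩ := co0_transitive v baseU 48 (Or.inr (Or.inl rfl)) hv baseU_norm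
  let e : stabilizer Co0 v ≃* co3Grp := stabilizerEquivStabilizer hg.symm
  have : IsSimpleGroup co3Grp := co3Grp_simple
  exact ⟨e.isSimpleGroup, (Nat.card_congr e.toEquiv).trans card_stab_baseU⟩

end Cfsg.Agent.Leech
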