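/-
The stabiliser of a minimal vector: order and simplicity, by elements of order 23.

Up to conjugation an element of order 23 is the translation of the 23 residues. What commutes
with it is a power of it up to sign and nothing inverts it. So a nontrivial normal subgroup either
contains it, and then the normaliser of its subgroup leaves only an index dividing 11, or is a
2-group of order 2^11, which the sign changes and an element of order 11 rule out.
-/
import Cfsg.Agent.Lib.Leech.Simple
import Cfsg.Agent.Lib.Leech.Census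
import Cfsg.Agent.Lib.Mathieu.Generators
import Cfsg.Agent.Lib.Mathieu.Simple
import Cfsg.Prelude.Def_Spor_Conway

set_option autoImplicit false

namespace Cfsg.Agent.Leech

open Cfsg Finset Cfsg.Spor MulAction
open scoped Pointwise

/-! ### Monomial elements and the translation -/

theorem permHom_apply (σ : M24) (v : leechLattice) (i : GolayPt) :
    ((permHom σ • v : leechLattice) : GolayPt → ℤ) i =
      (v : GolayPt → ℤ) ((σ : Equiv.Perm GolayPt).symm i) :=
  congrFun (permElt_smul σ σ.2 v) i

theorem mono_apply (σ : M24) {c : GolayPt → ZMod 2} (hc : c ∈ golayCode) (v : leechLattice) (i : GolayPt) :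
    (((signElt c hc * permHom σ) • v : leechLattice) : GolayPt → ℤ) i =
      if c i = 1 then -(v : GolayPt → ℤ) ((σ : Equiv.Perm GolayPt).symm i)
      else (v : GolayPt → ℤ) ((σ : Equiv.Perm GolayPt).symm i) := by
  rw [mul_smul, signElt_smul]
  simp only [signFun, mem_supp, permHom_apply]

/-- A monomial element carrying one permutation element to another. -/
theorem mono_intertwine {σ ρ ρ' : M24} {c : GolayPt → ZMod 2} (hc : c ∈ golayCode)
    (h : signElt c hc * permHom σ * permHom ρ = permHom ρ' * (signElt c hc * permHom σ)) (i : GolayPt) :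
    (σ : Equiv.Perm GolayPt).symm ((ρ' : Equiv.Perm GolayPt).symm i) =
        (ρ : Equiv.Perm GolayPt).symm ((σ : Equiv.Perm GolayPt).symm i) ∧
      c ((ρ' : Equiv.Perm GolayPt).symm i) = c i := by
  set k := (ρ : Equiv.Perm GolayPt).symm ((σ : Equiv.Perm GolayPt).symm i) with hk
  have e := congrArg (fun z : Co0 => ((z • eight k : leechLattice) : GolayPt → ℤ) i) h
  simp only [mul_smul _ (permHom ρ), mul_smul (permHom ρ')] at e
  rw [permHom_apply, mono_apply, mono_apply] at e
  simp only [permHom_apply, eight_val, ← hk, Pi.single_eq_same] at e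
  by_cases hki : (σ : Equiv.Perm GolayPt).symm ((ρ' : Equiv.Perm GolayPt).symm i) = k
  · refine ⟨hki, ?_⟩
    rw [hki, Pi.single_eq_same] at e
    rcases zmod2_cases (c i) with a | a <;>
      rcases zmod2_cases (c ((ρ' : Equiv.Perm GolayPt).symm i)) with b | b <;>
      simp [a, b] at e ⊢
  · rw [Pi.single_eq_of_ne hki] at e
    split_ifs at e <;> omega

theorem mem_monGrp_of_cross {g : Co0} (h : ((g • eight none : leechLattice) : GolayPt → ℤ) ∈ stdCross) :
    g ∈ monGrp :=
  mem_monGrp.2 (fixesStd_iff.2 (cls_stdCross h))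

theorem zmod23_one_ne : (1 : ZMod 23) ≠ 0 := by decide

theorem zmod23_roots : ∀ z : ZMod 23, (z ^ 2 = 1 → z = 1 ∨ z = -1) ∧ (z ^ 3 = 1 → z = 1) ∧
    (z ^ 5 = 1 → z = 1) ∧ (z ^ 7 = 1 → z = 1) := by decide +kernel

/-- Translation of the residues. -/
def trElt : M24 := ⟨Equiv.optionCongr (Equiv.addRight (1 : ZMod 23)), Mathieu.translation_mem⟩

/-- The element of order 23. -/
def x23 : Co0 := permHom trElt

theorem trElt_some (i : ZMod 23) : (trElt : Equiv.Perm GolayPt) (some i) = some (i + 1) := rfl
theorem trElt_none : (trElt : Equiv.Perm GolayPt) none = none := rfl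

theorem trElt_pow_apply (j : ℕ) :
    ((trElt ^ j : M24) : Equiv.Perm GolayPt) none = none ∧
      ∀ i : ZMod 23, ((trElt ^ j : M24) : Equiv.Perm GolayPt) (some i) = some (i + j) := by
  induction j with
  | zero => simp
  | succ j ih =>
    rw [pow_succ', Subgroup.coe_mul]
    refine ⟨by rw [Equiv.Perm.mul_apply, ih.1, trElt_none], fun i => ?_⟩
    rw [Equiv.Perm.mul_apply, ih.2, trElt_some, Nat.cast_succ, add_assoc]

theorem trElt_pow23 : trElt ^ 23 = 1 := by
  refine Subtype.ext (Equiv.ext fun p => ?_)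
  obtain ⟨h1, h2⟩ := trElt_pow_apply 23
  cases p with
  | none => exact h1
  | some i => rw [h2, show ((23 : ℕ) : ZMod 23) = 0 from ZMod.natCast_self 23, add_zero]; rfl

theorem trElt_symm_some (i : ZMod 23) :
    (trElt : Equiv.Perm GolayPt).symm (some i) = some (i - 1) := by
  rw [Equiv.symm_apply_eq, trElt_some, sub_add_cancel]

theorem orderOf_x23 : orderOf x23 = 23 := by
  have : Fact (Nat.Prime 23) := ⟨by norm_num⟩
  refine orderOf_eq_prime (by rw [x23, ← map_pow, trElt_pow23, map_one]) fun h => ?_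
  have h' : trElt = 1 := by
    refine Subtype.ext (Equiv.ext fun p => ?_)
    have e := congrArg (fun z : Co0 => ((z • eight p : leechLattice) : GolayPt → ℤ)
      ((trElt : Equiv.Perm GolayPt) p)) h
    simp only [x23, permHom_apply, Equiv.symm_apply_apply, one_smul, eight_val, Pi.single_eq_same] at e
    by_contra hne
    rw [OneMemClass.coe_one, Equiv.Perm.one_apply] at hne
    rw [Pi.single_eq_of_ne hne] at e
    norm_num at e
  have h0 : (trElt : Equiv.Perm GolayPt) (some 0) = some 0 :=
    congrArg (fun s : M24 => (s : Equiv.Perm GolayPt) (some 0)) h'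
  rw [trElt_some, zero_add, Option.some_inj] at h0
  exact zmod23_one_ne h0

theorem x23_eight : x23 • eight none = eight none := by
  refine Subtype.ext (funext fun i => ?_)
  rw [x23, permHom_apply, eight_val]
  cases i with
  | none => rw [(Equiv.symm_apply_eq _).2 trElt_none.symm]
  | some i => rw [trElt_symm_some, Pi.single_eq_of_ne (by simp), Pi.single_eq_of_ne (by simp)]

theorem cross_of_x23_fixed {z : leechLattice} (hn : sqNorm (z : GolayPt → ℤ) = 64)
    (hz : x23 • z = z) : (z : GolayPt → ℤ) ∈ stdCross := by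
  have hstep : ∀ i : ZMod 23, (z : GolayPt → ℤ) (some (i - 1)) = (z : GolayPt → ℤ) (some i) := fun i => by
    have := congrArg (fun w : leechLattice => (w : GolayPt → ℤ) (some i)) hz
    simpa [x23, permHom_apply, trElt_symm_some] using this
  have hconst : ∀ n : ℕ, (z : GolayPt → ℤ) (some (n : ZMod 23)) = (z : GolayPt → ℤ) (some 0) := by
    intro n
    induction n with
    | zero => simp
    | succ n ih =>
      rw [← ih, ← hstep ((n + 1 : ℕ) : ZMod 23)]
      simp
  set b := (z : GolayPt → ℤ) (some 0)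
  set a := (z : GolayPt → ℤ) none
  have hall : ∀ i : ZMod 23, (z : GolayPt → ℤ) (some i) = b := fun i => by
    rw [← hconst i.val, ZMod.natCast_zmod_val]
  have hsum : a ^ 2 + 23 * b ^ 2 = 64 := by
    have h := hn
    unfold sqNorm at h
    rw [show (∑ i : GolayPt, (z : GolayPt → ℤ) i ^ 2) =
      (z : GolayPt → ℤ) none ^ 2 + ∑ i : ZMod 23, (z : GolayPt → ℤ) (some i) ^ 2 from
      Fintype.sum_option _] at h
    simp only [hall, sum_const, card_univ, ZMod.card, nsmul_eq_mul, Nat.cast_ofNat] at h
    exact h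
  have hb1 : -1 ≤ b := by nlinarith
  have hb2 : b ≤ 1 := by nlinarith
  have ha1 : -8 ≤ a := by nlinarith
  have ha2 : a ≤ 8 := by nlinarith
  have hsol : b = 0 ∧ (a = 8 ∨ a = -8) := by
    interval_cases b <;> interval_cases a <;> omega
  refine ⟨none, a, hsol.2, funext fun i => ?_⟩
  cases i with
  | none => rw [Pi.single_eq_same]
  | some i => rw [hall, hsol.1, Pi.single_eq_of_ne (by simp)]

theorem neg_not_mem_M24 : Equiv.optionCongr (Equiv.neg (ZMod 23)) ∉ M24 := by
  intro h
  obtain ⟨k, hk⟩ : ∃ k : Fin 12 × Fin 12,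
      ∑ i : GolayPt, Mathieu.wordOf (Mathieu.codeBasis.getD k.1.val 0) i *
        Mathieu.wordOf (Mathieu.codeBasis.getD k.2.val 0) (Option.map (fun x : ZMod 23 => -x) i) = 1 := by
    decide +kernel
  have h1 : ∀ k : Fin 12, Mathieu.inCode (Mathieu.codeBasis.getD k.val 0) = true := by decide +kernel
  have := code_dot (Mathieu.wordOf_mem_of_inCode (h1 k.1))
    (comp_mem_code h (Mathieu.wordOf_mem_of_inCode (h1 k.2)))
  exact zero_ne_one (this.symm.trans hk)

/-- What commutes with the translation. -/
theorem cent_x23 {g : Co0} (h : g * x23 = x23 * g) :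
    ∃ j : ℕ, g = x23 ^ j ∨ g = negElt * x23 ^ j := by
  have hg : g ∈ monGrp := mem_monGrp_of_cross (cross_of_x23_fixed ((co0_norm g _).trans (sqNorm_eight none))
    (by rw [← mul_smul, ← h, mul_smul, x23_eight]))
  obtain ⟨σ, c, hc, rfl⟩ := mono_decomp hg
  have key := mono_intertwine (σ := σ) (ρ := trElt) (ρ' := trElt) hc h
  set s := (σ : Equiv.Perm GolayPt).symm with hs
  have hnone : s none = none := by
    have h' := (key none).1
    rw [(Equiv.symm_apply_eq _).2 trElt_none.symm] at h'
    cases hsn : s none with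
    | none => rfl
    | some i =>
      rw [hsn, trElt_symm_some, Option.some_inj] at h'
      exact absurd h' (by intro e; exact zmod23_one_ne (sub_eq_self.1 e.symm))
  obtain ⟨a, ha⟩ : ∃ a, s (some 0) = some a := by
    cases hs0 : s (some 0) with
    | none => exact absurd (s.injective (hs0.trans hnone.symm)) (by simp)
    | some a => exact ⟨a, rfl⟩
  have hshift : ∀ n : ℕ, s (some (-(n : ZMod 23))) = some (a - n) := by
    intro n
    induction n with
    | zero => simpa using ha
    | succ n ih =>
      have h' := (key (some (-(n : ZMod 23)))).1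
      rw [trElt_symm_some, ih, trElt_symm_some] at h'
      rw [Nat.cast_succ, neg_add, ← sub_eq_add_neg, h', sub_sub]
  have hσ : σ = trElt ^ (-a).val := by
    refine Subtype.ext (Equiv.ext fun p => ?_)
    obtain ⟨e1, e2⟩ := trElt_pow_apply (-a).val
    cases p with
    | none => rw [e1, ← Equiv.eq_symm_apply]; exact hnone.symm
    | some i =>
      rw [e2, ZMod.natCast_zmod_val, ← Equiv.eq_symm_apply, ← hs]
      have := hshift (-(i + -a)).val
      rw [ZMod.natCast_zmod_val, neg_neg] at this
      rw [this]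
      congr 1
      ring
  have hcst : ∀ n : ℕ, c (some (-(n : ZMod 23))) = c (some 0) := by
    intro n
    induction n with
    | zero => simp
    | succ n ih =>
      rw [← ih, ← (key (some (-(n : ZMod 23)))).2, trElt_symm_some, Nat.cast_succ, neg_add, ← sub_eq_add_neg]
  have hall : ∀ i : ZMod 23, c (some i) = c (some 0) := fun i => by
    have := hcst (-i).val
    rwa [ZMod.natCast_zmod_val, neg_neg] at this
  have hc01 : c = 0 ∨ c = 1 := by
    have hw := code_weight hc
    have he : c = fun p => if p = none then c none else c (some 0) := by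
      funext p
      cases p with
      | none => simp
      | some i => simp [hall i]
    have hdec : ∀ u v : ZMod 2,
        ((support₂ (fun p : GolayPt => if p = none then u else v)).card = 0 ∨
        (support₂ (fun p : GolayPt => if p = none then u else v)).card = 8 ∨
        (support₂ (fun p : GolayPt => if p = none then u else v)).card = 12 ∨
        (support₂ (fun p : GolayPt => if p = none then u else v)).card = 16 ∨
        (support₂ (fun p : GolayPt => if p = none then u else v)).card = 24) →
        (fun p : GolayPt => if p = none then u else v) = 0 ∨ (fun p : GolayPt => if p = none then u else v) = 1 := by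
      decide +kernel
    rw [he] at hw ⊢
    exact hdec _ _ hw
  refine ⟨(-a).val, ?_⟩
  rw [x23, ← map_pow, ← hσ]
  rcases hc01 with rfl | rfl
  · left
    have : signElt 0 hc = 1 := eq_of_smul_eq_smul (α := leechLattice) fun v => Subtype.ext (by
      rw [signElt_smul, one_smul]; funext i; simp [signFun, mem_supp])
    rw [this, one_mul]
  · right; rfl

/-- Nothing inverts the translation. -/
theorem not_inv_x23 {g : Co0} (h : g * x23 = x23⁻¹ * g) : False := by
  have hg : g ∈ monGrp := mem_monGrp_of_cross (cross_of_x23_fixed ((co0_norm g _).trans (sqNorm_eight none))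
    (by
      conv_lhs => rw [← x23_eight, ← mul_smul g, h, mul_smul, smul_inv_smul]))
  obtain ⟨σ, c, hc, rfl⟩ := mono_decomp hg
  have hx : x23⁻¹ = permHom trElt⁻¹ := (map_inv permHom trElt).symm
  rw [hx] at h
  have key := mono_intertwine (σ := σ) (ρ := trElt) (ρ' := trElt⁻¹) hc h
  have ht : ∀ p, ((trElt⁻¹ : M24) : Equiv.Perm GolayPt).symm p = (trElt : Equiv.Perm GolayPt) p :=
    fun p => rfl
  simp only [ht] at key
  set s := (σ : Equiv.Perm GolayPt).symm with hs
  have hnone : s none = none := by
    have h' := (key none).1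
    rw [trElt_none] at h'
    cases hsn : s none with
    | none => rfl
    | some i =>
      rw [hsn, trElt_symm_some, Option.some_inj] at h'
      exact absurd h' (by intro e; exact zmod23_one_ne (sub_eq_self.1 e.symm))
  obtain ⟨a, ha⟩ : ∃ a, s (some 0) = some a := by
    cases hs0 : s (some 0) with
    | none => exact absurd (s.injective (hs0.trans hnone.symm)) (by simp)
    | some a => exact ⟨a, rfl⟩
  have hshift : ∀ n : ℕ, s (some (n : ZMod 23)) = some (a - n) := by
    intro n
    induction n with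
    | zero => simpa using ha
    | succ n ih =>
      have h' := (key (some (n : ZMod 23))).1
      rw [trElt_some, ih, trElt_symm_some] at h'
      rw [Nat.cast_succ, h', sub_sub]
  apply neg_not_mem_M24
  obtain ⟨e1, e2⟩ := trElt_pow_apply (-a).val
  have : Equiv.optionCongr (Equiv.neg (ZMod 23)) =
      ((trElt ^ (-a).val * σ⁻¹ : M24) : Equiv.Perm GolayPt) := by
    refine Equiv.ext fun p => ?_
    rw [Subgroup.coe_mul, Equiv.Perm.mul_apply, Subgroup.coe_inv, Equiv.Perm.inv_def, ← hs]
    cases p with
    | none => rw [hnone, e1]; rfl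
    | some i =>
      rw [← ZMod.natCast_zmod_val i, hshift, e2, ZMod.natCast_zmod_val, ZMod.natCast_zmod_val]
      show some (-i) = some (a - i + -a)
      congr 1
      ring
  rw [this]
  exact Subtype.coe_prop _

theorem factorization_co0_23 : (Nat.card Co0).factorization 23 = 1 := by
  rw [card_co0, show 8315553613086720000 = 23 ^ 1 * 361545809264640000 from by norm_num,
    Nat.factorization_mul (by norm_num) (by norm_num), Nat.Prime.factorization_pow (by norm_num)]
  simp [Nat.factorization_eq_zero_of_not_dvd (show ¬ 23 ∣ 361545809264640000 by norm_num)]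

/-- Every element of order 23 is conjugate to a power of the translation. -/
theorem exists_conj_x23 {x : Co0} (hx : orderOf x = 23) :
    ∃ (a : Co0) (m : ℕ), (m : ZMod 23) ≠ 0 ∧ a * x * a⁻¹ = x23 ^ m := by
  have : Fact (Nat.Prime 23) := ⟨by norm_num⟩
  let P : Sylow 23 Co0 := Sylow.ofCard (Subgroup.zpowers x)
    (by rw [Nat.card_zpowers, hx, factorization_co0_23, pow_one])
  let Q : Sylow 23 Co0 := Sylow.ofCard (Subgroup.zpowers x23)
    (by rw [Nat.card_zpowers, orderOf_x23, factorization_co0_23, pow_one])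
  obtain ⟨a, ha⟩ := exists_smul_eq Co0 P Q
  have hmem : a * x * a⁻¹ ∈ Subgroup.zpowers x23 := by
    have h1 : MulAut.conj a • x ∈ MulAut.conj a • (P : Subgroup Co0) :=
      Subgroup.smul_mem_pointwise_smul x _ _ (Subgroup.mem_zpowers x)
    rw [← Sylow.pointwise_smul_def, ← Sylow.smul_def, ha] at h1
    exact h1
  rw [← mem_powers_iff_mem_zpowers] at hmem
  obtain ⟨m, hm⟩ := hmem
  refine ⟨a, m, fun h0 => ?_, hm.symm⟩
  rw [ZMod.natCast_eq_zero_iff] at h0
  have h1 : a * x * a⁻¹ = 1 := by
    rw [← hm]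
    exact orderOf_dvd_iff_pow_eq_one.1 (by rwa [orderOf_x23])
  rw [mul_inv_eq_one, mul_eq_left] at h1
  rw [h1, orderOf_one] at hx
  norm_num at hx

theorem x23_of_pow {m : ℕ} (hm : (m : ZMod 23) ≠ 0) : ∃ n : ℕ, (x23 ^ m) ^ n = x23 := by
  have : Fact (Nat.Prime 23) := ⟨by norm_num⟩
  refine ⟨((m : ZMod 23)⁻¹).val, ?_⟩
  rw [← pow_mul]
  conv_rhs => rw [← pow_one x23]
  rw [pow_eq_pow_iff_modEq, orderOf_x23, ← ZMod.natCast_eq_natCast_iff, Nat.cast_mul,
    ZMod.natCast_zmod_val, mul_inv_cancel₀ hm, Nat.cast_one]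

/-! ### The stabiliser -/

/-- The stabiliser of the standard minimal vector. -/
abbrev co2Grp : Subgroup Co0 := stabilizer Co0 leechU

theorem leechU_facts : sqNorm (leechU : GolayPt → ℤ) = 32 ∧ (leechU : GolayPt → ℤ) none = 4 ∧
    (leechU : GolayPt → ℤ) (some 0) = 4 ∧
    ∀ p : GolayPt, p ≠ none → p ≠ some 0 → (leechU : GolayPt → ℤ) p = 0 := by
  decide +kernel

theorem card_co2Grp : Nat.card co2Grp = 42305421312000 := by
  have horb : orbit Co0 leechU = {x : leechLattice | sqNorm (x : GolayPt → ℤ) = 32} := by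
    ext x
    constructor
    · rintro ⟨g, rfl⟩
      exact (co0_norm g leechU).trans leechU_facts.1
    · intro hx
      exact mem_orbit_iff.2 (co0_transitive leechU x 32 (Or.inl rfl) leechU_facts.1 hx)
  have hcard : {x : leechLattice | sqNorm (x : GolayPt → ℤ) = 32}.ncard = 196560 := by
    rw [← card_shells.1, ← Set.ncard_coe_finset]
    refine Set.ncard_congr (fun x _ => (x : GolayPt → ℤ)) ?_ (fun a b _ _ e => Subtype.ext e) ?_
    · intro x hx
      exact mem_coe.2 (mem_shellFinset.2 ⟨mem_leechLattice.1 x.2, by exact_mod_cast hx⟩)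
    · intro y hy
      obtain ⟨h1, h2⟩ := mem_shellFinset.1 (mem_coe.1 hy)
      exact ⟨⟨y, mem_leechLattice.2 h1⟩, by exact_mod_cast h2, rfl⟩
  have h := Subgroup.index_mul_card (stabilizer Co0 leechU)
  rw [index_stabilizer, horb, hcard, card_co0] at h
  exact Nat.eq_of_mul_eq_mul_left (show 0 < 196560 by norm_num) (h.trans (by norm_num))

theorem co2_cent23 {x y : co2Grp} (hx : orderOf x = 23) (h : y * x = x * y) : y ^ 23 = 1 := by
  have hx' : orderOf (x : Co0) = 23 := by rw [Subgroup.orderOf_coe, hx]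
  have h' : (y : Co0) * x = x * y := congrArg Subtype.val h
  obtain ⟨a, m, hm, ha⟩ := exists_conj_x23 hx'
  obtain ⟨n, hn⟩ := x23_of_pow hm
  have hcomm : Commute (a * y * a⁻¹) x23 := by
    rw [← hn, ← ha]
    refine Commute.pow_right ?_ n
    show a * y * a⁻¹ * (a * x * a⁻¹) = a * x * a⁻¹ * (a * y * a⁻¹)
    calc a * y * a⁻¹ * (a * x * a⁻¹) = a * (y * x) * a⁻¹ := by group
      _ = a * (x * y) * a⁻¹ := by rw [h']
      _ = a * x * a⁻¹ * (a * y * a⁻¹) := by group
  have hfix : ∀ g : co2Grp, (a * g * a⁻¹ : Co0) • (a • leechU) = a • leechU := fun g => by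
    rw [mul_smul, inv_smul_smul, mul_smul, mem_stabilizer_iff.1 g.2]
  have hx23 : x23 • (a • leechU) = a • leechU := by
    rw [← hn, ← ha, conj_pow]
    exact hfix (x ^ n)
  obtain ⟨j, hj | hj⟩ := cent_x23 hcomm.eq
  · refine Subtype.ext ?_
    have h1 : (a * y * a⁻¹ : Co0) ^ 23 = 1 := by
      rw [hj, ← pow_mul, mul_comm, pow_mul, x23, ← map_pow, trElt_pow23, map_one, one_pow]
    rw [conj_pow, mul_inv_eq_one, mul_eq_left] at h1
    simpa using h1
  · exfalso
    have h1 := hfix y
    have h2 : x23 ^ j • (a • leechU) = a • leechU :=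
      mem_stabilizer_iff.1 (pow_mem (mem_stabilizer_iff.2 hx23) j)
    rw [hj, mul_smul, h2, negElt_smul] at h1
    have h3 := (co0_norm a leechU).trans leechU_facts.1
    have h4 : a • leechU = 0 := by
      refine Subtype.ext (funext fun i => ?_)
      have := congrArg (fun w : leechLattice => (w : GolayPt → ℤ) i) h1
      simp only [AddSubgroup.coe_neg, Pi.neg_apply] at this
      show _ = (0 : ℤ)
      omega
    rw [h4] at h3
    simp [sqNorm] at h3

theorem co2_not_inv23 {x y : co2Grp} (hx : orderOf x = 23) (h : y * x = x⁻¹ * y) : False := by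
  have hx' : orderOf (x : Co0) = 23 := by rw [Subgroup.orderOf_coe, hx]
  have h' : (y : Co0) * x = (x : Co0)⁻¹ * y := congrArg Subtype.val h
  obtain ⟨a, m, hm, ha⟩ := exists_conj_x23 hx'
  obtain ⟨n, hn⟩ := x23_of_pow hm
  refine not_inv_x23 (g := a * y * a⁻¹) ?_
  have key : (a * y * a⁻¹) * (a * x * a⁻¹) * (a * y * a⁻¹)⁻¹ = (a * x * a⁻¹)⁻¹ := by
    calc (a * y * a⁻¹) * (a * x * a⁻¹) * (a * y * a⁻¹)⁻¹ = a * (y * x) * (y : Co0)⁻¹ * a⁻¹ := by group
      _ = a * ((x : Co0)⁻¹ * y) * (y : Co0)⁻¹ * a⁻¹ := by rw [h']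
      _ = (a * x * a⁻¹)⁻¹ := by group
  rw [ha] at key
  have := congrArg (· ^ n) key
  simp only [conj_pow, inv_pow, hn] at this
  exact mul_inv_eq_iff_eq_mul.1 this

theorem card_mod_of_free {G : Type*} [Group G] [Finite G] {p : ℕ} [Fact p.Prime] (x : G)
    (hx : x ^ p = 1) (K : Subgroup G) (hn : ∀ k ∈ K, x * k * x⁻¹ ∈ K)
    (hfree : ∀ k ∈ K, x * k = k * x → k = 1) : Nat.card K % p = 1 := by
  classical
  let _ := Fintype.ofFinite K
  let f : Function.End K := fun k => ⟨x * k * x⁻¹, hn k k.2⟩
  have hf : ∀ (n : ℕ) (k : K), ((f ^ n) k : G) = x ^ n * k * (x ^ n)⁻¹ := by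
    intro n
    induction n with
    | zero => intro k; simp; rfl
    | succ n ih =>
      intro k
      rw [pow_succ']
      show x * ((f ^ n) k : G) * x⁻¹ = _
      rw [ih, pow_succ']
      group
  have h := Equiv.Perm.card_fixedPoints_modEq (f := f) (p := p) (n := 1)
    (funext fun k => Subtype.ext (by rw [pow_one, hf, hx]; simp; rfl))
  have hfix : Function.fixedPoints f = {1} := by
    ext k
    constructor
    · intro hk
      have e : x * (k : G) * x⁻¹ = k := congrArg Subtype.val hk
      rw [mul_inv_eq_iff_eq_mul] at e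
      exact Subtype.ext (hfree k k.2 e)
    · rintro rfl
      exact Subtype.ext (by simp [f])
  have h1 : Fintype.card ↥(Function.fixedPoints f) = 1 := by
    rw [Fintype.card_eq_nat_card, Nat.card_coe_set_eq, hfix, Set.ncard_singleton]
  rw [h1, ← Nat.card_eq_fintype_card] at h
  rw [h, Nat.one_mod_eq_one]
  exact (Fact.out : p.Prime).ne_one

/-! ### Sign changes in the stabiliser -/

/-- The sign changes fixing the vector. -/
def co2Signs : Subgroup co2Grp := signGrp.subgroupOf co2Grp

theorem mem_co2Grp_sign {c : GolayPt → ZMod 2} (hc : c ∈ golayCode) :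
    signElt c hc ∈ co2Grp ↔ c none = 0 ∧ c (some 0) = 0 := by
  obtain ⟨-, u1, u2, u3⟩ := leechU_facts
  rw [mem_stabilizer_iff]
  constructor
  · intro h
    refine ⟨(zmod2_cases _).resolve_right fun e => ?_, (zmod2_cases _).resolve_right fun e => ?_⟩
    · have := congrArg (fun w : leechLattice => (w : GolayPt → ℤ) none) h
      simp [signElt_smul, signFun, mem_supp, e, u1] at this
    · have := congrArg (fun w : leechLattice => (w : GolayPt → ℤ) (some 0)) h
      simp [signElt_smul, signFun, mem_supp, e, u2] at this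
  · rintro ⟨h1, h2⟩
    refine Subtype.ext (funext fun p => ?_)
    rw [signElt_smul]
    simp only [signFun, mem_supp]
    by_cases e1 : p = none
    · simp [e1, h1]
    by_cases e2 : p = some 0
    · simp [e2, h2]
    simp [u3 p e1 e2]

theorem mem_co2Signs {n : co2Grp} :
    n ∈ co2Signs ↔ ∃ (c : GolayPt → ZMod 2) (hc : c ∈ golayCode), (n : Co0) = signElt c hc :=
  Iff.rfl

theorem co2Signs_sq (n : co2Grp) (hn : n ∈ co2Signs) : n * n = 1 := by
  obtain ⟨c, hc, e⟩ := mem_co2Signs.1 hn
  refine Subtype.ext (eq_of_smul_eq_smul (α := leechLattice) fun v => Subtype.ext ?_)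
  rw [Subgroup.coe_mul, Subgroup.coe_one, e, mul_smul, signElt_smul, signElt_smul, signFun_signFun,
    one_smul]

theorem swap_not_mem_M24 : Equiv.swap (none : GolayPt) (some 0) ∉ M24 := by
  intro h
  obtain ⟨c, hc, hv⟩ := code_interp {none, some 0} (by decide) (fun p => if p = none then 1 else 0)
  have h1 : c none = 1 := by rw [hv _ (by simp)]; rfl
  have h2 : c (some 0) = 0 := by rw [hv _ (by simp)]; rfl
  set w := c + c ∘ Equiv.swap (none : GolayPt) (some 0) with hw
  have hwC : w ∈ golayCode := add_mem hc (comp_mem_code h hc)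
  have hsupp : support₂ w = {none, some 0} := by
    ext p
    simp only [mem_supp, hw, Pi.add_apply, Function.comp_apply, mem_insert, mem_singleton]
    by_cases e1 : p = none
    · simp [e1, h1, h2]
    by_cases e2 : p = some 0
    · simp [e2, h1, h2]
    rw [Equiv.swap_apply_of_ne_of_ne e1 e2]
    rcases zmod2_cases (c p) with e | e <;> simp [e, e1, e2, show (1 : ZMod 2) + 1 = 0 from by decide]
  have hne : w ≠ 0 := fun e => by
    have : none ∈ support₂ w := by rw [hsupp]; simp
    rw [e, mem_supp] at this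
    exact zero_ne_one this
  have := code_min_weight hwC hne
  rw [hsupp] at this
  exact absurd this (by decide)

/-- The sign changes are their own centraliser. -/
theorem co2Signs_cent {n : co2Grp} (h : ∀ e ∈ co2Signs, n * e = e * n) : n ∈ co2Signs := by
  have hcomm : ∀ (c : GolayPt → ZMod 2) (hc : c ∈ golayCode), c none = 0 → c (some 0) = 0 →
      ∀ v : leechLattice, (n : Co0) • signElt c hc • v = signElt c hc • (n : Co0) • v := by
    intro c hc h1 h2 v
    have := congrArg Subtype.val (h ⟨_, (mem_co2Grp_sign hc).2 ⟨h1, h2⟩⟩ ⟨c, hc, rfl⟩)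
    rw [← mul_smul, ← mul_smul]
    exact congrArg (· • v) this
  have hline : ∀ k : GolayPt, k ≠ none → k ≠ some 0 → ∀ i : GolayPt, i ≠ k →
      (((n : Co0) • eight k : leechLattice) : GolayPt → ℤ) i = 0 := by
    intro k hk1 hk2 i hik
    obtain ⟨c, hc, hv⟩ := code_interp {none, some 0, k, i} (card_le_four.trans (by norm_num))
      (fun p => if p = k then 1 else 0)
    have h1 : c none = 0 := by rw [hv _ (by simp), if_neg (Ne.symm hk1)]
    have h2 : c (some 0) = 0 := by rw [hv _ (by simp), if_neg (Ne.symm hk2)]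
    have hck : c k = 1 := by rw [hv _ (by simp), if_pos rfl]
    have hci : c i = 0 := by rw [hv _ (by simp), if_neg hik]
    have e : signElt c hc • eight k = -eight k := by
      refine Subtype.ext (funext fun p => ?_)
      rw [signElt_smul, AddSubgroup.coe_neg, eight_val]
      by_cases hp : p = k
      · simp [signFun, mem_supp, hp, hck]
      · simp [signFun, Pi.single_eq_of_ne hp]
    have := congrArg (fun w : leechLattice => (w : GolayPt → ℤ) i) (hcomm c hc h1 h2 (eight k))
    simp only [e, co0_neg, AddSubgroup.coe_neg, Pi.neg_apply, signElt_smul, signFun, mem_supp, hci,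
      zero_ne_one, if_false] at this
    omega
  have hval : ∀ k : GolayPt, k ≠ none → k ≠ some 0 →
      (((n : Co0) • eight k : leechLattice) : GolayPt → ℤ) k = 8 ∨
        (((n : Co0) • eight k : leechLattice) : GolayPt → ℤ) k = -8 := by
    intro k hk1 hk2
    have hn := (co0_norm (n : Co0) (eight k)).trans (sqNorm_eight k)
    unfold sqNorm at hn
    rw [Fintype.sum_eq_single k fun i hi => by rw [hline k hk1 hk2 i hi]; norm_num] at hn
    exact sq_eq_sq_iff_eq_or_eq_neg.1 (hn.trans (by norm_num))
  have hmon : (n : Co0) ∈ monGrp := by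
    rw [mem_monGrp, fixesStd_iff]
    have h1 : clsV (eight (some 1)) = clsV (eight none) :=
      cls_stdCross ⟨some 1, 8, Or.inl rfl, rfl⟩
    have h2 : clsV ((n : Co0) • eight (some 1)) = clsV (eight none) := by
      refine cls_stdCross ⟨some 1, _, hval (some 1) (by simp) (by decide), funext fun i => ?_⟩
      by_cases hi : i = some 1
      · rw [hi, Pi.single_eq_same]
      · rw [Pi.single_eq_of_ne hi, hline _ (by simp) (by decide) i hi]
    rw [← h2]
    exact (clsV_smul h1).symm
  obtain ⟨σ, c, hc, e⟩ := mono_decomp hmon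
  have hσk : ∀ k : GolayPt, k ≠ none → k ≠ some 0 → (σ : Equiv.Perm GolayPt) k = k := by
    intro k hk1 hk2
    by_contra hne
    have := hline k hk1 hk2 _ hne
    rw [e, mono_apply, Equiv.symm_apply_apply, eight_val, Pi.single_eq_same] at this
    split_ifs at this <;> omega
  have hσ : σ = 1 := by
    refine Subtype.ext (Equiv.ext fun p => ?_)
    show (σ : Equiv.Perm GolayPt) p = p
    by_cases hA : (σ : Equiv.Perm GolayPt) none = none
    · by_cases e1 : p = none
      · rw [e1]; exact hA
      by_cases e2 : p = some 0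
      · by_contra hne
        rw [e2] at hne
        have h0 : (σ : Equiv.Perm GolayPt) (some 0) ≠ none := fun z =>
          Option.some_ne_none _ (σ.1.injective (z.trans hA.symm))
        exact hne (σ.1.injective (hσk _ h0 hne))
      exact hσk p e1 e2
    · exfalso
      have hA' : (σ : Equiv.Perm GolayPt) none = some 0 := by
        by_contra hB
        exact hA (σ.1.injective (hσk _ hA hB))
      have hB' : (σ : Equiv.Perm GolayPt) (some 0) = none := by
        by_contra hB
        have hB2 : (σ : Equiv.Perm GolayPt) (some 0) ≠ some 0 := fun z =>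
          Option.some_ne_none _ (σ.1.injective (z.trans hA'.symm))
        exact hB2 (σ.1.injective (hσk _ hB hB2))
      refine swap_not_mem_M24 ?_
      have : Equiv.swap (none : GolayPt) (some 0) = (σ : Equiv.Perm GolayPt) := by
        refine Equiv.ext fun q => ?_
        by_cases e1 : q = none
        · rw [e1, Equiv.swap_apply_left, hA']
        by_cases e2 : q = some 0
        · rw [e2, Equiv.swap_apply_right, hB']
        rw [Equiv.swap_apply_of_ne_of_ne e1 e2, hσk q e1 e2]
      rw [this]
      exact σ.2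
  exact mem_co2Signs.2 ⟨c, hc, by rw [e, hσ, map_one, mul_one]⟩

/-! ### An element of order 11 -/

/-- Doubling of the residues. -/
def m2Elt : M24 :=
  ⟨Equiv.optionCongr (Units.mulLeft (ZMod.unitOfCoprime 2 (by norm_num) : (ZMod 23)ˣ)),
    Mathieu.optionCongr_mulLeft_mem _ ⟨ZMod.unitOfCoprime 5 (by norm_num), by decide +kernel⟩⟩

theorem m2Elt_facts : (m2Elt : Equiv.Perm GolayPt) none = none ∧
    (m2Elt : Equiv.Perm GolayPt) (some 0) = some 0 ∧
    (∀ i : ZMod 23, (m2Elt : Equiv.Perm GolayPt) (some i) = some (2 * i)) ∧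
    (m2Elt : Equiv.Perm GolayPt) ^ 11 = 1 := by
  decide +kernel

theorem permHom_mem_co2Grp {σ : M24} (h1 : (σ : Equiv.Perm GolayPt) none = none)
    (h2 : (σ : Equiv.Perm GolayPt) (some 0) = some 0) : permHom σ ∈ co2Grp := by
  obtain ⟨-, u1, u2, u3⟩ := leechU_facts
  refine mem_stabilizer_iff.2 (Subtype.ext (funext fun p => ?_))
  rw [permHom_apply]
  by_cases e1 : p = none
  · rw [e1, (Equiv.symm_apply_eq _).2 h1.symm]
  by_cases e2 : p = some 0
  · rw [e2, (Equiv.symm_apply_eq _).2 h2.symm]
  rw [u3 p e1 e2, u3]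
  · intro e; rw [Equiv.symm_apply_eq, h1] at e; exact e1 e
  · intro e; rw [Equiv.symm_apply_eq, h2] at e; exact e2 e

/-- The element of order 11. -/
def y11 : co2Grp := ⟨permHom m2Elt, permHom_mem_co2Grp m2Elt_facts.1 m2Elt_facts.2.1⟩

theorem y11_pow : y11 ^ 11 = 1 := by
  refine Subtype.ext ?_
  rw [SubmonoidClass.coe_pow]
  show permHom m2Elt ^ 11 = 1
  have : m2Elt ^ 11 = 1 := Subtype.ext (by
    rw [SubmonoidClass.coe_pow]; exact m2Elt_facts.2.2.2)
  rw [← map_pow, this, map_one]

theorem y11_conj_signs : ∀ e ∈ co2Signs, y11 * e * y11⁻¹ ∈ co2Signs := fun e he => by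
  obtain ⟨c, hc, h⟩ := mem_co2Signs.1 he
  refine mem_co2Signs.2 ⟨c ∘ (m2Elt : Equiv.Perm GolayPt).symm, comp_mem_code (inv_mem m2Elt.2) hc, ?_⟩
  rw [Subgroup.coe_mul, Subgroup.coe_mul, Subgroup.coe_inv, h]
  exact perm_conj_sign m2Elt hc

theorem y11_free : ∀ e ∈ co2Signs, y11 * e = e * y11 → e = 1 := by
  intro e he h
  obtain ⟨c, hc, hce⟩ := mem_co2Signs.1 he
  obtain ⟨h1, h2⟩ := (mem_co2Grp_sign hc).1 (hce ▸ e.2)
  have h' : signElt c hc * permHom (1 : M24) * permHom m2Elt =
      permHom m2Elt * (signElt c hc * permHom (1 : M24)) := by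
    rw [map_one, mul_one, ← hce]
    exact congrArg Subtype.val h.symm
  have key : ∀ p, c ((m2Elt : Equiv.Perm GolayPt) p) = c p := fun p => by
    have := (mono_intertwine hc h' ((m2Elt : Equiv.Perm GolayPt) p)).2
    rw [Equiv.symm_apply_apply] at this
    exact this.symm
  have hiter : ∀ (k : ℕ) (a : ZMod 23), c (some (2 ^ k * a)) = c (some a) := by
    intro k a
    induction k with
    | zero => simp
    | succ k ih =>
      rw [← ih, ← key (some (2 ^ k * a)), m2Elt_facts.2.2.1, pow_succ', mul_assoc]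
  have hgen : ∀ i : ZMod 23, i ≠ 0 → ∃ k : Fin 11, i = 2 ^ k.val * 1 ∨ i = 2 ^ k.val * 5 := by
    decide +kernel
  have hshape : c = fun p => if p = none ∨ p = some 0 then 0 else
      if p ∈ ({some 1, some 2, some 3, some 4, some 6, some 8, some 9, some 12, some 13, some 16, some 18} :
        Finset GolayPt) then c (some 1) else c (some 5) := by
    funext p
    cases p with
    | none => simp [h1]
    | some i =>
      by_cases hi : i = 0
      · simp [hi, h2]
      obtain ⟨k, hk | hk⟩ := hgen i hi
      · have : ∀ k : Fin 11, (some (2 ^ k.val * 1) : GolayPt) ∈ ({some 1, some 2, some 3, some 4, some 6,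
          some 8, some 9, some 12, some 13, some 16, some 18} : Finset GolayPt) := by decide +kernel
        rw [if_neg (by simp [hi]), hk, if_pos (this k), hiter]
      · have : ∀ k : Fin 11, (some (2 ^ k.val * 5) : GolayPt) ∉ ({some 1, some 2, some 3, some 4, some 6,
          some 8, some 9, some 12, some 13, some 16, some 18} : Finset GolayPt) := by decide +kernel
        rw [if_neg (by simp [hi]), hk, if_neg (this k), hiter]
  have hc0 : c = 0 := by
    have hw := code_weight hc
    have hdec : ∀ a b : ZMod 2, ∀ f : GolayPt → ZMod 2,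
        (∀ p, f p = if p = none ∨ p = some 0 then 0 else
          if p ∈ ({some 1, some 2, some 3, some 4, some 6, some 8, some 9, some 12, some 13, some 16, some 18} :
            Finset GolayPt) then a else b) →
        ((support₂ f).card = 0 ∨ (support₂ f).card = 8 ∨ (support₂ f).card = 12 ∨
        (support₂ f).card = 16 ∨ (support₂ f).card = 24) → f = 0 := by
      intro a b f hf
      rw [show f = _ from funext hf]
      clear hf f
      revert a b
      decide +kernel
    exact hdec _ _ c (congrFun hshape) hw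
  refine Subtype.ext ?_
  rw [hce]
  refine eq_of_smul_eq_smul (α := leechLattice) fun v => Subtype.ext ?_
  rw [signElt_smul, Subgroup.coe_one, one_smul, hc0]
  funext i
  simp [signFun, mem_supp]

/-! ### Simplicity -/

/-- The copy of `M22`. -/
def m22co2 : Spor.M22 →* co2Grp where
  toFun σ := ⟨permHom ⟨σ.1, (Mathieu.mem_M22_iff.1 σ.2).1⟩,
    permHom_mem_co2Grp (Mathieu.mem_M22_iff.1 σ.2).2.1 (Mathieu.mem_M22_iff.1 σ.2).2.2⟩
  map_one' := Subtype.ext (map_one permHom)
  map_mul' σ τ := Subtype.ext (map_mul permHom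
    (⟨σ.1, (Mathieu.mem_M22_iff.1 σ.2).1⟩ : M24) ⟨τ.1, (Mathieu.mem_M22_iff.1 τ.2).1⟩)

theorem m22co2_injective : Function.Injective m22co2 := by
  intro σ τ h
  have h' : permHom ⟨σ.1, _⟩ = permHom ⟨τ.1, _⟩ := congrArg Subtype.val h
  refine Subtype.ext (Equiv.ext fun p => ?_)
  have e := congrArg (fun z : Co0 => ((z • eight p : leechLattice) : GolayPt → ℤ) (σ.1 p)) h'
  simp only [permHom_apply, Equiv.symm_apply_apply, eight_val, Pi.single_eq_same] at e
  by_contra hne
  rw [Pi.single_eq_of_ne fun z => hne ((Equiv.symm_apply_eq _).1 z)] at e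
  norm_num at e

theorem co2_primes {q : ℕ} (hq : q.Prime) (h : q ∣ Nat.card co2Grp) :
    q = 2 ∨ q = 3 ∨ q = 5 ∨ q = 7 ∨ q = 11 ∨ q = 23 := by
  rw [card_co2Grp, show 42305421312000 = 2 ^ 18 * 3 ^ 6 * 5 ^ 3 * 7 * 11 * 23 from by norm_num] at h
  rcases hq.dvd_mul.1 h with h | h
  rcases hq.dvd_mul.1 h with h | h
  rcases hq.dvd_mul.1 h with h | h
  rcases hq.dvd_mul.1 h with h | h
  rcases hq.dvd_mul.1 h with h | h
  all_goals
    first
      | (have := (Nat.prime_dvd_prime_iff_eq hq (by norm_num)).1 (hq.dvd_of_dvd_pow h); omega)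
      | (have := (Nat.prime_dvd_prime_iff_eq hq (by norm_num)).1 h; omega)

theorem card_dvd_normalizer_mul {G : Type*} [Group G] [Finite G] (H N : Subgroup G) [N.Normal]
    (h : H ⊔ N = ⊤) : N.index ∣ Nat.card H := by
  rw [Subgroup.index_eq_card]
  refine Subgroup.card_dvd_of_surjective ((QuotientGroup.mk' N).comp H.subtype) fun q => ?_
  obtain ⟨g, rfl⟩ := QuotientGroup.mk'_surjective N q
  obtain ⟨a, ha, b, hb, rfl⟩ : ∃ a ∈ H, ∃ b ∈ N, a * b = g :=
    Subgroup.mem_sup_of_normal_right.1 (h ▸ Subgroup.mem_top g)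
  refine ⟨⟨a, ha⟩, ?_⟩
  show QuotientGroup.mk' N a = QuotientGroup.mk' N (a * b)
  rw [map_mul, (QuotientGroup.eq_one_iff b).2 hb |> (show QuotientGroup.mk' N b = 1 from ·), mul_one]

theorem co2_normal_case23 (N : Subgroup co2Grp) [N.Normal] (h23 : 23 ∣ Nat.card N) : N = ⊤ := by
  have : Fact (Nat.Prime 23) := ⟨by norm_num⟩
  obtain ⟨Q⟩ : Nonempty (Sylow 23 N) := inferInstance
  set Q' := (Q : Subgroup N).map N.subtype with hQ'
  set H := Subgroup.normalizer (Q' : Set co2Grp) with hH
  have hsup : H ⊔ N = ⊤ := Sylow.normalizer_sup_eq_top Q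
  have hQcard : Nat.card Q' = 23 := by
    rw [hQ', Subgroup.card_map_of_injective N.subtype_injective, Sylow.card_eq_multiplicity]
    have h1 : Nat.card N ∣ 42305421312000 := card_co2Grp ▸ Subgroup.card_subgroup_dvd_card N
    have h2 : (Nat.card N).factorization 23 ≤ 1 := by
      by_contra hgt
      have := (pow_dvd_pow 23 (show 2 ≤ (Nat.card N).factorization 23 by omega)).trans
        ((Nat.ordProj_dvd _ _).trans h1)
      norm_num at this
    have h3 : 1 ≤ (Nat.card N).factorization 23 :=
      (Nat.Prime.dvd_iff_one_le_factorization (by norm_num) Nat.card_pos.ne').1 h23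
    rw [show (Nat.card N).factorization 23 = 1 by omega, pow_one]
  obtain ⟨x, hx⟩ := exists_prime_orderOf_dvd_card' (G := Q') 23 (by rw [hQcard])
  have hxo : orderOf (x : co2Grp) = 23 := by rw [Subgroup.orderOf_coe, hx]
  have hgenQ : Q' = Subgroup.zpowers (x : co2Grp) := by
    refine (Subgroup.eq_of_le_of_card_ge (Subgroup.zpowers_le.2 x.2) ?_).symm
    rw [hQcard, Nat.card_zpowers, hxo]
  have hno : ∀ p, p = 2 ∨ p = 3 ∨ p = 5 ∨ p = 7 → ¬ p ∣ Nat.card H := by
    intro p hp hdvd
    have hpp : p.Prime := by rcases hp with rfl | rfl | rfl | rfl <;> norm_num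
    have : Fact p.Prime := ⟨hpp⟩
    obtain ⟨y, hy⟩ := exists_prime_orderOf_dvd_card' (G := H) p hdvd
    have hyo : orderOf (y : co2Grp) = p := by rw [Subgroup.orderOf_coe, hy]
    have hmem : (y : co2Grp) * x * (y : co2Grp)⁻¹ ∈ Q' :=
      (Subgroup.mem_normalizer_iff.1 y.2 _).1 x.2
    obtain ⟨k, hk⟩ := mem_powers_iff_mem_zpowers.2 ((SetLike.ext_iff.1 hgenQ _).1 hmem)
    have hk : (x : co2Grp) ^ k = y * x * (y : co2Grp)⁻¹ := hk
    have hiter : ∀ j : ℕ, (y : co2Grp) ^ j * x * ((y : co2Grp) ^ j)⁻¹ = (x : co2Grp) ^ k ^ j := by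
      intro j
      induction j with
      | zero => simp
      | succ j ih =>
        calc (y : co2Grp) ^ (j + 1) * x * ((y : co2Grp) ^ (j + 1))⁻¹
            = y * ((y : co2Grp) ^ j * x * ((y : co2Grp) ^ j)⁻¹) * (y : co2Grp)⁻¹ := by
              rw [pow_succ']; group
          _ = y * (x : co2Grp) ^ k ^ j * (y : co2Grp)⁻¹ := by rw [ih]
          _ = (y * x * (y : co2Grp)⁻¹) ^ k ^ j := conj_pow.symm
          _ = (x : co2Grp) ^ k ^ (j + 1) := by rw [← hk, ← pow_mul, pow_succ']
    have hkp := hiter p
    rw [← hyo, pow_orderOf_eq_one, one_mul, inv_one, mul_one] at hkp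
    conv_lhs at hkp => rw [← pow_one (x : co2Grp)]
    rw [pow_eq_pow_iff_modEq, hxo, ← ZMod.natCast_eq_natCast_iff, Nat.cast_one, Nat.cast_pow,
      hyo] at hkp
    have hk1 : (k : ZMod 23) = 1 ∨ (k : ZMod 23) = -1 := by
      obtain ⟨r2, r3, r5, r7⟩ := zmod23_roots k
      rcases hp with rfl | rfl | rfl | rfl
      · exact r2 hkp.symm
      · exact Or.inl (r3 hkp.symm)
      · exact Or.inl (r5 hkp.symm)
      · exact Or.inl (r7 hkp.symm)
    rcases hk1 with e | e
    · have hxk : (x : co2Grp) ^ k = x := by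
        conv_rhs => rw [← pow_one (x : co2Grp)]
        rw [pow_eq_pow_iff_modEq, hxo, ← ZMod.natCast_eq_natCast_iff, e, Nat.cast_one]
      rw [hxk, eq_mul_inv_iff_mul_eq] at hk
      have h23y := orderOf_dvd_of_pow_eq_one (co2_cent23 hxo hk.symm)
      rw [hyo, Nat.prime_dvd_prime_iff_eq hpp (by norm_num)] at h23y
      omega
    · have hxk : (x : co2Grp) ^ k = (x : co2Grp)⁻¹ := by
        refine eq_inv_of_mul_eq_one_left ?_
        rw [← pow_succ]
        refine orderOf_dvd_iff_pow_eq_one.1 ?_
        rw [hxo, ← ZMod.natCast_eq_zero_iff, Nat.cast_succ, e, neg_add_cancel]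
      rw [hxk, eq_mul_inv_iff_mul_eq] at hk
      exact co2_not_inv23 hxo hk.symm
  set d := N.index with hd
  have hdH : d ∣ Nat.card H := card_dvd_normalizer_mul H N hsup
  have hNd : Nat.card N * d = 42305421312000 := card_co2Grp ▸ Subgroup.card_mul_index N
  have hd11 : d ∣ 11 := by
    have hdG : d ∣ 11 * 3845947392000 := by
      rw [show 11 * 3845947392000 = 42305421312000 from rfl, ← hNd]; exact dvd_mul_left _ _
    refine Nat.Coprime.dvd_of_dvd_mul_right ?_ hdG
    refine Nat.coprime_of_dvd fun p hp hpd hpM => ?_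
    have hpG : p ∣ Nat.card co2Grp := by
      rw [card_co2Grp]
      exact hpM.trans ⟨11, rfl⟩
    rcases co2_primes hp hpG with e | e | e | e | e | e
    · exact hno p (Or.inl e) (hpd.trans hdH)
    · exact hno p (Or.inr (Or.inl e)) (hpd.trans hdH)
    · exact hno p (Or.inr (Or.inr (Or.inl e))) (hpd.trans hdH)
    · exact hno p (Or.inr (Or.inr (Or.inr e))) (hpd.trans hdH)
    · subst e; norm_num at hpM
    · subst e
      have := Nat.mul_dvd_mul h23 hpd
      rw [hNd] at this
      norm_num at this
  rcases (Nat.dvd_prime (by norm_num)).1 hd11 with e | e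
  · exact Subgroup.index_eq_one.1 e
  exfalso
  have : IsSimpleGroup Spor.M22 := Mathieu.isSimple_M22
  rcases IsSimpleGroup.eq_bot_or_eq_top_of_normal (N.comap m22co2) inferInstance with hb | ht
  · have hinj : Function.Injective ((QuotientGroup.mk' N).comp m22co2) := by
      rw [← MonoidHom.ker_eq_bot_iff, ← MonoidHom.comap_ker, QuotientGroup.ker_mk']
      exact hb
    have h := Nat.card_le_card_of_injective _ hinj
    rw [Mathieu.card_M22, ← Subgroup.index_eq_card, ← hd, e] at h
    norm_num at h
  · have h11 : 443520 ∣ Nat.card N := by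
      rw [← Mathieu.card_M22]
      refine Subgroup.card_dvd_of_injective (MonoidHom.codRestrict m22co2 N fun σ => ?_) ?_
      · have : σ ∈ N.comap m22co2 := by rw [ht]; trivial
        exact this
      · exact fun a b h => m22co2_injective (congrArg Subtype.val h)
    have := Nat.mul_dvd_mul ((show 11 ∣ 443520 by norm_num).trans h11) (dvd_refl d)
    rw [hNd, e] at this
    norm_num at this

theorem co2_pow_two {x : co2Grp} (hx : orderOf x = 23) {K : Subgroup co2Grp} {j : ℕ}
    (hK : Nat.card K = 2 ^ j) (hnorm : ∀ k ∈ K, x * k * x⁻¹ ∈ K) : j = 0 ∨ j = 11 := by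
  have : Fact (Nat.Prime 23) := ⟨by norm_num⟩
  have hmod := card_mod_of_free (p := 23) x (hx ▸ pow_orderOf_eq_one x) K hnorm (fun k hk h => by
    have h1 : orderOf k ∣ 23 := orderOf_dvd_of_pow_eq_one (co2_cent23 hx h.symm)
    have h2 : orderOf k ∣ 2 ^ j := by
      rw [← hK]
      have := orderOf_dvd_natCard (⟨k, hk⟩ : K)
      rwa [← Subgroup.orderOf_coe] at this
    have h3 := Nat.dvd_gcd h1 h2
    rw [Nat.Coprime.gcd_eq_one (Nat.Coprime.pow_right _ (by norm_num)), Nat.dvd_one,
      orderOf_eq_one_iff] at h3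
    exact h3)
  rw [hK] at hmod
  have hj : j ≤ 18 := by
    by_contra hgt
    have := (pow_dvd_pow 2 (show 19 ≤ j by omega)).trans
      (hK ▸ card_co2Grp ▸ Subgroup.card_subgroup_dvd_card K)
    norm_num at this
  have : ∀ i : Fin 19, 2 ^ i.val % 23 = 1 → i.val = 0 ∨ i.val = 11 := by decide +kernel
  exact this ⟨j, by omega⟩ hmod

theorem co2_normal_case2 (N : Subgroup co2Grp) [N.Normal] (hne : N ≠ ⊥) (h23 : ¬ 23 ∣ Nat.card N) :
    False := by
  have : Fact (Nat.Prime 23) := ⟨by norm_num⟩
  have h2grp : ∀ q, q.Prime → q ∣ Nat.card N → q = 2 := by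
    intro q hq hqN
    by_contra hq2
    have : Fact q.Prime := ⟨hq⟩
    obtain ⟨Q⟩ : Nonempty (Sylow q N) := inferInstance
    set Q' := (Q : Subgroup N).map N.subtype with hQ'
    set H := Subgroup.normalizer (Q' : Set co2Grp) with hH
    have hidx : N.index ∣ Nat.card H := card_dvd_normalizer_mul H N (Sylow.normalizer_sup_eq_top Q)
    have h23H : 23 ∣ Nat.card H := by
      refine dvd_trans ?_ hidx
      have h : 23 ∣ Nat.card N * N.index := by
        rw [Subgroup.card_mul_index, card_co2Grp]; norm_num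
      exact ((Nat.Prime.dvd_mul (by norm_num)).1 h).resolve_left h23
    obtain ⟨x, hx⟩ := exists_prime_orderOf_dvd_card' (G := H) 23 h23H
    have hxo : orderOf (x : co2Grp) = 23 := by rw [Subgroup.orderOf_coe, hx]
    set a := (Nat.card N).factorization q with ha
    have hQc : Nat.card Q' = q ^ a := by
      rw [hQ', Subgroup.card_map_of_injective N.subtype_injective, Sylow.card_eq_multiplicity]
    have hmod := card_mod_of_free (p := 23) (x : co2Grp) (hxo ▸ pow_orderOf_eq_one _) Q'
      (fun k hk => (Subgroup.mem_normalizer_iff.1 x.2 k).1 hk) (fun k hk h => by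
        have h1 : orderOf k ∣ 23 := orderOf_dvd_of_pow_eq_one (co2_cent23 hxo h.symm)
        have h2 : orderOf k ∣ q ^ a := by
          rw [← hQc]
          have := orderOf_dvd_natCard (⟨k, hk⟩ : Q')
          rwa [← Subgroup.orderOf_coe] at this
        rcases (Nat.dvd_prime (by norm_num)).1 h1 with e | e
        · exact orderOf_eq_one_iff.1 e
        · rw [e] at h2
          have := (Nat.prime_dvd_prime_iff_eq (by norm_num) hq).1
            ((by norm_num : Nat.Prime 23).dvd_of_dvd_pow h2)
          exact absurd (this ▸ hqN) h23)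
    rw [hQc] at hmod
    have ha1 : 1 ≤ a := (Nat.Prime.dvd_iff_one_le_factorization hq Nat.card_pos.ne').1 hqN
    have hdvd : q ^ a ∣ 42305421312000 :=
      card_co2Grp ▸ hQc ▸ Subgroup.card_subgroup_dvd_card Q'
    rcases co2_primes hq ((hqN).trans (Subgroup.card_subgroup_dvd_card N)) with e | e | e | e | e | e <;>
      subst e
    · exact hq2 rfl
    · have : a ≤ 6 := by
        by_contra hgt
        have := (pow_dvd_pow 3 (show 7 ≤ a by omega)).trans hdvd
        norm_num at this
      interval_cases a <;> norm_num at hmod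
    · have : a ≤ 3 := by
        by_contra hgt
        have := (pow_dvd_pow 5 (show 4 ≤ a by omega)).trans hdvd
        norm_num at this
      interval_cases a <;> norm_num at hmod
    · have : a ≤ 1 := by
        by_contra hgt
        have := (pow_dvd_pow 7 (show 2 ≤ a by omega)).trans hdvd
        norm_num at this
      interval_cases a <;> norm_num at hmod
    · have : a ≤ 1 := by
        by_contra hgt
        have := (pow_dvd_pow 11 (show 2 ≤ a by omega)).trans hdvd
        norm_num at this
      interval_cases a <;> norm_num at hmod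
    · exact h23 hqN
  obtain ⟨x, hx⟩ := exists_prime_orderOf_dvd_card' (G := co2Grp) 23 (by rw [card_co2Grp]; norm_num)
  have hNc : Nat.card N = 2 ^ (Nat.card N).primeFactorsList.length :=
    Nat.eq_prime_pow_of_unique_prime_dvd Nat.card_pos.ne' fun hd hdvd => h2grp _ hd hdvd
  set j := (Nat.card N).primeFactorsList.length
  have hj : j = 11 := by
    refine (co2_pow_two hx hNc fun k hk => Subgroup.Normal.conj_mem inferInstance k hk x).resolve_left
      fun e => hne ?_
    rw [e, pow_zero] at hNc
    exact Subgroup.card_eq_one.1 hNc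
  rw [hj] at hNc
  have : Fact (Nat.Prime 2) := ⟨Nat.prime_two⟩
  have hNp : IsPGroup 2 N := IsPGroup.of_card hNc
  -- `N` is abelian
  have hab : ∀ a ∈ N, ∀ b ∈ N, a * b = b * a := by
    set Z := (Subgroup.center N).map N.subtype with hZ
    have hntN : Nontrivial N := (Subgroup.nontrivial_iff_ne_bot N).2 hne
    have hnt : Nontrivial (Subgroup.center N) := hNp.center_nontrivial
    obtain ⟨i, -, hi⟩ := (Nat.dvd_prime_pow Nat.prime_two).1
      (hNc ▸ Subgroup.card_subgroup_dvd_card (Subgroup.center N))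
    have hZc : Nat.card Z = 2 ^ i := by
      rw [hZ, Subgroup.card_map_of_injective N.subtype_injective, hi]
    have hZn : Z.Normal := inferInstance
    have hi11 : i = 11 := by
      refine (co2_pow_two hx hZc fun k hk => hZn.conj_mem k hk x).resolve_left fun e => ?_
      rw [e, pow_zero] at hi
      exact absurd (Finite.one_lt_card_iff_nontrivial.2 hnt) (by omega)
    have htop : Subgroup.center N = ⊤ := Subgroup.eq_top_of_card_eq _ (by rw [hi, hi11, hNc])
    intro a ha b hb
    have : (⟨a, ha⟩ : N) ∈ Subgroup.center N := by rw [htop]; trivial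
    exact congrArg Subtype.val ((Subgroup.mem_center_iff.1 this ⟨b, hb⟩).symm)
  -- an element of `N` commuting with the sign changes
  obtain ⟨n, hn, hn1, hcen⟩ : ∃ n ∈ N, n ≠ 1 ∧ ∀ e ∈ co2Signs, n * e = e * n := by
    let _ : MulAction co2Signs N :=
      MulAction.compHom N ((MulAut.conjNormal (H := N)).comp co2Signs.subtype)
    have hE : IsPGroup 2 co2Signs := fun e => ⟨1, Subtype.ext (by
      rw [SubmonoidClass.coe_pow, pow_one, pow_two]; exact co2Signs_sq e e.2)⟩
    have h1mem : (1 : N) ∈ fixedPoints co2Signs N := fun e => by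
      show MulAut.conjNormal (e : co2Grp) (1 : N) = 1
      rw [map_one]
    obtain ⟨b, hb, hb1⟩ := hE.exists_fixed_point_of_prime_dvd_card_of_fixed_point N
      (by rw [hNc]; norm_num) h1mem
    refine ⟨b, b.2, fun e => hb1 (Subtype.ext e.symm), fun e he => ?_⟩
    have h : MulAut.conjNormal e b = b := hb ⟨e, he⟩
    have h' := congrArg Subtype.val h
    rw [MulAut.conjNormal_apply, mul_inv_eq_iff_eq_mul] at h'
    exact h'.symm
  -- so all sign changes lie in `N`
  have h11 : Fact (Nat.Prime 11) := ⟨by norm_num⟩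
  have hcardE : ∀ K ≤ co2Signs, (∀ k ∈ K, y11 * k * y11⁻¹ ∈ K) → Nat.card K = 1 ∨ Nat.card K = 1024 := by
    intro K hK hKd
    have hmod := card_mod_of_free (p := 11) y11 y11_pow K hKd (fun k hk h => y11_free k (hK hk) h)
    have hKp : IsPGroup 2 K := fun e => ⟨1, Subtype.ext (by
      rw [SubmonoidClass.coe_pow, pow_one, pow_two]; exact co2Signs_sq e (hK e.2))⟩
    obtain ⟨i, hi⟩ := hKp.exists_card_eq
    have hle : Nat.card K ≤ 4096 := by
      have hC : Nat.card golayCode = 4096 := card_code
      rw [← hC]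
      have hw : ∀ k : K, ∃ c : golayCode, ((k : co2Grp) : Co0) = signElt c c.2 := fun k => by
        obtain ⟨c, hc, h⟩ := mem_co2Signs.1 (hK k.2)
        exact ⟨⟨c, hc⟩, h⟩
      choose f hf using hw
      refine Nat.card_le_card_of_injective f fun a b e => Subtype.ext (Subtype.ext ?_)
      rw [hf, hf, e]
    rw [hi] at hmod hle ⊢
    have hi12 : i ≤ 12 := (Nat.pow_le_pow_iff_right (le_refl 2)).1 hle
    interval_cases i <;> omega
  have hU : Nat.card ↥(N ⊓ co2Signs) = 1024 := by
    refine (hcardE _ inf_le_right fun k hk =>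
      ⟨Subgroup.Normal.conj_mem inferInstance k hk.1 y11, y11_conj_signs k hk.2⟩).resolve_left fun e => hn1 ?_
    rw [Subgroup.card_eq_one] at e
    exact Subgroup.mem_bot.1 (e ▸ ⟨hn, co2Signs_cent hcen⟩)
  have hEc : Nat.card co2Signs = 1024 := (hcardE _ le_rfl y11_conj_signs).resolve_left fun e => by
    have := Subgroup.card_le_of_le (inf_le_right : N ⊓ co2Signs ≤ co2Signs)
    omega
  have hEN : co2Signs ≤ N := by
    rw [← Subgroup.eq_of_le_of_card_ge (inf_le_right : N ⊓ co2Signs ≤ co2Signs) (by rw [hU, hEc])]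
    exact inf_le_left
  have hNE : N ≤ co2Signs := fun a ha => co2Signs_cent fun e he => hab a ha e (hEN he)
  have := Subgroup.card_le_of_le hNE
  omega

theorem co2Grp_simple : IsSimpleGroup co2Grp := by
  have : Nontrivial co2Grp := by
    refine Finite.one_lt_card_iff_nontrivial.1 ?_
    rw [card_co2Grp]; norm_num
  refine ⟨fun N hN => or_iff_not_imp_left.2 fun hne => ?_⟩
  by_cases h23 : 23 ∣ Nat.card N
  · exact co2_normal_case23 N h23
  · exact (co2_normal_case2 N hne h23).elim

theorem co2Grp_isCo2 : IsCo2 co2Grp := ⟨co2Grp_simple, card_co2Grp⟩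

theorem isCo2_stabilizer {v : leechLattice} (hv : sqNorm (v : GolayPt → ℤ) = 32) :
    IsCo2 (stabilizer Co0 v) := by
  obtain ⟨g, hg⟩ := co0_transitive v leechU 32 (Or.inl rfl) hv leechU_facts.1
  let e : stabilizer Co0 v ≃* co2Grp := stabilizerEquivStabilizer hg.symm
  have : IsSimpleGroup co2Grp := co2Grp_simple
  exact ⟨e.isSimpleGroup, (Nat.card_congr e.toEquiv).trans card_co2Grp⟩

end Cfsg.Agent.Leech
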