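/-
The lattice modulo twice itself: short representatives, kernel and invariant subgroups of the action.
-/
import Cfsg.Agent.Lib.Leech.Order

set_option autoImplicit false

namespace Cfsg.Agent.Leech

open Cfsg Finset

theorem short_norm_cases {y : GolayPt → ℤ} (hy : InL y) (h : sqNorm y ≤ 64) :
    y = 0 ∨ sqNorm y = 32 ∨ sqNorm y = 48 ∨ sqNorm y = 64 := by
  by_cases h0 : y = 0
  · exact Or.inl h0
  · have := sqNorm_ge_32 hy h0
    have := sixteen_dvd_sqNorm hy
    omega

/-- Every vector is congruent to one of norm 0, 32, 48 or 64. -/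
theorem decomp (v : leechLattice) : ∃ y u : leechLattice, v = y + (u + u) ∧
    (y = 0 ∨ sqNorm (y : GolayPt → ℤ) = 32 ∨ sqNorm (y : GolayPt → ℤ) = 48 ∨
      sqNorm (y : GolayPt → ℤ) = 64) := by
  obtain ⟨y, hy, hn, hc⟩ := classes_count.1 (clsV v)
  set y' : leechLattice := ⟨y, mem_leechLattice.2 hy⟩ with hy'
  obtain ⟨u, hu⟩ := clsV_eq_iff.1 (show clsV v = clsV y' from hc.symm)
  refine ⟨y', u, ?_, ?_⟩
  · rw [← hu]; abel
  · rcases short_norm_cases hy hn with h | h
    · exact Or.inl (Subtype.ext h)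
    · exact Or.inr h

theorem dot_eight_dvd (v w : leechLattice) :
    8 ∣ dotInt (v : GolayPt → ℤ) (w : GolayPt → ℤ) := by
  have hv := sixteen_dvd_sqNorm (mem_leechLattice.1 v.2)
  have hw := sixteen_dvd_sqNorm (mem_leechLattice.1 w.2)
  have hvw := sixteen_dvd_sqNorm (inL_add (mem_leechLattice.1 v.2) (mem_leechLattice.1 w.2))
  rw [sqNorm_add] at hvw
  omega

/-- `4 e_i + s e_j`. -/
def pairV (i j : GolayPt) (h : i ≠ j) (s : ℤ) (hs : s = 4 ∨ s = -4) : leechLattice :=
  ⟨Pi.single i 4 + Pi.single j s, mem_leechLattice.2 (inL_pair h hs).1⟩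

theorem pairV_norm {i j : GolayPt} (h : i ≠ j) {s : ℤ} (hs : s = 4 ∨ s = -4) :
    sqNorm (pairV i j h s hs : GolayPt → ℤ) = 32 :=
  (inL_pair h hs).2

theorem dot_pairV (v : GolayPt → ℤ) {i j : GolayPt} (h : i ≠ j) {s : ℤ} (hs : s = 4 ∨ s = -4) :
    dotInt v (pairV i j h s hs : GolayPt → ℤ) = 4 * v i + s * v j := by
  simp [dotInt, pairV, mul_add, sum_add_distrib, Pi.single_apply, mul_comm]

theorem pairV_self {i j : GolayPt} (h : i ≠ j) {s : ℤ} (hs : s = 4 ∨ s = -4) :
    (pairV i j h s hs : GolayPt → ℤ) i = 4 ∧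
      ∀ k, k ≠ i → k ≠ j → (pairV i j h s hs : GolayPt → ℤ) k = 0 := by
  simp +contextual [pairV, h]

theorem fix_of_dot {g : Co0}
    (hg : ∀ v : leechLattice, sqNorm (v : GolayPt → ℤ) = 32 → g • v = v ∨ g • v = -v)
    {v w : leechLattice} (hw : sqNorm (w : GolayPt → ℤ) = 32)
    (hd : dotInt (v : GolayPt → ℤ) (w : GolayPt → ℤ) ≠ 0) (h : g • v = v) : g • w = w := by
  refine (hg w hw).resolve_right fun e => hd ?_
  have := co0_dot g v w
  rw [h, e, AddSubgroup.coe_neg] at this
  simp only [dotInt, Pi.neg_apply, mul_neg, sum_neg_distrib] at this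
  simp only [dotInt]
  omega

/-- An element acting as `±1` on each minimal vector, fixing one of them, is trivial. -/
theorem eq_one_of_sign_fix {g : Co0}
    (hg : ∀ v : leechLattice, sqNorm (v : GolayPt → ℤ) = 32 → g • v = v ∨ g • v = -v)
    {r : leechLattice} (hr : sqNorm (r : GolayPt → ℤ) = 32) (hgr : g • r = r) : g = 1 := by
  have hd : ∀ {i j k : GolayPt} (hj : i ≠ j) {s} (hs : s = 4 ∨ s = -4) (hk : i ≠ k) {t}
      (ht : t = 4 ∨ t = -4), j ≠ k →
      dotInt (pairV i j hj s hs : GolayPt → ℤ) (pairV i k hk t ht : GolayPt → ℤ) ≠ 0 := by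
    intro i j k hj s hs hk t ht hjk
    rw [dot_pairV, (pairV_self hj hs).1, (pairV_self hj hs).2 k hk.symm hjk.symm]
    norm_num
  have hsame : ∀ {i j k : GolayPt} (hj : i ≠ j) {s} (hs : s = 4 ∨ s = -4) (hk : i ≠ k) {t}
      (ht : t = 4 ∨ t = -4), g • pairV i j hj s hs = pairV i j hj s hs →
      g • pairV i k hk t ht = pairV i k hk t ht := by
    intro i j k hj s hs hk t ht h
    by_cases hjk : j = k
    · obtain ⟨l, hl⟩ : (univ \ ({i, j} : Finset GolayPt)).Nonempty := by
        apply card_pos.1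
        rw [card_sdiff_of_subset (subset_univ _), card_univ, show Fintype.card GolayPt = 24 from rfl]
        have := card_le_two (a := i) (b := j)
        omega
      simp only [mem_sdiff, mem_univ, true_and, mem_insert, mem_singleton, not_or] at hl
      have h1 := fix_of_dot hg (pairV_norm (Ne.symm hl.1) (Or.inl rfl))
        (hd hj hs (Ne.symm hl.1) (Or.inl rfl) (Ne.symm hl.2)) h
      exact fix_of_dot hg (pairV_norm hk ht)
        (hd (Ne.symm hl.1) (Or.inl rfl) hk ht (hjk ▸ hl.2)) h1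
    · exact fix_of_dot hg (pairV_norm hk ht) (hd hj hs hk ht hjk) h
  have hflip : ∀ {i j : GolayPt} (h : i ≠ j), g • pairV i j h 4 (Or.inl rfl) = pairV i j h 4 (Or.inl rfl) →
      g • pairV j i h.symm 4 (Or.inl rfl) = pairV j i h.symm 4 (Or.inl rfl) := by
    intro i j h hp
    have : pairV j i h.symm 4 (Or.inl rfl) = pairV i j h 4 (Or.inl rfl) :=
      Subtype.ext (add_comm (Pi.single j (4 : ℤ) : GolayPt → ℤ) (Pi.single i 4))
    rw [this]; exact hp
  obtain ⟨i₀, hi₀⟩ : ∃ i, (r : GolayPt → ℤ) i ≠ 0 := by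
    by_contra h
    push Not at h
    simp [sqNorm, h] at hr
  have hpair : ∀ (w : leechLattice) (i : GolayPt), (w : GolayPt → ℤ) i ≠ 0 → ∀ j, (h : i ≠ j) →
      ∃ s, ∃ hs : s = 4 ∨ s = -4, dotInt (w : GolayPt → ℤ) (pairV i j h s hs : GolayPt → ℤ) ≠ 0 := by
    intro w i hi j h
    by_cases hp : dotInt (w : GolayPt → ℤ) (pairV i j h 4 (Or.inl rfl) : GolayPt → ℤ) = 0
    · refine ⟨-4, Or.inr rfl, ?_⟩
      rw [dot_pairV] at hp ⊢
      omega
    · exact ⟨4, Or.inl rfl, hp⟩
  obtain ⟨j₀, hj₀⟩ := exists_ne i₀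
  obtain ⟨s, hs, hsd⟩ := hpair r i₀ hi₀ j₀ hj₀.symm
  have hA : g • pairV i₀ j₀ hj₀.symm s hs = pairV i₀ j₀ hj₀.symm s hs :=
    fix_of_dot hg (pairV_norm _ hs) hsd hgr
  have hall : ∀ i j (h : i ≠ j) (t : ℤ) (ht : t = 4 ∨ t = -4),
      g • pairV i j h t ht = pairV i j h t ht := by
    intro i j h t ht
    by_cases hi : i = i₀
    · subst hi; exact hsame _ _ _ _ hA
    · exact hsame _ (Or.inl rfl) _ _ (hflip (Ne.symm hi) (hsame _ _ _ _ hA))
  refine co0_ext_min g 1 fun v hv => ?_
  rw [one_smul]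
  obtain ⟨i, hi⟩ : ∃ i, (v : GolayPt → ℤ) i ≠ 0 := by
    by_contra h
    push Not at h
    simp [sqNorm, h] at hv
  obtain ⟨j, hj⟩ := exists_ne i
  obtain ⟨t, ht, htd⟩ := hpair v i hi j hj.symm
  refine fix_of_dot hg hv ?_ (hall i j hj.symm t ht)
  simpa only [dotInt, mul_comm] using htd

/-- The kernel of the action on the lattice modulo twice itself is central. -/
theorem mem_center_of_trivial_mod_two (g : Co0) (h : ∀ v : leechLattice, ∃ w : leechLattice,
    ((g • v : leechLattice) : GolayPt → ℤ) - (v : GolayPt → ℤ) = 2 • (w : GolayPt → ℤ)) :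
    g ∈ Subgroup.center Co0 := by
  have hg : ∀ v : leechLattice, sqNorm (v : GolayPt → ℤ) = 32 → g • v = v ∨ g • v = -v := by
    intro v hv
    obtain ⟨w, hw⟩ := h v
    rcases congr_short (mem_leechLattice.1 v.2) (mem_leechLattice.1 w.2)
      (by rw [co0_norm, hv]; norm_num) (by rw [hv]; norm_num) hw with e | e | e
    · exact Or.inl (Subtype.ext e)
    · exact Or.inr (Subtype.ext e)
    · omega
  set r : leechLattice := pairV none (some 0) (Option.some_ne_none _).symm 4 (Or.inl rfl)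
  rcases hg r (pairV_norm _ _) with e | e
  · rw [eq_one_of_sign_fix hg (pairV_norm _ _) e]; exact one_mem _
  · have hg' : ∀ v : leechLattice, sqNorm (v : GolayPt → ℤ) = 32 →
        (negElt * g) • v = v ∨ (negElt * g) • v = -v := by
      intro v hv
      rw [mul_smul, negElt_smul]
      rcases hg v hv with e' | e' <;> rw [e']
      · exact Or.inr rfl
      · exact Or.inl (neg_neg v)
    have := eq_one_of_sign_fix hg' (r := r) (pairV_norm _ _)
      (by rw [mul_smul, negElt_smul, e, neg_neg])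
    rw [← inv_eq_of_mul_eq_one_right this]
    exact inv_mem negElt_mem_center

/-- Invariant subgroups between twice the lattice and the lattice. -/
theorem invariant_subgroup_cases (M : AddSubgroup (GolayPt → ℤ))
    (h2 : ∀ v ∈ leechLattice, (2 : ℤ) • v ∈ M) (hle : M ≤ leechLattice)
    (hinv : ∀ g : Co0, ∀ v : leechLattice, (v : GolayPt → ℤ) ∈ M →
      ((g • v : leechLattice) : GolayPt → ℤ) ∈ M) :
    (∀ x ∈ M, ∃ w ∈ leechLattice, x = (2 : ℤ) • w) ∨ M = leechLattice := by
  by_contra hcon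
  push Not at hcon
  obtain ⟨⟨x, hxM, hx⟩, hne⟩ := hcon
  obtain ⟨y, u, e, hy⟩ := decomp ⟨x, hle hxM⟩
  have e' : x = (y : GolayPt → ℤ) + (2 : ℤ) • (u : GolayPt → ℤ) := by
    rw [two_zsmul]; exact congrArg Subtype.val e
  have hyM : (y : GolayPt → ℤ) ∈ M := by
    have := M.sub_mem hxM (h2 _ u.2)
    rwa [e', add_sub_cancel_right] at this
  rcases hy with hy | hy
  · refine hx _ u.2 ?_
    rw [e', hy, AddSubgroup.coe_zero, zero_add]
  have shell : ∀ (N : ℤ), (N = 32 ∨ N = 48 ∨ N = 64) → sqNorm (y : GolayPt → ℤ) = N →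
      ∀ z : GolayPt → ℤ, InL z → sqNorm z = N → z ∈ M := by
    intro N hN hyN z hz hzN
    obtain ⟨g, hg⟩ := co0_transitive y ⟨z, mem_leechLattice.2 hz⟩ N hN hyN hzN
    have := hinv g y hyM
    rwa [hg] at this
  have h32 : ∀ z : GolayPt → ℤ, InL z → sqNorm z = 32 → z ∈ M := by
    rcases hy with hy | hy | hy
    · exact shell 32 (Or.inl rfl) hy
    · intro z hz hzn
      have hp := inL_pair (show (some 0 : GolayPt) ≠ some 5 by decide) (s := -4) (Or.inr rfl)
      have hb48 : InL base48 ∧ sqNorm base48 = 48 := by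
        refine ⟨⟨by decide +kernel, ?_, by decide +kernel⟩, by decide +kernel⟩
        rw [show hb base48 = 0 by decide +kernel]; exact zero_mem _
      have hA := shell 48 (Or.inr (Or.inl rfl)) hy _ hb48.1 hb48.2
      have hB := shell 48 (Or.inr (Or.inl rfl)) hy
        (base48 + (Pi.single (some 0) 4 + Pi.single (some 5) (-4))) (inL_add hb48.1 hp.1)
        (by decide +kernel)
      have hv := M.sub_mem hB hA
      rw [add_sub_cancel_left] at hv
      obtain ⟨g, hg⟩ := co0_transitive ⟨_, mem_leechLattice.2 hp.1⟩ ⟨z, mem_leechLattice.2 hz⟩ 32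
        (Or.inl rfl) hp.2 hzn
      have := hinv g ⟨_, mem_leechLattice.2 hp.1⟩ hv
      rwa [hg] at this
    · intro z hz hzn
      have hp := inL_pair (show (none : GolayPt) ≠ some 3 by decide) (s := -4) (Or.inr rfl)
      have hm := inL_pair (show (some 1 : GolayPt) ≠ some 2 by decide) (s := 4) (Or.inl rfl)
      have hA := shell 64 (Or.inr (Or.inr rfl)) hy _
        (inL_add (inL_pair (show (none : GolayPt) ≠ some 0 by decide) (s := 4) (Or.inl rfl)).1 hm.1)
        (by decide +kernel)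
      have hB := shell 64 (Or.inr (Or.inr rfl)) hy _
        (inL_add (inL_pair (show (some 3 : GolayPt) ≠ some 0 by decide) (s := 4) (Or.inl rfl)).1 hm.1)
        (by decide +kernel)
      have hv := M.sub_mem hA hB
      rw [add_sub_add_right_eq_sub] at hv
      have e2 : (Pi.single none 4 + Pi.single (some 0) 4 : GolayPt → ℤ) -
          (Pi.single (some 3) 4 + Pi.single (some 0) 4) = Pi.single none 4 + Pi.single (some 3) (-4) := by
        rw [add_sub_add_right_eq_sub, sub_eq_add_neg, Pi.single_neg]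
      rw [e2] at hv
      obtain ⟨g, hg⟩ := co0_transitive ⟨_, mem_leechLattice.2 hp.1⟩ ⟨z, mem_leechLattice.2 hz⟩ 32
        (Or.inl rfl) hp.2 hzn
      have := hinv g ⟨_, mem_leechLattice.2 hp.1⟩ hv
      rwa [hg] at this
  refine hne (le_antisymm hle ?_)
  rw [leechLattice_eq, ← minSpan_eq]
  exact (AddSubgroup.closure_le _).2 fun z hz => h32 z hz.1 hz.2

/-- The only nonzero invariant quadratic form modulo 2. -/
theorem quad_form_unique (Q : leechLattice → ZMod 2)
    (hcoset : ∀ v w : leechLattice, Q (v + (w + w)) = Q v)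
    (hquad : ∀ u v w : leechLattice,
      Q (u + v + w) + Q u + Q v + Q w = Q (u + v) + Q (u + w) + Q (v + w))
    (hinv : ∀ (g : Co0) (v : leechLattice), Q (g • v) = Q v) (hne : ∃ v : leechLattice, Q v ≠ 0)
    (v : leechLattice) :
    Q v = ((sqNorm (v : GolayPt → ℤ) / 16 : ℤ) : ZMod 2) := by
  have hsame : ∀ N, (N = 32 ∨ N = 48 ∨ N = 64) → ∀ a b : leechLattice,
      sqNorm (a : GolayPt → ℤ) = N → sqNorm (b : GolayPt → ℤ) = N → Q a = Q b := by
    intro N hN a b ha hb
    obtain ⟨g, rfl⟩ := co0_transitive a b N hN ha hb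
    exact (hinv g a).symm
  have h0 : Q 0 = 0 := by
    have := hquad 0 0 0
    simp only [add_zero] at this
    revert this
    generalize Q 0 = a
    revert a
    decide
  set u : leechLattice := ⟨oddVec, mem_leechLattice.2 inL_oddVec⟩ with hu
  set v₁ : leechLattice := -pairV (some 1) (some 2) (by decide) 4 (Or.inl rfl) with hv₁
  set v₂ : leechLattice := pairV none (some 1) (by decide) (-4) (Or.inr rfl) with hv₂
  set w : leechLattice := -pairV (some 3) (some 4) (by decide) 4 (Or.inl rfl) with hw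
  have nu : sqNorm (u : GolayPt → ℤ) = 32 := by decide +kernel
  have q32 : ∀ a : leechLattice, sqNorm (a : GolayPt → ℤ) = 32 → Q a = 0 := by
    intro a ha
    have h := hquad u v₁ w
    rw [hsame 32 (by simp) u a nu ha, hsame 32 (by simp) v₁ a (by decide +kernel) ha,
      hsame 32 (by simp) w a (by decide +kernel) ha,
      hsame 48 (by simp) (u + w) (u + v₁) (by decide +kernel) (by decide +kernel),
      hsame 64 (by simp) (v₁ + w) (u + v₁ + w) (by decide +kernel) (by decide +kernel)] at h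
    generalize Q (u + v₁ + w) = b at h
    generalize Q (u + v₁) = c at h
    generalize Q a = d at h ⊢
    revert b c d
    decide
  have q64 : ∀ a : leechLattice, sqNorm (a : GolayPt → ℤ) = 64 → Q a = 0 := by
    intro a ha
    have h := hquad u v₂ w
    rw [q32 u nu, q32 v₂ (by decide +kernel), q32 w (by decide +kernel),
      q32 (u + v₂) (by decide +kernel),
      hsame 48 (by simp) (u + v₂ + w) (u + w) (by decide +kernel) (by decide +kernel),
      hsame 64 (by simp) (v₂ + w) a (by decide +kernel) ha] at h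
    generalize Q (u + w) = b at h
    generalize Q a = d at h ⊢
    revert b d
    decide
  have q48 : ∀ a : leechLattice, sqNorm (a : GolayPt → ℤ) = 48 → Q a = 1 := by
    intro a ha
    obtain ⟨x, hx⟩ := hne
    obtain ⟨y, z, rfl, hy⟩ := decomp x
    rw [hcoset] at hx
    rcases hy with rfl | hy | hy | hy
    · exact absurd h0 hx
    · exact absurd (q32 y hy) hx
    · rw [hsame 48 (by simp) a y ha hy]
      exact zmod2_eq_one_of_ne hx
    · exact absurd (q64 y hy) hx
  obtain ⟨y, z, rfl, hy⟩ := decomp v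
  rw [hcoset]
  have hN : ((sqNorm ((y + (z + z) : leechLattice) : GolayPt → ℤ) / 16 : ℤ) : ZMod 2) =
      ((sqNorm (y : GolayPt → ℤ) / 16 : ℤ) : ZMod 2) := by
    have hd := dot_eight_dvd y z
    have hy16 := sixteen_dvd_sqNorm (mem_leechLattice.1 y.2)
    have hz16 := sixteen_dvd_sqNorm (mem_leechLattice.1 z.2)
    have e : sqNorm ((y + (z + z) : leechLattice) : GolayPt → ℤ) =
        sqNorm (y : GolayPt → ℤ) + 4 * dotInt (y : GolayPt → ℤ) (z : GolayPt → ℤ) +
          4 * sqNorm (z : GolayPt → ℤ) := by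
      simp only [AddSubgroup.coe_add, sqNorm, dotInt, Pi.add_apply, mul_sum, ← sum_add_distrib]
      exact sum_congr rfl fun i _ => by ring
    rw [e, ZMod.intCast_eq_intCast_iff', Nat.cast_ofNat]
    omega
  rw [hN]
  rcases hy with rfl | hy | hy | hy
  · rw [h0, AddSubgroup.coe_zero]; simp [sqNorm]
  · rw [q32 y hy, hy]; decide
  · rw [q48 y hy, hy]; decide
  · rw [q64 y hy, hy]; decide

end Cfsg.Agent.Leech
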