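import Cfsg.Agent.Lib.Leech.U43Checks
import Cfsg.Agent.Lib.Leech.McLGroup
import Cfsg.Agent.Lib.HallJanko.HomBuilder
import Cfsg.Agent.Lib.ClassicalSimple.UnitaryMatrix
import Cfsg.Agent.Lib.Forms.HermCenter
import Cfsg.Agent.Lib.Transpos.SUThreeTwo

/-!
# The stabiliser of a point of the McLaughlin configuration is `PSU(4, 3)`

Five lattice automorphisms and five unitary matrices induce the same permutations of 112 objects: the near
suborbit on one side, the totally isotropic lines on the other.  Both groups have order 3265920, and so does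
the permutation group.
-/

set_option autoImplicit false
set_option maxRecDepth 20000

namespace Cfsg.Agent.Leech.U43

open Cfsg Matrix MulAction

/-! ## The permutation group -/

/-- Permutation number `g`. -/
noncomputable def gPerm (g : Fin 5) : Equiv.Perm (Fin 112) :=
  Equiv.ofBijective (fun i => ⟨ptN g i, (gen_lines g i).1⟩)
    (Finite.injective_iff_bijective.1 fun i j h => perm_injective g i j (congrArg Fin.val h))

theorem gPerm_val (g : Fin 5) (i : Fin 112) : (gPerm g i : ℕ) = ptN g i := rfl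

theorem gPerm_ofNat (g : Fin 5) (i : Fin 112) : Fin.ofNat 112 (ptN g i) = gPerm g i :=
  Fin.ext (Nat.mod_eq_of_lt (gen_lines g i).1)

/-- The group of the five permutations. -/
noncomputable def P112 : Subgroup (Equiv.Perm (Fin 112)) := Subgroup.closure (Set.range gPerm)

theorem word_mem : ∀ (w : List ℕ), (∀ k ∈ w, k < 5) →
    ∃ π ∈ P112, ∀ i : Fin 112, (π i : ℕ) = pwN w i
  | [], _ => ⟨1, one_mem _, fun _ => rfl⟩
  | k :: w, h => by
    obtain ⟨π, hπ, e⟩ := word_mem w fun a ha => h a (List.mem_cons_of_mem _ ha)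
    refine ⟨gPerm ⟨k, h k List.mem_cons_self⟩ * π,
      mul_mem (Subgroup.subset_closure ⟨_, rfl⟩) hπ, fun i => ?_⟩
    rw [Equiv.Perm.mul_apply, gPerm_val]
    show ptN k (π i) = ptN k (pwN w i)
    rw [e i]

theorem level_step (H : Subgroup (Equiv.Perm (Fin 112))) {cert : List (ℕ × List ℕ)} {fix : List ℕ}
    {root : Fin 112} (h : levelOK cert fix root = true)
    (hH : ∀ π ∈ P112, (∀ f ∈ fix, ∀ i : Fin 112, (i : ℕ) = f → π i = i) → π ∈ H) :
    cert.length * Nat.card (H ⊓ stabilizer (Equiv.Perm (Fin 112)) root : Subgroup (Equiv.Perm (Fin 112))) ≤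
      Nat.card H := by
  simp only [levelOK, Bool.and_eq_true, decide_eq_true_eq, List.all_eq_true] at h
  obtain ⟨hnd, hall⟩ := h
  have hO : ((cert.map fun e => Fin.ofNat 112 e.1).toFinset).card = cert.length := by
    rw [List.toFinset_card_of_nodup, List.length_map]
    refine List.Nodup.of_map (Fin.val) ?_
    rw [List.map_map]
    convert hnd using 1
    exact List.map_congr_left fun e he => Nat.mod_eq_of_lt (hall e he).1.1.2
  rw [← hO]
  refine HJ.card_ge_orbit_chain H root _ fun x hx => ?_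
  obtain ⟨e, he, rfl⟩ := List.mem_map.1 (List.mem_toFinset.1 hx)
  obtain ⟨⟨⟨hlt, hb⟩, hr⟩, hf⟩ := hall e he
  obtain ⟨π, hπ, hval⟩ := word_mem e.2 hlt
  refine ⟨π, hH π hπ fun f hf' i hi => Fin.ext ?_, Fin.ext ?_⟩
  · rw [hval, hi]; exact hf f hf'
  · rw [hval, hr]; exact (Nat.mod_eq_of_lt hb).symm

theorem card_P112_ge : 3265920 ≤ Nat.card P112 := by
  have h := chain_ok
  simp only [Bool.and_eq_true] at h
  obtain ⟨⟨⟨h0, h1⟩, h2⟩, h3⟩ := h
  obtain ⟨l0, l1, l2, l3⟩ := chain_lengths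
  set H0 := P112
  set H1 := H0 ⊓ stabilizer (Equiv.Perm (Fin 112)) (0 : Fin 112)
  set H2 := H1 ⊓ stabilizer (Equiv.Perm (Fin 112)) (4 : Fin 112)
  set H3 := H2 ⊓ stabilizer (Equiv.Perm (Fin 112)) (5 : Fin 112)
  have a0 := level_step H0 (root := (0 : Fin 112)) h0 fun π hπ _ => hπ
  have a1 := level_step H1 (root := (4 : Fin 112)) h1 fun π hπ hf =>
    ⟨hπ, hf 0 (by simp) 0 rfl⟩
  have a2 := level_step H2 (root := (5 : Fin 112)) h2 fun π hπ hf =>
    ⟨⟨hπ, hf 0 (by simp) 0 rfl⟩, hf 4 (by simp) 4 rfl⟩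
  have a3 := level_step H3 (root := (7 : Fin 112)) h3 fun π hπ hf =>
    ⟨⟨⟨hπ, hf 0 (by simp) 0 rfl⟩, hf 4 (by simp) 4 rfl⟩, hf 5 (by simp) 5 rfl⟩
  rw [l0] at a0
  rw [l1] at a1
  rw [l2] at a2
  rw [l3] at a3
  have : 1 ≤ Nat.card (H3 ⊓ stabilizer (Equiv.Perm (Fin 112)) (7 : Fin 112) :
      Subgroup (Equiv.Perm (Fin 112))) := Nat.card_pos
  calc 3265920 = 112 * (81 * (30 * (12 * 1))) := by norm_num
    _ ≤ 112 * (81 * (30 * Nat.card H3)) := by
        refine Nat.mul_le_mul_left _ (Nat.mul_le_mul_left _ (Nat.mul_le_mul_left _ ?_))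
        exact (Nat.mul_le_mul_left 12 this).trans a3
    _ ≤ 112 * (81 * Nat.card H2) := Nat.mul_le_mul_left _ (Nat.mul_le_mul_left _ a2)
    _ ≤ 112 * Nat.card H1 := Nat.mul_le_mul_left _ a1
    _ ≤ _ := a0

/-! ## The unitary side -/

theorem onLine_iff {i : Fin 112} {x : Fin 4 → F9} :
    OnLine i x ↔ ∃ a b : F9, x = a • lineU i + b • lineV i := by
  refine ⟨fun h => ⟨_, _, funext h⟩, ?_⟩
  rintro ⟨a, b, rfl⟩ j
  obtain ⟨h1, h2, h3, h4⟩ := line_pivots i
  simp [h1, h2, h3, h4]

theorem onLine_U (i : Fin 112) : OnLine i (lineU i) := onLine_iff.2 ⟨1, 0, by simp⟩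

theorem onLine_V (i : Fin 112) : OnLine i (lineV i) := onLine_iff.2 ⟨0, 1, by simp⟩

/-- The five matrices as elements of the special unitary group. -/
def genSU (g : Fin 5) : SU 4 F9 3 :=
  ⟨⟨genMat g, (gen_unitary g).1⟩, fun u v => by
    have h := (gen_unitary g).2
    show ∑ k, (genMat g *ᵥ u) k * (genMat g *ᵥ v) k ^ 3 = ∑ k, u k * v k ^ 3
    have : ExpChar F9 3 := by
      haveI : CharP F9 3 := (CharP.charP_iff_prime_eq_zero Nat.prime_three).2 (by decide +kernel)
      exact ExpChar.prime Nat.prime_three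
    simp only [Matrix.mulVec, dotProduct, sum_pow_char 3, mul_pow, Finset.sum_mul, Finset.mul_sum]
    rw [Finset.sum_comm]
    refine Finset.sum_congr rfl fun i _ => ?_
    rw [Finset.sum_comm, Finset.sum_eq_single i]
    · calc ∑ k, genMat g k i * u i * (genMat g k i ^ 3 * v i ^ 3)
          = (∑ k, genMat g k i * genMat g k i ^ 3) * (u i * v i ^ 3) := by
            rw [Finset.sum_mul]; exact Finset.sum_congr rfl fun k _ => by ring
        _ = u i * v i ^ 3 := by rw [h i i, if_pos rfl, one_mul]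
    · intro j _ hj
      calc ∑ k, genMat g k j * u j * (genMat g k i ^ 3 * v i ^ 3)
          = (∑ k, genMat g k j * genMat g k i ^ 3) * (u j * v i ^ 3) := by
            rw [Finset.sum_mul]; exact Finset.sum_congr rfl fun k _ => by ring
        _ = 0 := by rw [h j i, if_neg hj, zero_mul]
    · simp⟩

/-- The matrix of an element. -/
def mat (A : SU 4 F9 3) : Matrix (Fin 4) (Fin 4) F9 := (A : Matrix.SpecialLinearGroup (Fin 4) F9).1

/-- `A` moves the lines as `π` does. -/
def Rel (p : SU 4 F9 3 × Equiv.Perm (Fin 112)) : Prop :=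
  ∀ i x, OnLine i x → OnLine (p.2 i) (mat p.1 *ᵥ x)

/-- The pairs. -/
noncomputable def T : Subgroup (SU 4 F9 3 × Equiv.Perm (Fin 112)) :=
  Subgroup.closure (Set.range fun g => (genSU g, gPerm g))

instance finiteSU : Finite (SU 4 F9 3) := inferInstance

theorem rel_of_mem {p : SU 4 F9 3 × Equiv.Perm (Fin 112)} (hp : p ∈ T) : Rel p := by
  have hp' : p ∈ Submonoid.closure (Set.range fun g => (genSU g, gPerm g)) := by
    rw [← Subgroup.closure_toSubmonoid_of_finite]; exact hp
  clear hp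
  induction hp' using Submonoid.closure_induction with
  | mem q hq =>
    obtain ⟨g, rfl⟩ := hq
    intro i x hx
    obtain ⟨a, b, rfl⟩ := onLine_iff.1 hx
    show OnLine (gPerm g i) (genMat g *ᵥ (a • lineU i + b • lineV i))
    obtain ⟨-, hu, hv⟩ := gen_lines g i
    rw [gPerm_ofNat] at hu hv
    obtain ⟨a₁, b₁, e₁⟩ := onLine_iff.1 hu
    obtain ⟨a₂, b₂, e₂⟩ := onLine_iff.1 hv
    refine onLine_iff.2 ⟨a * a₁ + b * a₂, a * b₁ + b * b₂, ?_⟩
    rw [Matrix.mulVec_add, Matrix.mulVec_smul, Matrix.mulVec_smul, e₁, e₂]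
    ext j
    simp only [Pi.add_apply, Pi.smul_apply, smul_eq_mul]
    ring
  | one =>
    intro i x hx
    show OnLine i ((1 : Matrix (Fin 4) (Fin 4) F9) *ᵥ x)
    rwa [Matrix.one_mulVec]
  | mul q r _ _ hq hr =>
    intro i x hx
    show OnLine ((q.2 * r.2) i) ((mat q.1 * mat r.1) *ᵥ x)
    rw [← Matrix.mulVec_mulVec, Equiv.Perm.mul_apply]
    exact hq _ _ (hr i x hx)

theorem center_scalar {z : SU 4 F9 3} (hz : z ∈ Subgroup.center (SU 4 F9 3)) :
    ∃ c : F9, c ≠ 0 ∧ mat z = c • 1 := by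
  have hF : Fintype.card F9 = 3 ^ 2 := card_F9
  refine ⟨mat z 0 0, fun h0 => ?_, ?_⟩
  · have hd : (mat z).det = 1 := (z : Matrix.SpecialLinearGroup (Fin 4) F9).2
    rw [Matrix.det_eq_zero_of_row_eq_zero 0] at hd
    · exact zero_ne_one hd
    · intro j
      by_cases h : (0 : Fin 4) = j
      · rw [← h]; exact h0
      · exact (Forms.center_SU_diagonal hF z hz 0 j h).1
  · ext r s
    by_cases h : r = s
    · subst h
      rw [Matrix.smul_apply, Matrix.one_apply_eq, smul_eq_mul, mul_one]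
      by_cases h0 : r = 0
      · rw [h0]
      · exact (Forms.center_SU_diagonal hF z hz r 0 h0).2
    · rw [Matrix.smul_apply, Matrix.one_apply_ne h, smul_zero]
      exact (Forms.center_SU_diagonal hF z hz r s h).1

theorem central_fixes {p : SU 4 F9 3 × Equiv.Perm (Fin 112)} (hp : p ∈ T)
    (hc : p.1 ∈ Subgroup.center (SU 4 F9 3)) : p.2 = 1 := by
  obtain ⟨c, hc0, hs⟩ := center_scalar hc
  refine Equiv.ext fun i => ?_
  have hr := rel_of_mem hp
  have back : ∀ x, OnLine i x → OnLine (p.2 i) x := fun x hx => by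
    have := hr i x hx
    rw [hs] at this
    obtain ⟨a, b, e⟩ := onLine_iff.1 this
    refine onLine_iff.2 ⟨c⁻¹ * a, c⁻¹ * b, ?_⟩
    rw [Matrix.smul_mulVec, Matrix.one_mulVec] at e
    rw [mul_smul, mul_smul, ← smul_add, ← e, inv_smul_smul₀ hc0]
  exact (lines_distinct i (p.2 i) (back _ (onLine_U i)) (back _ (onLine_V i))).symm

theorem card_PSU43 : Nat.card (PSU 4 F9 3) = 3265920 := by
  have hF : Fintype.card F9 = 3 ^ 2 := card_F9
  have h := Forms.card_PSU_mul hF (n := 4) (by norm_num)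
  rw [Forms.card_GU hF 4] at h
  simp [Finset.prod_range_succ, Nat.even_iff] at h
  omega

theorem exists_psu : Nonempty (P112 ≃* PSU 4 F9 3) := by
  have hF : Fintype.card F9 = 3 ^ 2 := card_F9
  let p1 : T →* PSU 4 F9 3 :=
    (QuotientGroup.mk' (Subgroup.center (SU 4 F9 3))).comp ((MonoidHom.fst _ _).comp T.subtype)
  let p2 : T →* Equiv.Perm (Fin 112) := (MonoidHom.snd _ _).comp T.subtype
  have hle : p1.ker ≤ p2.ker := fun t ht => by
    rw [MonoidHom.mem_ker] at ht ⊢
    exact central_fixes t.2 ((QuotientGroup.eq_one_iff _).1 ht)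
  have hr : p2.range = P112 := by
    show ((MonoidHom.snd _ _).comp T.subtype).range = _
    rw [MonoidHom.range_comp, Subgroup.range_subtype, T, MonoidHom.map_closure, ← Set.range_comp]
    rfl
  have c2 : p2.ker.index = Nat.card P112 := by rw [Subgroup.index_ker, hr]
  have hd : p2.ker.index ∣ p1.ker.index := Subgroup.index_dvd_of_le hle
  have hle1 : p1.ker.index ≤ 3265920 := by
    rw [Subgroup.index_ker, ← card_PSU43]; exact Subgroup.card_le_card_group _
  have hpos : p1.ker.index ≠ 0 := Subgroup.index_ne_zero_of_finite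
  have e : p1.ker.index = p2.ker.index := by
    have h1 := Nat.le_of_dvd (Nat.pos_of_ne_zero hpos) hd
    have h2 := card_P112_ge
    omega
  have hk : p1.ker = p2.ker := by
    refine le_antisymm hle fun x hx => ?_
    have h1 := Subgroup.relIndex_mul_index hle
    rw [e] at h1
    have : p1.ker.relIndex p2.ker = 1 :=
      Nat.eq_of_mul_eq_mul_right (Nat.pos_of_ne_zero (e ▸ hpos)) (h1.trans (one_mul _).symm)
    exact Subgroup.relIndex_eq_one.1 this hx
  have hsurj : Function.Surjective p1 := by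
    rw [← MonoidHom.range_eq_top]
    refine Subgroup.eq_top_of_card_eq _ ?_
    rw [← Subgroup.index_ker, e, card_PSU43]
    have := card_P112_ge
    omega
  exact ⟨((MulEquiv.subgroupCongr hr.symm).trans (QuotientGroup.quotientKerEquivRange p2).symm).trans
    ((QuotientGroup.quotientMulEquivOfEq hk.symm).trans (QuotientGroup.quotientKerEquivOfSurjective p1 hsurj))⟩

end Cfsg.Agent.Leech.U43
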