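/-
Orbit trees checked piece by piece.
-/
import Cfsg.Agent.Lib.Leech.OrbitEngine

set_option autoImplicit false

namespace Cfsg.Agent.Leech

/-- The stack left by the steps of a depth-first tree. -/
def stackAfter : List ℕ → List ℕ → List ℕ
  | stk, [] => stk
  | stk, s :: rest => stackAfter (stepVec s :: stk.drop (s / 16 % 1048576)) rest

theorem vecTreeOK_append {gens : List Gen} : ∀ (a b stk stk' : List ℕ),
    vecTreeOK gens stk a = true → stackAfter stk a = stk' → vecTreeOK gens stk' b = true →
      vecTreeOK gens stk (a ++ b) = true := by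
  intro a
  induction a with
  | nil => intro b stk stk' _ h hb; subst h; exact hb
  | cons s rest ih =>
    intro b stk stk' h hs hb
    unfold vecTreeOK at h
    rw [List.cons_append]
    unfold vecTreeOK
    rcases hd : stk.drop (s / 16 % 1048576) with _ | ⟨p, ps⟩
    · simp [hd] at h
    rcases hl : gens[s % 16]? with _ | g
    · simp [hd, hl] at h
    simp only [hd, hl, Bool.and_eq_true] at h ⊢
    refine ⟨h.1, ih b _ stk' h.2 ?_ hb⟩
    rw [stackAfter, hd] at hs
    exact hs

/-- The check of an orbit from its parts. -/
theorem orbitOK_of_parts {F : List ℕ} {gens : List Gen} {seed : ℕ} {steps : List ℕ} {n : ℕ}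
    (h1 : gens.all (fun a => a.ok && F.all fun Z => edgeOK a Z Z) = true)
    (h2 : vecTreeOK gens [seed] steps = true)
    (h3 : (steps.length + 1 == n) = true)
    (h4 : (seed :: steps.map stepVec).all (fun Y => decide (Y < 16 ^ 24)) = true)
    (h5 : Mathieu.insAllOK 96 (seed :: steps.map stepVec) .leaf = true) :
    orbitOK F gens seed steps n = true := by
  rw [orbitOK, h1, h2, h3, h4, h5]; rfl

end Cfsg.Agent.Leech
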