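/-
The five suborbits on the 11178 vectors.
-/
import Cfsg.Agent.Lib.Leech.ConfigsHS
import Cfsg.Agent.Lib.Leech.Orb.CoThree352Checks
import Cfsg.Agent.Lib.Leech.Orb.CoThree1100Checks
import Cfsg.Agent.Lib.Leech.Orb.CoThree4125Checks
import Cfsg.Agent.Lib.Leech.Orb.CoThree5600Checks

set_option autoImplicit false

namespace Cfsg.Agent.Leech

open Cfsg Finset Cfsg.Spor

/-- The members of the 11178 with a given dot product with a further vector. -/
def minus16At (u x : leechLattice) (d : ℤ) : Set leechLattice :=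
  {y | y ∈ minus16Set u ∧ dotInt (x : GolayPt → ℤ) (y : GolayPt → ℤ) = d}

theorem minus16At_smul {g : Co0} {u x y : leechLattice} {d : ℤ} :
    g • y ∈ minus16At (g • u) (g • x) d ↔ y ∈ minus16At u x d := by
  simp [minus16At, minus16Set_smul, co0_dot]

theorem minus16At_finite (u x : leechLattice) (d : ℤ) : (minus16At u x d).Finite :=
  (minus16Set_finite u).subset fun _ h => h.1

theorem baseX16_mem : leechU' ∈ minus16Set baseU := by
  exact ⟨by decide +kernel, by decide +kernel⟩

theorem inL_of_dig {X : ℕ}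
    (h : Mathieu.inCode ((List.range 24).foldr (fun i m => if dig X i / 2 % 2 = 1 then 2 ^ i + m else m) 0) = true)
    (hw : Mathieu.wordOf ((List.range 24).foldr (fun i m => if dig X i / 2 % 2 = 1 then 2 ^ i + m else m) 0)
      = hb (dec X))
    (h1 : ∀ i, dec X i % 2 = dec X none % 2) (h2 : (∑ i, dec X i) % 8 = 4 * dec X none % 8) :
    InL (dec X) :=
  inL_dec _ h hw h1 h2

/-- A certificate for a class gives transitivity on it when the class is not larger. -/
theorem class_of_cert {F : List ℕ} {gens : List Gen} {seed : ℕ} {steps : List ℕ} {n : ℕ} {d : ℤ}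
    (h : orbitOK F gens seed steps n = true) (hF : F = Orb.hsPointsF) (y₀ : leechLattice)
    (hy₀ : (y₀ : GolayPt → ℤ) = dec seed) (hm : y₀ ∈ minus16At baseU leechU' d) :
    n ≤ (minus16At baseU leechU' d).ncard ∧ ((minus16At baseU leechU' d).ncard ≤ n →
      ∀ y ∈ minus16At baseU leechU' d,
        ∃ g : Co0, g • baseU = baseU ∧ g • leechU' = leechU' ∧ g • y₀ = y) := by
  have hfix : ∀ g : Co0, FixesAll F g → g • baseU = baseU ∧ g • leechU' = leechU' := by
    intro g hg
    obtain ⟨a, b⟩ := fix_hs (hF ▸ hg)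
    refine ⟨a, ?_⟩
    simpa [baseY, co0_neg] using b
  have hsub : ∀ g : Co0, FixesAll F g → g • y₀ ∈ minus16At baseU leechU' d := by
    intro g hg
    obtain ⟨a, b⟩ := hfix g hg
    have := (minus16At_smul (g := g)).2 hm
    rwa [a, b] at this
  refine ⟨orbit_le h y₀ hy₀ _ (minus16At_finite _ _ _) hsub, fun hle y hy => ?_⟩
  obtain ⟨g, hg, e⟩ := (orbit_fills h y₀ hy₀ _ (minus16At_finite _ _ _) hle hsub).2 y hy
  exact ⟨g, (hfix g hg).1, (hfix g hg).2, e⟩

/-- What is known about one class. -/
def ClassTransitive (u x : leechLattice) (d : ℤ) (n : ℕ) : Prop :=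
  (minus16At u x d).ncard = n ∧ ∃ y₀ ∈ minus16At u x d, ∀ y ∈ minus16At u x d,
    ∃ g : Co0, g • u = u ∧ g • x = x ∧ g • y₀ = y

theorem coThree_base :
    ClassTransitive baseU leechU' (-8) 352 ∧ ClassTransitive baseU leechU' 16 1100 ∧
      ClassTransitive baseU leechU' 0 4125 ∧ ClassTransitive baseU leechU' 8 5600 ∧
      minus16Set baseU = {leechU'} ∪ minus16At baseU leechU' (-8) ∪ minus16At baseU leechU' 16 ∪
        minus16At baseU leechU' 0 ∪ minus16At baseU leechU' 8 := by
  classical
  obtain ⟨ya, hya, hma⟩ : ∃ y : leechLattice, (y : GolayPt → ℤ) = dec Orb.coThree352Seed ∧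
      y ∈ minus16At baseU leechU' (-8) :=
    ⟨⟨_, mem_leechLattice.2 (inL_of_dig (X := Orb.coThree352Seed) (by decide +kernel) (by decide +kernel)
        (by decide +kernel) (by decide +kernel))⟩, rfl,
      ⟨(by decide +kernel : sqNorm (dec Orb.coThree352Seed) = 32),
        (by decide +kernel : dotInt (baseU : GolayPt → ℤ) (dec Orb.coThree352Seed) = -16)⟩,
      (by decide +kernel : dotInt (leechU' : GolayPt → ℤ) (dec Orb.coThree352Seed) = -8)⟩
  obtain ⟨yb, hyb, hmb⟩ : ∃ y : leechLattice, (y : GolayPt → ℤ) = dec Orb.coThree1100Seed ∧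
      y ∈ minus16At baseU leechU' 16 :=
    ⟨⟨_, mem_leechLattice.2 (inL_of_dig (X := Orb.coThree1100Seed) (by decide +kernel) (by decide +kernel)
        (by decide +kernel) (by decide +kernel))⟩, rfl,
      ⟨(by decide +kernel : sqNorm (dec Orb.coThree1100Seed) = 32),
        (by decide +kernel : dotInt (baseU : GolayPt → ℤ) (dec Orb.coThree1100Seed) = -16)⟩,
      (by decide +kernel : dotInt (leechU' : GolayPt → ℤ) (dec Orb.coThree1100Seed) = 16)⟩
  obtain ⟨yc, hyc, hmc⟩ : ∃ y : leechLattice, (y : GolayPt → ℤ) = dec Orb.coThree4125Seed ∧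
      y ∈ minus16At baseU leechU' 0 :=
    ⟨⟨_, mem_leechLattice.2 (inL_of_dig (X := Orb.coThree4125Seed) (by decide +kernel) (by decide +kernel)
        (by decide +kernel) (by decide +kernel))⟩, rfl,
      ⟨(by decide +kernel : sqNorm (dec Orb.coThree4125Seed) = 32),
        (by decide +kernel : dotInt (baseU : GolayPt → ℤ) (dec Orb.coThree4125Seed) = -16)⟩,
      (by decide +kernel : dotInt (leechU' : GolayPt → ℤ) (dec Orb.coThree4125Seed) = 0)⟩
  obtain ⟨ye, hye, hme⟩ : ∃ y : leechLattice, (y : GolayPt → ℤ) = dec Orb.coThree5600Seed ∧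
      y ∈ minus16At baseU leechU' 8 :=
    ⟨⟨_, mem_leechLattice.2 (inL_of_dig (X := Orb.coThree5600Seed) (by decide +kernel) (by decide +kernel)
        (by decide +kernel) (by decide +kernel))⟩, rfl,
      ⟨(by decide +kernel : sqNorm (dec Orb.coThree5600Seed) = 32),
        (by decide +kernel : dotInt (baseU : GolayPt → ℤ) (dec Orb.coThree5600Seed) = -16)⟩,
      (by decide +kernel : dotInt (leechU' : GolayPt → ℤ) (dec Orb.coThree5600Seed) = 8)⟩
  have ca := class_of_cert Orb.coThree352_ok (by decide +kernel) ya hya hma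
  have cb := class_of_cert Orb.coThree1100_ok (by decide +kernel) yb hyb hmb
  have cc := class_of_cert Orb.coThree4125_ok (by decide +kernel) yc hyc hmc
  have ce := class_of_cert Orb.coThree5600_ok (by decide +kernel) ye hye hme
  have hself : dotInt (leechU' : GolayPt → ℤ) (leechU' : GolayPt → ℤ) = 32 := by decide +kernel
  set T := {leechU'} ∪ minus16At baseU leechU' (-8) ∪ minus16At baseU leechU' 16 ∪
        minus16At baseU leechU' 0 ∪ minus16At baseU leechU' 8 with hT
  have hsub : T ⊆ minus16Set baseU := by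
    rintro y ((((h | h) | h) | h) | h)
    · rw [Set.mem_singleton_iff.1 h]; exact baseX16_mem
    all_goals exact h.1
  have hf := fun d => minus16At_finite baseU leechU' d
  have hdd : ∀ d d', d ≠ d' → Disjoint (minus16At baseU leechU' d) (minus16At baseU leechU' d') :=
    fun d d' hne => Set.disjoint_left.2 fun y p q => hne (p.2.symm.trans q.2)
  have hd1 : ∀ d, d ≠ 32 → leechU' ∉ minus16At baseU leechU' d :=
    fun d hne h => hne (h.2.symm.trans hself)
  have hcard : T.ncard = 1 + (minus16At baseU leechU' (-8)).ncard + (minus16At baseU leechU' 16).ncard +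
      (minus16At baseU leechU' 0).ncard + (minus16At baseU leechU' 8).ncard := by
    rw [hT, Set.ncard_union_eq ?_ ((((Set.finite_singleton _).union (hf _)).union (hf _)).union (hf _)) (hf _),
      Set.ncard_union_eq ?_ (((Set.finite_singleton _).union (hf _)).union (hf _)) (hf _),
      Set.ncard_union_eq ?_ ((Set.finite_singleton _).union (hf _)) (hf _),
      Set.ncard_union_eq ?_ (Set.finite_singleton _) (hf _), Set.ncard_singleton]
    all_goals simp [Set.disjoint_union_left, hdd, hd1]
  have hle := Set.ncard_le_ncard hsub (minus16Set_finite _)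
  rw [hcard, ncard_minus16Set baseU_norm] at hle
  refine ⟨⟨by omega, ya, hma, ca.2 (by omega)⟩, ⟨by omega, yb, hmb, cb.2 (by omega)⟩,
    ⟨by omega, yc, hmc, cc.2 (by omega)⟩, ⟨by omega, ye, hme, ce.2 (by omega)⟩, ?_⟩
  refine (Set.eq_of_subset_of_ncard_le hsub ?_ (minus16Set_finite _)).symm
  rw [hcard, ncard_minus16Set baseU_norm]
  omega

/-- The subdegrees of the stabiliser of a member. -/
theorem coThree_suborbits {u x : leechLattice} (hu : sqNorm (u : GolayPt → ℤ) = 48)
    (hx : x ∈ minus16Set u) :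
    ∀ d n, ClassTransitive baseU leechU' d n → ∃ y ∈ minus16At u x d,
      MulAction.orbit ↥(MulAction.stabilizer Co0 u ⊓ MulAction.stabilizer Co0 x) y = minus16At u x d ∧
        (minus16At u x d).ncard = n := by
  intro d n ⟨hn, y₀, hy₀, htr⟩
  obtain ⟨a, a1, a2⟩ := minus16_normal hu hx
  have hm : ∀ y, a • y ∈ minus16At baseU leechU' d ↔ y ∈ minus16At u x d := fun y => by
    rw [← a1, ← a2]; exact minus16At_smul
  refine ⟨a⁻¹ • y₀, (hm _).1 (by rwa [smul_inv_smul]), ?_, ?_⟩
  · refine Set.Subset.antisymm ?_ fun y hy => ?_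
    · rintro _ ⟨⟨g, hg⟩, rfl⟩
      rw [Subgroup.mem_inf, MulAction.mem_stabilizer_iff, MulAction.mem_stabilizer_iff] at hg
      have h0 : a⁻¹ • y₀ ∈ minus16At u x d := (hm _).1 (by rwa [smul_inv_smul])
      have := (minus16At_smul (g := g)).2 h0
      rw [hg.1, hg.2] at this
      exact this
    · obtain ⟨g, g1, g2, g3⟩ := htr (a • y) ((hm y).2 hy)
      refine ⟨⟨a⁻¹ * g * a, Subgroup.mem_inf.2 ⟨?_, ?_⟩⟩, ?_⟩
      · rw [MulAction.mem_stabilizer_iff, mul_smul, mul_smul, inv_smul_eq_iff, a1, g1]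
      · rw [MulAction.mem_stabilizer_iff, mul_smul, mul_smul, inv_smul_eq_iff, a2, g2]
      · show (a⁻¹ * g * a) • a⁻¹ • y₀ = y
        rw [mul_smul, mul_smul, smul_inv_smul, g3, inv_smul_smul]
  · rw [← hn, ← ncard_preimage_smul a (minus16At baseU leechU' d)]
    exact congrArg Set.ncard (Set.ext fun y => (hm y).symm)

theorem coThree_cover {u x : leechLattice} (hu : sqNorm (u : GolayPt → ℤ) = 48)
    (hx : x ∈ minus16Set u) : minus16Set u = {x} ∪ minus16At u x (-8) ∪ minus16At u x 16 ∪
      minus16At u x 0 ∪ minus16At u x 8 := by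
  obtain ⟨a, a1, a2⟩ := minus16_normal hu hx
  ext y
  have hy : a • y ∈ minus16Set baseU ↔ y ∈ minus16Set u := by rw [← a1]; exact minus16Set_smul
  have hm : ∀ d, a • y ∈ minus16At baseU leechU' d ↔ y ∈ minus16At u x d := fun d => by
    rw [← a1, ← a2]; exact minus16At_smul
  have he : a • y = leechU' ↔ y = x := by rw [← a2]; exact (MulAction.injective a).eq_iff
  rw [← hy, coThree_base.2.2.2.2]
  simp only [Set.mem_union, Set.mem_singleton_iff, hm, he]

end Cfsg.Agent.Leech
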