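import Mathlib

/-!
Congruences modulo 2 in a positive-definite even integral lattice (given by a Gram matrix `B`) without
vectors of norm 2: the classes of short vectors (norm at most 8) and the bound 48 on a norm-8 class.
-/

set_option autoImplicit false

open Matrix

namespace Cfsg.Agent.Leech

variable {n : ℕ}

/-- The quadratic form of the Gram matrix `B`. -/
def latNorm (B : Matrix (Fin n) (Fin n) ℤ) (x : Fin n → ℤ) : ℤ := x ⬝ᵥ (B *ᵥ x)

/-- The bilinear form of the Gram matrix `B`. -/
def latDot (B : Matrix (Fin n) (Fin n) ℤ) (x y : Fin n → ℤ) : ℤ := x ⬝ᵥ (B *ᵥ y)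

/-- The hypotheses: symmetric, positive definite, even, no vector of norm 2. -/
structure IsRootless (B : Matrix (Fin n) (Fin n) ℤ) : Prop where
  symm : B.IsSymm
  pos : ∀ x : Fin n → ℤ, x ≠ 0 → 0 < latNorm B x
  even : ∀ x : Fin n → ℤ, (2 : ℤ) ∣ latNorm B x
  noRoot : ∀ x : Fin n → ℤ, latNorm B x ≠ 2

variable {B : Matrix (Fin n) (Fin n) ℤ}

theorem latDot_comm (hs : B.IsSymm) (x y : Fin n → ℤ) : latDot B x y = latDot B y x := by
  unfold latDot
  rw [dotProduct_mulVec, ← mulVec_transpose, hs.eq, dotProduct_comm]

theorem latNorm_neg (x : Fin n → ℤ) : latNorm B (-x) = latNorm B x := by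
  simp [latNorm, mulVec_neg]

theorem latNorm_zero : latNorm B (0 : Fin n → ℤ) = 0 := by
  simp [latNorm]

theorem latNorm_ge_four (h : IsRootless B) {x : Fin n → ℤ} (hx : x ≠ 0) : 4 ≤ latNorm B x := by
  have := h.pos x hx
  have := h.noRoot x
  obtain ⟨k, hk⟩ := h.even x
  omega

/-- Two congruent vectors of norm at most 8 are equal or opposite, or orthogonal of norm 8. -/
theorem congr_class (h : IsRootless B) {x y : Fin n → ℤ} (hx : latNorm B x ≤ 8)
    (hy : latNorm B y ≤ 8) (hc : ∀ i, (2 : ℤ) ∣ (x - y) i) :
    y = x ∨ y = -x ∨ (latNorm B x = 8 ∧ latNorm B y = 8 ∧ latDot B x y = 0) := by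
  choose z hz using hc
  have hxy : x = y + (z + z) := by
    funext i
    have := hz i
    simp only [Pi.sub_apply] at this
    simp only [Pi.add_apply]
    omega
  by_cases h0 : z = 0
  · left
    simp [hxy, h0]
  by_cases hw : y + z = 0
  · right; left
    have hy' : y = -z := eq_neg_of_add_eq_zero_left hw
    funext i
    simp [hxy, hy']
  right; right
  have h1 := latNorm_ge_four h h0
  have h2 := latNorm_ge_four h hw
  have hzy := latDot_comm h.symm z y
  unfold latNorm latDot at *
  subst hxy
  simp only [mulVec_add, dotProduct_add, add_dotProduct] at hx hy h1 h2 ⊢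
  omega

theorem latNorm_eq_of_congr (h : IsRootless B) {x y : Fin n → ℤ} (hx : latNorm B x ≤ 8)
    (hy : latNorm B y ≤ 8) (hc : ∀ i, (2 : ℤ) ∣ (x - y) i) : latNorm B y = latNorm B x := by
  rcases congr_class h hx hy hc with rfl | rfl | ⟨a, b, _⟩
  · rfl
  · exact latNorm_neg x
  · omega

/-- A set of nonzero vectors, any two of which are equal, opposite or orthogonal, has at most `2 n`
members. -/
theorem card_le_two_mul (h : IsRootless B) (T : Finset (Fin n → ℤ))
    (hne : ∀ y ∈ T, y ≠ 0)
    (hT : ∀ y ∈ T, ∀ y' ∈ T, y' = y ∨ y' = -y ∨ latDot B y y' = 0) : T.card ≤ 2 * n := by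
  classical
  let f : (Fin n → ℤ) → (Fin n → ℤ) := fun y => if toLex (-y) ≤ toLex y then y else -y
  have hf : ∀ y, f y = y ∨ f y = -y := fun y => by
    by_cases hle : toLex (-y) ≤ toLex y <;> simp only [f, hle, if_true, if_false, true_or, or_true]
  have hfib : T.card ≤ 2 * (T.image f).card := by
    refine Finset.card_le_mul_card_image T 2 (fun b _ => ?_)
    calc (T.filter fun a => f a = b).card ≤ ({b, -b} : Finset (Fin n → ℤ)).card := by
          refine Finset.card_le_card (fun a ha => ?_)
          obtain ⟨_, ha⟩ := Finset.mem_filter.1 ha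
          rcases hf a with h' | h'
          · simp [← ha, h']
          · simp [← ha, h']
      _ ≤ 2 := Finset.card_le_two
  have horth : ∀ u ∈ T.image f, ∀ v ∈ T.image f, u ≠ v → latDot B u v = 0 := by
    intro u hu v hv huv
    obtain ⟨a, ha, rfl⟩ := Finset.mem_image.1 hu
    obtain ⟨b, hb, rfl⟩ := Finset.mem_image.1 hv
    rcases hT a ha b hb with rfl | rfl | hab
    · exact absurd rfl huv
    · exfalso
      apply huv
      simp only [f, neg_neg]
      by_cases h1 : toLex (-a) ≤ toLex a <;> by_cases h2 : toLex a ≤ toLex (-a) <;>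
        simp only [h1, h2, if_true, if_false]
      · exact toLex.injective (le_antisymm h2 h1)
      · rcases le_total (toLex (-a)) (toLex a) with h3 | h3
        · exact absurd h3 h1
        · exact absurd h3 h2
    · rcases hf a with ea | ea <;> rcases hf b with eb | eb <;>
        simp only [ea, eb, latDot, mulVec_neg, neg_dotProduct, dotProduct_neg] <;>
        simpa [latDot] using hab
  have hpos : ∀ u ∈ T.image f, latDot B u u ≠ 0 := by
    intro u hu
    obtain ⟨a, ha, rfl⟩ := Finset.mem_image.1 hu
    have h4 := latNorm_ge_four h (hne a ha)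
    rcases hf a with ea | ea
    · show latNorm B (f a) ≠ 0
      rw [ea]; omega
    · show latNorm B (f a) ≠ 0
      rw [ea, latNorm_neg]; omega
  have hli : LinearIndependent ℤ (fun u : (T.image f) => (u : Fin n → ℤ)) := by
    rw [Fintype.linearIndependent_iff]
    intro g hg j
    have := congrArg (fun w => latDot B w (j : Fin n → ℤ)) hg
    simp only [latDot, sum_dotProduct, smul_dotProduct, zero_dotProduct, smul_eq_mul] at this
    rw [Finset.sum_eq_single j] at this
    · exact (mul_eq_zero.1 this).resolve_right (hpos j j.2)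
    · intro i _ hij
      have h' := horth i i.2 j j.2 (fun e => hij (Subtype.ext e))
      simp only [latDot] at h'
      simp [h']
    · simp
  have := hli.fintype_card_le_finrank
  simp only [Fintype.card_coe, Module.finrank_fin_fun] at this
  omega

end Cfsg.Agent.Leech
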