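/-
Uniqueness of the Leech lattice, coordinate part: an even lattice in `GolayPt → ℤ` (squared norms
scaled by 8) without roots, containing a frame with its half differences and having 196560 vectors
of norm 32, is the Leech lattice up to a signed permutation of the coordinates.
-/
import Cfsg.Agent.Lib.Leech.Lattice
import Cfsg.Agent.Lib.GolayUnique.Transport

set_option autoImplicit false

namespace Cfsg.Agent.Leech

open Cfsg Finset

theorem card_pts : Fintype.card GolayPt = 24 := rfl

/-- The hypotheses on a lattice in frame coordinates. -/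
structure IsModel (M : AddSubgroup (GolayPt → ℤ)) : Prop where
  dot : ∀ a ∈ M, ∀ b ∈ M, 8 ∣ dotInt a b
  even : ∀ a ∈ M, 16 ∣ sqNorm a
  noRoot : ∀ a ∈ M, sqNorm a ≠ 16
  pair : ∀ i j : GolayPt, i ≠ j → (Pi.single i 4 - Pi.single j 4 : GolayPt → ℤ) ∈ M
  single8 : ∀ i : GolayPt, (Pi.single i 8 : GolayPt → ℤ) ∈ M
  count : {a | a ∈ M ∧ sqNorm a = 32}.ncard = 196560

/-- The binary code attached to a lattice: halves of its even vectors modulo 2. -/
def modelCode (M : AddSubgroup (GolayPt → ℤ)) : Submodule (ZMod 2) (GolayPt → ZMod 2) :=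
  AddSubgroup.toZModSubmodule 2 ((M.comap dbl).map red2)

theorem mem_modelCode {M : AddSubgroup (GolayPt → ℤ)} {w : GolayPt → ZMod 2} :
    w ∈ modelCode M ↔ ∃ y, dbl y ∈ M ∧ red2 y = w := by
  simp [modelCode, AddSubgroup.mem_map]

theorem red2_eq_one_iff {y : GolayPt → ℤ} {i : GolayPt} : red2 y i = 1 ↔ y i % 2 = 1 := by
  show ((y i : ℤ) : ZMod 2) = 1 ↔ _
  rw [show (1 : ZMod 2) = ((1 : ℤ) : ZMod 2) from Int.cast_one.symm, ZMod.intCast_eq_intCast_iff']
  norm_num

theorem sqNorm_pos {a : GolayPt → ℤ} (ha : a ≠ 0) : 0 < sqNorm a := by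
  obtain ⟨i, hi⟩ := Function.ne_iff.1 ha
  exact sum_pos' (fun j _ => sq_nonneg (a j))
    ⟨i, mem_univ i, by have : a i ≠ 0 := hi; positivity⟩

theorem sqNorm_single (i : GolayPt) (c : ℤ) : sqNorm (Pi.single i c) = c ^ 2 := by
  simp [sqNorm, Pi.single_apply, ite_pow]

theorem sq_le_sqNorm (a : GolayPt → ℤ) (i : GolayPt) : a i ^ 2 ≤ sqNorm a :=
  single_le_sum (f := fun j => a j ^ 2) (fun j _ => sq_nonneg (a j)) (mem_univ i)

variable {M : AddSubgroup (GolayPt → ℤ)}

theorem IsModel.norm_ge (h : IsModel M) {a : GolayPt → ℤ} (ha : a ∈ M) (h0 : a ≠ 0) :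
    32 ≤ sqNorm a := by
  obtain ⟨k, hk⟩ := h.even a ha
  have := h.noRoot a ha
  have := sqNorm_pos h0
  omega

theorem IsModel.eq_of_close (h : IsModel M) {a b : GolayPt → ℤ} (ha : a ∈ M) (hb : b ∈ M)
    (hn : sqNorm (a - b) < 32) : a = b := by
  by_contra hne
  have := h.norm_ge (sub_mem ha hb) (sub_ne_zero.2 hne)
  omega

theorem IsModel.parity (h : IsModel M) {a : GolayPt → ℤ} (ha : a ∈ M) (i j : GolayPt) :
    a i % 2 = a j % 2 := by
  by_cases hij : i = j
  · rw [hij]
  have hd := h.dot a ha _ (h.pair i j hij)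
  have : dotInt a (Pi.single i 4 - Pi.single j 4) = 4 * a i - 4 * a j := by
    simp [dotInt, mul_sub, Pi.single_apply, mul_comm]
  omega

theorem IsModel.four_mul_sub (h : IsModel M) (z : GolayPt → ℤ) (p : GolayPt) :
    ((fun i => 4 * z i) - Pi.single p (4 * ∑ i, z i) : GolayPt → ℤ) ∈ M := by
  have hp : ∀ i, (Pi.single i 4 - Pi.single p 4 : GolayPt → ℤ) ∈ M := fun i => by
    by_cases hi : i = p
    · rw [hi, sub_self]; exact zero_mem M
    · exact h.pair i p hi
  have hs := sum_mem fun i (_ : i ∈ univ) => M.zsmul_mem (hp i) (z i)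
  convert hs using 1
  funext l
  simp only [Pi.sub_apply, Finset.sum_apply, Pi.smul_apply, smul_eq_mul, mul_sub, sum_sub_distrib,
    Pi.single_apply, mul_ite, mul_zero, sum_ite_eq, mem_univ, if_true]
  rw [mul_comm 4 (z l)]
  congr 1
  split_ifs with hl
  · rw [mul_sum]; exact sum_congr rfl fun i _ => mul_comm _ _
  · simp

theorem IsModel.code_orth (h : IsModel M) {v w : GolayPt → ZMod 2} (hv : v ∈ modelCode M)
    (hw : w ∈ modelCode M) : ∑ i, v i * w i = 0 := by
  obtain ⟨y, hy, rfl⟩ := mem_modelCode.1 hv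
  obtain ⟨y', hy', rfl⟩ := mem_modelCode.1 hw
  have hd := h.dot _ hy _ hy'
  have he : dotInt (dbl y) (dbl y') = 4 * ∑ i, y i * y' i := by
    rw [dotInt, mul_sum]
    exact sum_congr rfl fun i _ => by rw [dbl_apply, dbl_apply]; ring
  show ∑ i, ((y i : ℤ) : ZMod 2) * ((y' i : ℤ) : ZMod 2) = 0
  simp only [← Int.cast_mul, ← Int.cast_sum]
  rw [ZMod.intCast_zmod_eq_zero_iff_dvd]
  omega

theorem IsModel.code_four_dvd (h : IsModel M) {w : GolayPt → ZMod 2} (hw : w ∈ modelCode M) :
    4 ∣ (support₂ w).card := by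
  obtain ⟨y, hy, rfl⟩ := mem_modelCode.1 hw
  have hd := h.even _ hy
  have he : sqNorm (dbl y) = 4 * ∑ i, y i ^ 2 := by
    rw [sqNorm, mul_sum]
    exact sum_congr rfl fun i _ => by rw [dbl_apply]; ring
  have hc : (4 : ℤ) ∣ ∑ i, (y i ^ 2 - if i ∈ support₂ (red2 y) then 1 else 0) := by
    refine dvd_sum fun i _ => ?_
    rcases Int.emod_two_eq_zero_or_one (y i) with hi | hi
    · obtain ⟨k, hk⟩ := Int.dvd_of_emod_eq_zero hi
      rw [if_neg (by rw [mem_supp, red2_eq_one_iff]; omega), hk]
      exact ⟨k ^ 2, by ring⟩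
    · obtain ⟨k, hk⟩ : ∃ k, y i = 2 * k + 1 := ⟨y i / 2, by omega⟩
      rw [if_pos (by rw [mem_supp, red2_eq_one_iff]; omega), hk]
      exact ⟨k ^ 2 + k, by ring⟩
  rw [sum_sub_distrib, sum_boole, filter_univ_mem] at hc
  omega

/-- Every code word lifts to twice its indicator, up to one coordinate changed by `4`. -/
theorem IsModel.code_lift (h : IsModel M) {w : GolayPt → ZMod 2} (hw : w ∈ modelCode M)
    (p : GolayPt) : ∃ t : ℤ, (t = 0 ∨ t = -4) ∧
      ((fun i => 2 * ind w i) + Pi.single p t : GolayPt → ℤ) ∈ M := by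
  obtain ⟨y, hy, rfl⟩ := mem_modelCode.1 hw
  have hz : ∀ i, 2 ∣ y i - ind (red2 y) i := fun i => by
    simp only [ind, red2_eq_one_iff]
    split_ifs <;> omega
  choose z hz using hz
  have h1 := sub_mem hy (h.four_mul_sub z p)
  obtain ⟨k, hk | hk⟩ := Int.even_or_odd' (∑ i, z i)
  · refine ⟨0, Or.inl rfl, ?_⟩
    convert sub_mem h1 (M.zsmul_mem (h.single8 p) k) using 1
    funext i
    simp only [Pi.add_apply, Pi.sub_apply, Pi.smul_apply, dbl_apply, Pi.single_apply, hk]
    have := hz i
    split_ifs <;> simp only [smul_eq_mul] <;> omega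
  · refine ⟨-4, Or.inr rfl, ?_⟩
    convert sub_mem h1 (M.zsmul_mem (h.single8 p) (k + 1)) using 1
    funext i
    simp only [Pi.add_apply, Pi.sub_apply, Pi.smul_apply, dbl_apply, Pi.single_apply, hk]
    have := hz i
    split_ifs <;> simp only [smul_eq_mul] <;> omega

theorem IsModel.code_min (h : IsModel M) {w : GolayPt → ZMod 2} (hw : w ∈ modelCode M)
    (h0 : w ≠ 0) : 8 ≤ (support₂ w).card := by
  have h4 := h.code_four_dvd hw
  have hpos : 0 < (support₂ w).card := by
    obtain ⟨i, hi⟩ := Function.ne_iff.1 h0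
    exact card_pos.2 ⟨i, mem_supp.2 (zmod2_eq_one_of_ne hi)⟩
  by_contra hlt
  have h4' : (support₂ w).card = 4 := by omega
  obtain ⟨p, hp⟩ := card_pos.1 hpos
  obtain ⟨t, ht, hmem⟩ := h.code_lift hw p
  refine h.noRoot _ hmem ?_
  have : ∀ i, ((fun i => 2 * ind w i) + Pi.single p t : GolayPt → ℤ) i ^ 2 =
      if i ∈ support₂ w then 4 else 0 := fun i => by
    simp only [Pi.add_apply, Pi.single_apply, ind, mem_supp]
    rw [mem_supp] at hp
    by_cases hi : i = p
    · subst hi; rcases ht with rfl | rfl <;> simp [hp]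
    · by_cases hwi : w i = 1 <;> simp [hwi, hi]
  rw [sqNorm, sum_congr rfl fun i _ => this i, sum_ite_mem, univ_inter, sum_const, h4']
  rfl

theorem IsModel.card_code_le (h : IsModel M) : Nat.card (modelCode M) ≤ 4096 := by
  have he := LinearEquiv.finrank_map_eq (dotProductEquiv (ZMod 2) GolayPt) (modelCode M)
  have hle : (modelCode M).map (dotProductEquiv (ZMod 2) GolayPt).toLinearMap ≤
      (modelCode M).dualAnnihilator := by
    rintro _ ⟨v, hv, rfl⟩
    rw [Submodule.mem_dualAnnihilator]
    intro w hw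
    exact h.code_orth hv hw
  have h1 := Submodule.finrank_mono hle
  have h2 := Subspace.finrank_add_finrank_dualAnnihilator_eq (modelCode M)
  rw [Module.finrank_fintype_fun_eq_card, card_pts] at h2
  rw [he] at h1
  rw [Module.natCard_eq_pow_finrank (K := ZMod 2), Nat.card_eq_fintype_card,
    show Fintype.card (ZMod 2) = 2 from rfl]
  calc 2 ^ Module.finrank (ZMod 2) (modelCode M) ≤ 2 ^ 12 :=
        Nat.pow_le_pow_right (by norm_num) (by omega)
    _ = 4096 := by norm_num

/-- The supports of the weight 8 code words. -/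
def modelBlocks (M : AddSubgroup (GolayPt → ℤ)) : Set (Finset GolayPt) :=
  wordsOfWeight (modelCode M : Set (GolayPt → ZMod 2)) 8

theorem IsModel.block_unique (h : IsModel M) {b c S : Finset GolayPt} (hb : b ∈ modelBlocks M)
    (hc : c ∈ modelBlocks M) (hS : S.card = 5) (hSb : S ⊆ b) (hSc : S ⊆ c) : b = c := by
  obtain ⟨⟨v, hv, rfl⟩, hb8⟩ := hb
  obtain ⟨⟨w, hw, rfl⟩, hc8⟩ := hc
  by_contra hne
  have hvw : v + w ≠ 0 := fun e => hne (by
    rw [show v = w from funext fun i => CharTwo.add_eq_zero.1 (congrFun e i)])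
  have h1 := h.code_min (add_mem hv hw) hvw
  have h2 := supp_add v w
  have h3 := card_le_card (subset_inter hSb hSc)
  omega

/-- A norm 32 vector with even coordinates is of shape `4²` or `2⁸`. -/
theorem IsModel.even_shape (h : IsModel M) {a : GolayPt → ℤ} (ha : a ∈ M) (hn : sqNorm a = 32)
    (h2 : ∀ i, a i % 2 = 0) :
    ((univ.filter fun i => a i ≠ 0).card = 2 ∧ ∀ i, a i = 0 ∨ a i = 4 ∨ a i = -4) ∨
      ((univ.filter fun i => a i ≠ 0) ∈ modelBlocks M ∧ ∀ i, a i = 0 ∨ a i = 2 ∨ a i = -2) := by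
  have hb' : dbl (fun i => a i / 2) = a := funext fun i => by
    rw [dbl_apply]; have := h2 i; omega
  set w := red2 (fun i => a i / 2) with hw
  have hwC : w ∈ modelCode M := mem_modelCode.2 ⟨_, by rw [hb']; exact ha, rfl⟩
  have hmem : ∀ i, i ∈ support₂ w ↔ a i % 4 = 2 := fun i => by
    rw [mem_supp, hw, red2_eq_one_iff]; have := h2 i; omega
  have hle : ∀ i, -5 ≤ a i ∧ a i ≤ 5 := fun i => by
    have := sq_le_sqNorm a i
    constructor <;> nlinarith
  have hval : ∀ i, a i = 0 ∨ a i = 2 ∨ a i = -2 ∨ a i = 4 ∨ a i = -4 := fun i => by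
    have := hle i; have := h2 i; omega
  have hsq : ∀ i, a i ^ 2 = 4 * (if a i % 4 = 2 then 1 else 0) +
      16 * (if a i = 4 ∨ a i = -4 then 1 else 0) := fun i => by
    rcases hval i with e | e | e | e | e <;> rw [e] <;> norm_num
  have hsum : (32 : ℤ) = 4 * ((univ.filter fun i => a i % 4 = 2).card : ℤ) +
      16 * ((univ.filter fun i => a i = 4 ∨ a i = -4).card : ℤ) := by
    rw [← hn, sqNorm, sum_congr rfl fun i _ => hsq i, sum_add_distrib, ← mul_sum, ← mul_sum,
      sum_boole, sum_boole]
  have hsupp : support₂ w = univ.filter fun i => a i % 4 = 2 := by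
    ext i; simp [hmem]
  by_cases h0 : w = 0
  · left
    have hz : (univ.filter fun i => a i % 4 = 2) = ∅ := by
      rw [← hsupp, h0]; simp [support₂]
    rw [hz, card_empty] at hsum
    have hz' : ∀ i, a i % 4 ≠ 2 := fun i hi => by
      have : i ∈ (univ.filter fun i => a i % 4 = 2) := mem_filter.2 ⟨mem_univ i, hi⟩
      rw [hz] at this
      exact notMem_empty i this
    refine ⟨?_, fun i => ?_⟩
    · have : (univ.filter fun i => a i ≠ 0) = univ.filter fun i => a i = 4 ∨ a i = -4 :=
        filter_congr fun i _ => by have := hz' i; rcases hval i with e | e | e | e | e <;> omega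
      rw [this]
      omega
    · have := hz' i; rcases hval i with e | e | e | e | e <;> omega
  · right
    have h8 := h.code_min hwC h0
    rw [hsupp] at h8
    have hz : (univ.filter fun i => a i = 4 ∨ a i = -4) = ∅ := card_eq_zero.1 (by omega)
    have hz' : ∀ i, ¬(a i = 4 ∨ a i = -4) := fun i hi => by
      have : i ∈ (univ.filter fun i => a i = 4 ∨ a i = -4) := mem_filter.2 ⟨mem_univ i, hi⟩
      rw [hz] at this
      exact notMem_empty i this
    refine ⟨⟨⟨w, hwC, ?_⟩, ?_⟩, fun i => ?_⟩
    · rw [hsupp]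
      exact filter_congr fun i _ => by have := hz' i; rcases hval i with e | e | e | e | e <;> omega
    · rw [show (univ.filter fun i => a i ≠ 0) = univ.filter fun i => a i % 4 = 2 from
        filter_congr fun i _ => by have := hz' i; rcases hval i with e | e | e | e | e <;> omega]
      omega
    · have := hz' i; rcases hval i with e | e | e | e | e <;> omega

/-- A norm 32 vector with odd coordinates is of shape `3 1²³`. -/
theorem odd_shape {a : GolayPt → ℤ} (hn : sqNorm a = 32) (h1 : ∀ i, a i % 2 = 1) :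
    ∃ p, (a p = 3 ∨ a p = -3) ∧ ∀ i, i ≠ p → a i = 1 ∨ a i = -1 := by
  have h9 : ∀ i, a i ≠ 1 → a i ≠ -1 → 9 ≤ a i ^ 2 := fun i e1 e2 => by
    have := h1 i
    rcases le_total 0 (a i) with hp | hp
    · nlinarith [(by omega : 3 ≤ a i)]
    · nlinarith [(by omega : a i ≤ -3)]
  have hge : ∀ i, 1 ≤ a i ^ 2 := fun i => by
    have := h1 i
    have : a i ≠ 0 := by omega
    have : 0 < a i ^ 2 := by positivity
    omega
  have hs : ∑ i, (a i ^ 2 - 1) = 8 := by
    rw [sum_sub_distrib, ← sqNorm, hn, sum_const, card_univ, card_pts]; rfl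
  obtain ⟨p, hp⟩ : ∃ p, ¬(a p = 1 ∨ a p = -1) := by
    by_contra hc
    simp only [not_exists, not_not] at hc
    rw [sum_eq_zero fun i _ => by rcases hc i with e | e <;> rw [e] <;> norm_num] at hs
    norm_num at hs
  have hrest := add_sum_erase univ (fun i => a i ^ 2 - 1) (mem_univ p)
  have hnn : ∀ i ∈ univ.erase p, (0 : ℤ) ≤ a i ^ 2 - 1 := fun i _ => by linarith [hge i]
  have hp9 := h9 p (fun e => hp (Or.inl e)) fun e => hp (Or.inr e)
  have h0 : ∑ i ∈ univ.erase p, (a i ^ 2 - 1) = 0 := by linarith [sum_nonneg hnn]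
  refine ⟨p, ?_, fun i hi => ?_⟩
  · have hsq : a p ^ 2 = 3 ^ 2 := by linarith
    exact eq_or_eq_neg_of_sq_eq_sq _ _ hsq
  · have := (sum_eq_zero_iff_of_nonneg hnn).1 h0 i (mem_erase.2 ⟨hi, mem_univ i⟩)
    exact sq_eq_one_iff.1 (by linarith)

set_option linter.constructorNameAsVariable false in
open scoped Classical in
/-- The counting step: the weight 8 words form a Steiner system and an odd vector exists. -/
theorem IsModel.steiner (h : IsModel M) :
    IsSteinerSystem 5 8 (modelBlocks M) ∧ ∃ a ∈ M, sqNorm a = 32 ∧ ∀ i, a i % 2 = 1 := by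
  have hfin : {a | a ∈ M ∧ sqNorm a = 32}.Finite :=
    Set.finite_of_ncard_ne_zero (by rw [h.count]; norm_num)
  set S := hfin.toFinset with hS
  have memS : ∀ a, a ∈ S ↔ a ∈ M ∧ sqNorm a = 32 := fun a => hfin.mem_toFinset
  have hScard : S.card = 196560 := by
    rw [hS, ← Set.ncard_eq_toFinset_card _ hfin, h.count]
  let sp : (GolayPt → ℤ) → Finset GolayPt := fun a => univ.filter fun i => a i ≠ 0
  set Se := S.filter fun a => a none % 2 = 0 with hSe
  set So := S.filter fun a => ¬a none % 2 = 0 with hSo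
  have hsplit : Se.card + So.card = 196560 := by
    rw [hSe, hSo, card_filter_add_card_filter_not, hScard]
  set S4 := Se.filter fun a => (sp a).card = 2 with hS4
  set S2 := Se.filter fun a => ¬(sp a).card = 2 with hS2
  have hsplit2 : S4.card + S2.card = Se.card := card_filter_add_card_filter_not _
  have hevens : ∀ a ∈ Se, a ∈ M ∧ sqNorm a = 32 ∧ ∀ i, a i % 2 = 0 := fun a ha => by
    rw [hSe, mem_filter, memS] at ha
    exact ⟨ha.1.1, ha.1.2, fun i => (h.parity ha.1.1 i none).trans ha.2⟩
  have c4 : S4.card ≤ 4 * ((univ : Finset GolayPt).powersetCard 2).card := by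
    refine card_le_mul_card_image_of_maps_to (f := sp)
      (fun a ha => mem_powersetCard.2 ⟨subset_univ _, (mem_filter.1 ha).2⟩) 4 fun u hu => ?_
    calc _ ≤ u.powerset.card := ?_
      _ = 4 := by rw [card_powerset, (mem_powersetCard.1 hu).2]; norm_num
    have hsp : ∀ a ∈ S4, ∀ i, a i = 0 ∨ a i = 4 ∨ a i = -4 := fun a ha i => by
      obtain ⟨hae, hac⟩ := mem_filter.1 ha
      obtain ⟨haM, han, ha2⟩ := hevens a hae
      rcases h.even_shape haM han ha2 with ⟨-, e⟩ | ⟨e, -⟩
      · exact e i
      · exact absurd e.2 (by show ¬(sp a).card = 8; omega)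
    refine card_le_card_of_injOn (fun a => univ.filter fun i => a i = 4) (fun a ha => ?_) ?_
    · rw [coe_filter, Set.mem_ofPred_eq] at ha
      rw [mem_coe, mem_powerset, ← ha.2]
      intro i hi
      simp only [mem_filter, mem_univ, true_and, sp] at hi ⊢
      omega
    · intro a ha b hb e
      rw [coe_filter, Set.mem_ofPred_eq] at ha hb
      funext i
      have h1 := congrArg (i ∈ ·) e
      have h2 := congrArg (i ∈ ·) (ha.2.trans hb.2.symm)
      simp only [mem_filter, mem_univ, true_and, sp, eq_iff_iff] at h1 h2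
      rcases hsp a ha.1 i with x | x | x <;> rcases hsp b hb.1 i with y | y | y <;> omega
  set O := ((univ : Finset GolayPt).powersetCard 8).filter fun b => b ∈ modelBlocks M with hO
  have memO : ∀ b, b ∈ O ↔ b ∈ modelBlocks M := fun b => by
    rw [hO, mem_filter, mem_powersetCard]
    exact ⟨fun x => x.2, fun x => ⟨⟨subset_univ _, x.2⟩, x⟩⟩
  have hoct : ∀ a ∈ S2, sp a ∈ modelBlocks M ∧ ∀ i, a i = 0 ∨ a i = 2 ∨ a i = -2 := fun a ha => by
    obtain ⟨hae, hac⟩ := mem_filter.1 ha
    obtain ⟨haM, han, ha2⟩ := hevens a hae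
    rcases h.even_shape haM han ha2 with ⟨e, -⟩ | e
    · exact absurd e hac
    · exact e
  have c2 : S2.card ≤ 128 * O.card := by
    refine card_le_mul_card_image_of_maps_to (f := sp) (fun a ha => (memO _).2 (hoct a ha).1) 128
      fun b hb => ?_
    have hb8 : b.card = 8 := ((memO b).1 hb).2
    obtain ⟨p, hp⟩ := card_pos.1 (by omega : 0 < b.card)
    calc _ ≤ (b.erase p).powerset.card := ?_
      _ = 128 := by rw [card_powerset, card_erase_of_mem hp, hb8]; norm_num
    refine card_le_card_of_injOn (fun a => (b.erase p).filter fun i => a i = 2)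
      (fun a _ => mem_powerset.2 (filter_subset _ _)) ?_
    intro a ha c hc e
    rw [coe_filter, Set.mem_ofPred_eq] at ha hc
    refine h.eq_of_close (hevens a (mem_filter.1 ha.1).1).1 (hevens c (mem_filter.1 hc.1).1).1 ?_
    have hd : a - c = Pi.single p (a p - c p) := by
      funext i
      rw [Pi.sub_apply, Pi.single_apply]
      split_ifs with hi
      · rw [hi]
      have h2 := congrArg (i ∈ ·) (ha.2.trans hc.2.symm)
      have h3 := congrArg (i ∈ ·) ha.2
      simp only [mem_filter, mem_univ, true_and, sp, eq_iff_iff] at h2 h3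
      have h1 := congrArg (i ∈ ·) e
      simp only [mem_filter, mem_erase, eq_iff_iff, hi, ne_eq, not_false_eq_true, true_and] at h1
      by_cases hib : i ∈ b
      · simp only [hib, true_and] at h1
        simp only [hib, iff_true] at h3
        rcases (hoct a ha.1).2 i with x | x | x <;> rcases (hoct c hc.1).2 i with y | y | y <;> omega
      · simp only [hib, iff_false, not_not] at h3
        simp only [h3, ne_eq, not_true_eq_false, false_iff, not_not] at h2
        omega
    rw [hd, sqNorm_single]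
    rcases (hoct a ha.1).2 p with x | x | x <;> rcases (hoct c hc.1).2 p with y | y | y <;>
      rw [x, y] <;> norm_num
  have co : So.card ≤ 24 * 4096 := by
    rcases So.eq_empty_or_nonempty with he | ⟨a₀, ha₀⟩
    · simp [he]
    have hodd : ∀ a ∈ So, a ∈ M ∧ sqNorm a = 32 ∧ ∀ i, a i % 2 = 1 := fun a ha => by
      rw [hSo, mem_filter, memS] at ha
      exact ⟨ha.1.1, ha.1.2, fun i => by have := h.parity ha.1.1 i none; omega⟩
    have hp : ∀ a : GolayPt → ℤ, ∃ p, a ∈ So → (a p = 3 ∨ a p = -3) ∧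
        ∀ i, i ≠ p → a i = 1 ∨ a i = -1 := fun a => by
      by_cases ha : a ∈ So
      · obtain ⟨p, hp⟩ := odd_shape (hodd a ha).2.1 (hodd a ha).2.2
        exact ⟨p, fun _ => hp⟩
      · exact ⟨none, fun h => absurd h ha⟩
    choose pt hpt using hp
    let Cf : Finset (GolayPt → ZMod 2) := univ.filter fun w => w ∈ modelCode M
    have hCf : Cf.card ≤ 4096 := by
      refine le_trans (le_of_eq ?_) h.card_code_le
      rw [Nat.card_eq_fintype_card, Fintype.card_subtype]
    calc So.card ≤ ((univ : Finset GolayPt) ×ˢ Cf).card := ?_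
      _ ≤ 24 * 4096 := by rw [card_product, card_univ, card_pts]; exact Nat.mul_le_mul_left _ hCf
    refine card_le_card_of_injOn (fun a => (pt a, red2 fun i => (a i - a₀ i) / 2)) (fun a ha => ?_) ?_
    · rw [mem_coe, mem_product]
      refine ⟨mem_univ _, mem_filter.2 ⟨mem_univ _, mem_modelCode.2 ⟨_, ?_, rfl⟩⟩⟩
      have hd := sub_mem (hodd a ha).1 (hodd a₀ ha₀).1
      convert hd using 1
      funext i
      have := (hodd a ha).2.2 i
      have := (hodd a₀ ha₀).2.2 i
      rw [dbl_apply, Pi.sub_apply]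
      omega
    · intro a ha b hb e
      simp only [Prod.mk.injEq] at e
      funext i
      have h1 := congrArg (· = 1) (congrFun e.2 i)
      simp only [red2_eq_one_iff, eq_iff_iff] at h1
      have := (hodd a ha).2.2 i
      have := (hodd b hb).2.2 i
      have := (hodd a₀ ha₀).2.2 i
      by_cases hi : i = pt a
      · have x := (hpt a ha).1
        have y := (hpt b hb).1
        rw [← e.1] at y
        subst hi
        omega
      · have x := (hpt a ha).2 i hi
        have y := (hpt b hb).2 i (e.1 ▸ hi)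
        omega
  have hbi : (O.biUnion fun b => b.powersetCard 5).card = 56 * O.card := by
    rw [card_biUnion, sum_congr rfl fun b hb => by
      rw [card_powersetCard, ((memO b).1 hb).2], sum_const, smul_eq_mul, mul_comm]
    · rfl
    intro b hb c hc hne
    rw [Function.onFun, disjoint_left]
    intro T hT hT'
    rw [mem_powersetCard] at hT hT'
    exact hne (h.block_unique ((memO b).1 hb) ((memO c).1 hc) hT.2 hT.1 hT'.1)
  have hsub : (O.biUnion fun b => b.powersetCard 5) ⊆ (univ : Finset GolayPt).powersetCard 5 := by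
    intro T hT
    rw [Finset.mem_biUnion] at hT
    obtain ⟨b, -, hT⟩ := hT
    exact mem_powersetCard.2 ⟨subset_univ _, (mem_powersetCard.1 hT).2⟩
  have h5 : ((univ : Finset GolayPt).powersetCard 5).card = 42504 := by
    rw [card_powersetCard, card_univ, card_pts]; rfl
  have h2 : ((univ : Finset GolayPt).powersetCard 2).card = 276 := by
    rw [card_powersetCard, card_univ, card_pts]; rfl
  have hle := card_le_card hsub
  rw [hbi, h5] at hle
  rw [h2] at c4
  refine ⟨⟨fun b hb => hb.2, fun T hT => ?_⟩, ?_⟩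
  · have heq := eq_of_subset_of_card_le hsub (by rw [hbi, h5]; omega)
    have : T ∈ (univ : Finset GolayPt).powersetCard 5 := mem_powersetCard.2 ⟨subset_univ _, hT⟩
    rw [← heq, mem_biUnion] at this
    obtain ⟨b, hb, hTb⟩ := this
    refine ⟨b, ⟨(memO b).1 hb, (mem_powersetCard.1 hTb).1⟩, fun c hc => ?_⟩
    exact h.block_unique hc.1 ((memO b).1 hb) hT hc.2 (mem_powersetCard.1 hTb).1
  · obtain ⟨a, ha⟩ := card_pos.1 (by omega : 0 < So.card)
    rw [hSo, mem_filter, memS] at ha
    exact ⟨a, ha.1.1, ha.1.2, fun i => by have := h.parity ha.1.1 i none; omega⟩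

theorem ncard_shell32 : {x | InL x ∧ sqNorm x = 32}.ncard = 196560 := by
  have hv := shell_values
  simp only [List.cons.injEq] at hv
  have h := card_shellFinset 32 (by norm_num)
  rw [shellFinset, ← Set.ncard_eq_toFinset_card _ (shell_finite (by norm_num))] at h
  exact h.trans (by omega)

/-- The signed permutation `x ↦ (s j * x j)` read through `e`. -/
def signPerm (s : GolayPt → ℤ) (e : GolayPt ≃ GolayPt) : (GolayPt → ℤ) →+ (GolayPt → ℤ) where
  toFun x i := s (e.symm i) * x (e.symm i)
  map_zero' := by funext i; simp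
  map_add' a b := by funext i; simp [mul_add]

theorem sqNorm_signPerm {s : GolayPt → ℤ} (hs : ∀ i, s i = 1 ∨ s i = -1) (e : GolayPt ≃ GolayPt)
    (x : GolayPt → ℤ) : sqNorm (signPerm s e x) = sqNorm x := by
  show ∑ i, (s (e.symm i) * x (e.symm i)) ^ 2 = _
  rw [Equiv.sum_comp e.symm fun j => (s j * x j) ^ 2]
  exact sum_congr rfl fun i _ => by rcases hs i with h | h <;> rw [h] <;> ring

theorem IsModel.exists_signPerm (h : IsModel M) : ∃ (s : GolayPt → ℤ) (e : GolayPt ≃ GolayPt),
    (∀ i, s i = 1 ∨ s i = -1) ∧ M.map (signPerm s e) = lattice := by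
  obtain ⟨hst, a₀, ha₀, hn₀, hodd⟩ := h.steiner
  obtain ⟨e, he, -⟩ := GolayUnique.exists_iso GolayUnique.card_golayPt GolayUnique.card_golayPt hst
    Mathieu.octads_steiner
  have hC : modelCode M = GolayUnique.blockCode (modelBlocks M) :=
    GolayUnique.eq_blockCode GolayUnique.card_golayPt hst _
      (fun b hb => GolayUnique.ind_mem_of_mem_wordsOfWeight _ hb)
      fun v hv w hw => h.code_orth hv hw
  let s : GolayPt → ℤ := fun j => if a₀ j % 4 = 1 then 1 else -1
  have hs : ∀ i, s i = 1 ∨ s i = -1 := fun i => by simp only [s]; split_ifs <;> simp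
  have hs4 : ∀ i, 4 ∣ a₀ i - s i := fun i => by
    have := hodd i; simp only [s]; split_ifs <;> omega
  obtain ⟨p, hp, hrest⟩ := odd_shape hn₀ hodd
  have hT0 : InL (signPerm s e a₀) := by
    have h1 : ∀ i, signPerm s e a₀ i % 4 = 1 := fun i => by
      show s (e.symm i) * a₀ (e.symm i) % 4 = 1
      have := hodd (e.symm i); simp only [s]; split_ifs <;> omega
    refine ⟨fun i => by have := h1 i; have := h1 none; omega, ?_, ?_⟩
    · have : hb (signPerm s e a₀) = 0 := funext fun i => hb_eq_zero_iff.2 (by have := h1 i; omega)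
      rw [this]; exact zero_mem _
    · have hsum : ∑ i, signPerm s e a₀ i = 20 := by
        show ∑ i, s (e.symm i) * a₀ (e.symm i) = 20
        rw [Equiv.sum_comp e.symm fun j => s j * a₀ j]
        have : ∀ j, s j * a₀ j = 1 + if j = p then -4 else 0 := fun j => by
          by_cases hj : j = p
          · subst hj; simp only [s, if_pos]; rcases hp with x | x <;> rw [x] <;> decide
          · rw [if_neg hj]; rcases hrest j hj with x | x <;> simp [s, x]
        rw [sum_congr rfl fun j _ => this j, sum_add_distrib, sum_ite_eq', sum_const, card_univ,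
          card_pts]
        simp
      rw [hsum]
      have := h1 none
      omega
  have heven : ∀ x ∈ M, x none % 2 = 0 → InL (signPerm s e x) := by
    intro x hx h0
    have hx2 : ∀ i, x i % 2 = 0 := fun i => (h.parity hx i none).trans h0
    have hT2 : ∀ i, signPerm s e x i % 2 = 0 := fun i => by
      show s (e.symm i) * x (e.symm i) % 2 = 0
      have := hx2 (e.symm i)
      rcases hs (e.symm i) with q | q <;> rw [q] <;> omega
    refine ⟨fun i => (hT2 i).trans (hT2 none).symm, ?_, ?_⟩
    · rw [GolayUnique.golayCode_eq_blockCode, he, ← hC]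
      refine mem_modelCode.2 ⟨fun j => x j / 2, ?_, ?_⟩
      · convert hx using 1
        funext i; rw [dbl_apply]; have := hx2 i; omega
      · funext j
        show (((x j / 2 : ℤ)) : ZMod 2) = ((s (e.symm (e j)) * x (e.symm (e j)) / 2 : ℤ) : ZMod 2)
        rw [Equiv.symm_apply_apply, ZMod.intCast_eq_intCast_iff', Nat.cast_ofNat]
        have := hx2 j
        rcases hs j with q | q <;> rw [q] <;> omega
    · have hd := h.dot x hx a₀ ha₀
      have hT : ∑ i, signPerm s e x i = ∑ j, s j * x j := by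
        show ∑ i, s (e.symm i) * x (e.symm i) = _
        exact Equiv.sum_comp e.symm fun j => s j * x j
      have hdiff : 8 ∣ ∑ j, (x j * a₀ j - s j * x j) := dvd_sum fun j _ => by
        obtain ⟨k, hk⟩ := hs4 j
        obtain ⟨l, hl⟩ : ∃ l, x j = 2 * l := ⟨x j / 2, by have := hx2 j; omega⟩
        exact ⟨k * l, by rw [show a₀ j = s j + 4 * k by omega, hl]; ring⟩
      rw [sum_sub_distrib] at hdiff
      have := hT2 none
      rw [hT]
      simp only [dotInt] at hd
      omega
  have hin : M.map (signPerm s e) ≤ lattice := by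
    rintro _ ⟨x, hx, rfl⟩
    show InL _
    rcases Int.emod_two_eq_zero_or_one (x none) with q | q
    · exact heven x hx q
    · have hev := heven _ (sub_mem hx ha₀) (by
        have := hodd none; rw [Pi.sub_apply]; omega)
      have := inL_add hev hT0
      rwa [map_sub, sub_add_cancel] at this
  refine ⟨s, e, hs, le_antisymm hin ?_⟩
  have hinj : Function.Injective (signPerm s e) := fun x y hxy => by
    funext j
    have := congrFun hxy (e j)
    change s (e.symm (e j)) * x (e.symm (e j)) = s (e.symm (e j)) * y (e.symm (e j)) at this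
    rw [Equiv.symm_apply_apply] at this
    rcases hs j with q | q <;> rw [q] at this <;> omega
  have hsubset : signPerm s e '' {a | a ∈ M ∧ sqNorm a = 32} ⊆ {x | InL x ∧ sqNorm x = 32} := by
    rintro _ ⟨x, hx, rfl⟩
    exact ⟨hin ⟨x, hx.1, rfl⟩, by rw [sqNorm_signPerm hs]; exact hx.2⟩
  have heq := Set.eq_of_subset_of_ncard_le hsubset (by
    rw [Set.ncard_image_of_injective _ hinj, h.count, ncard_shell32])
    (Set.finite_of_ncard_ne_zero (by rw [ncard_shell32]; norm_num))
  rw [← minSpan_eq, minSpan, AddSubgroup.closure_le, ← heq]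
  rintro _ ⟨x, hx, rfl⟩
  exact ⟨x, hx.1, rfl⟩

end Cfsg.Agent.Leech
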