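/-
Frame coordinates of a rootless lattice with the three vector counts: the congruence class of a
vector of norm 8 gives 24 orthogonal vectors, and the dot products with them embed the lattice
in `GolayPt → ℤ`.
-/
import Cfsg.Agent.Lib.Leech.UniqueModel
import Cfsg.Agent.Lib.Leech.RootlessLattice

set_option autoImplicit false

open Matrix

namespace Cfsg.Agent.Leech

open Cfsg Finset

variable {B : Matrix (Fin 24) (Fin 24) ℤ}

theorem latDot_add_left (x y z : Fin 24 → ℤ) : latDot B (x + y) z = latDot B x z + latDot B y z := by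
  simp [latDot, add_dotProduct]

theorem latDot_sub_left (x y z : Fin 24 → ℤ) : latDot B (x - y) z = latDot B x z - latDot B y z := by
  simp [latDot, sub_dotProduct]

theorem latDot_smul_left (c : ℤ) (x z : Fin 24 → ℤ) : latDot B (c • x) z = c * latDot B x z := by
  rw [latDot, smul_dotProduct, smul_eq_mul]; rfl

theorem latDot_sum_left {ι : Type*} (s : Finset ι) (f : ι → Fin 24 → ℤ) (z : Fin 24 → ℤ) :
    latDot B (∑ i ∈ s, f i) z = ∑ i ∈ s, latDot B (f i) z := by
  simp [latDot, sum_dotProduct]

theorem latDot_neg_neg (x z : Fin 24 → ℤ) :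
    latDot B (-x) z = -latDot B x z ∧ latDot B x (-z) = -latDot B x z := by
  simp [latDot, neg_dotProduct, mulVec_neg, dotProduct_neg]

/-- An orthogonal frame of 24 congruent vectors of norm 8. -/
structure LatFrame (B : Matrix (Fin 24) (Fin 24) ℤ) where
  e : GolayPt → Fin 24 → ℤ
  norm : ∀ i, latDot B (e i) (e i) = 8
  orth : ∀ i j, i ≠ j → latDot B (e i) (e j) = 0
  congr : ∀ i j k, (2 : ℤ) ∣ (e i - e j) k

theorem exists_latFrame (h : IsRootless B) {x : Fin 24 → ℤ} (hx : latNorm B x = 8)
    (h48 : {y : Fin 24 → ℤ | latNorm B y = 8 ∧ ∀ i, (2 : ℤ) ∣ (x - y) i}.ncard = 48) :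
    Nonempty (LatFrame B) := by
  classical
  have hfin := Set.finite_of_ncard_ne_zero (by rw [h48]; norm_num :
    {y : Fin 24 → ℤ | latNorm B y = 8 ∧ ∀ i, (2 : ℤ) ∣ (x - y) i}.ncard ≠ 0)
  set S := hfin.toFinset with hS
  have memS : ∀ y, y ∈ S ↔ latNorm B y = 8 ∧ ∀ i, (2 : ℤ) ∣ (x - y) i := fun y => hfin.mem_toFinset
  have hneg : ∀ y ∈ S, -y ∈ S := fun y hy => by
    rw [memS] at hy ⊢
    refine ⟨by rw [latNorm_neg]; exact hy.1, fun i => ?_⟩
    have := hy.2 i
    simp only [Pi.sub_apply, Pi.neg_apply] at this ⊢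
    omega
  have hcong : ∀ y ∈ S, ∀ z ∈ S, ∀ i, (2 : ℤ) ∣ (y - z) i := fun y hy z hz i => by
    have h1 := ((memS y).1 hy).2 i
    have h2 := ((memS z).1 hz).2 i
    simp only [Pi.sub_apply] at h1 h2 ⊢
    omega
  have hne : ∀ y ∈ S, toLex (-y) ≠ toLex y := fun y hy e => by
    have h0 : y = 0 := funext fun i => by
      have := congrFun (toLex.injective e) i
      simp only [Pi.neg_apply] at this
      simp only [Pi.zero_apply]
      omega
    have := ((memS y).1 hy).1
    rw [h0, latNorm_zero] at this
    omega
  set T := S.filter fun y => toLex (-y) < toLex y with hT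
  have himg : (S.filter fun y => ¬toLex (-y) < toLex y) = T.image fun y => -y := by
    ext y
    simp only [hT, mem_filter, mem_image]
    constructor
    · rintro ⟨hy, hlt⟩
      refine ⟨-y, ⟨hneg y hy, ?_⟩, neg_neg y⟩
      rw [neg_neg]
      exact lt_of_le_of_ne (not_lt.1 hlt) (hne y hy).symm
    · rintro ⟨z, ⟨hz, hlt⟩, rfl⟩
      refine ⟨hneg z hz, ?_⟩
      rw [neg_neg]
      exact not_lt.2 hlt.le
  have hTcard : T.card = 24 := by
    have h1 := card_filter_add_card_filter_not (s := S) fun y => toLex (-y) < toLex y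
    rw [himg, card_image_of_injective _ neg_injective, ← hT, hS,
      ← Set.ncard_eq_toFinset_card _ hfin, h48] at h1
    omega
  let E : GolayPt ≃ T := Fintype.equivOfCardEq (by rw [Fintype.card_coe, hTcard]; rfl)
  have hmem : ∀ i, (E i : Fin 24 → ℤ) ∈ S := fun i => (mem_filter.1 (E i).2).1
  refine ⟨⟨fun i => E i, fun i => ((memS _).1 (hmem i)).1, fun i j hij => ?_,
    fun i j => hcong _ (hmem i) _ (hmem j)⟩⟩
  rcases congr_class h (le_of_eq ((memS _).1 (hmem i)).1) (le_of_eq ((memS _).1 (hmem j)).1)
    (hcong _ (hmem i) _ (hmem j)) with e | e | e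
  · exact absurd (E.injective (Subtype.ext e)).symm hij
  · have h1 := (mem_filter.1 (E i).2).2
    have h2 := (mem_filter.1 (E j).2).2
    rw [e, neg_neg] at h2
    exact absurd h2 (lt_asymm h1)
  · exact e.2.2

namespace LatFrame

variable (F : LatFrame B)

/-- Coordinates with respect to the frame. -/
def coords : (Fin 24 → ℤ) →+ (GolayPt → ℤ) where
  toFun x i := latDot B x (F.e i)
  map_zero' := by funext i; simp [latDot]
  map_add' x y := funext fun i => latDot_add_left x y (F.e i)

/-- Eight times a vector is the combination of the frame given by its coordinates. -/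
theorem expand (h : IsRootless B) (x : Fin 24 → ℤ) :
    (8 : ℤ) • x = ∑ i, F.coords x i • F.e i := by
  classical
  by_contra hne
  set y := (8 : ℤ) • x - ∑ i, F.coords x i • F.e i with hy
  have hy0 : y ≠ 0 := sub_ne_zero.2 hne
  have horth : ∀ j, latDot B y (F.e j) = 0 := fun j => by
    rw [hy, latDot_sub_left, latDot_smul_left, latDot_sum_left, sum_eq_single j]
    · rw [latDot_smul_left, F.norm, show F.coords x j = latDot B x (F.e j) from rfl]; ring
    · intro i _ hij
      rw [latDot_smul_left, F.orth i j hij, mul_zero]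
    · simp
  have hinj : Function.Injective F.e := fun i j e => by
    by_contra hij
    have := F.orth i j hij
    rw [e, F.norm] at this
    omega
  have hpos : ∀ i, F.e i ≠ 0 := fun i e => by
    have := F.norm i
    rw [e] at this
    simp [latDot] at this
  set P := univ.image F.e with hP
  set N := P.image fun z => -z with hN
  have hPN : Disjoint P N := by
    simp only [hP, hN, disjoint_left, mem_image, mem_univ, true_and]
    rintro _ ⟨i, rfl⟩ ⟨_, ⟨j, rfl⟩, e⟩
    by_cases hij : i = j
    · subst hij
      have h2 := congrArg (fun z => latDot B z (F.e i)) e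
      simp only [(latDot_neg_neg (F.e i) (F.e i)).1, F.norm] at h2
      omega
    · have h2 := congrArg (fun z => latDot B z (F.e i)) e
      simp only [(latDot_neg_neg (F.e j) (F.e i)).1, F.norm, F.orth j i (Ne.symm hij)] at h2
      omega
  have hnot : y ∉ P ∪ N := by
    simp only [hP, hN, mem_union, mem_image, mem_univ, true_and]
    rintro (⟨i, e⟩ | ⟨_, ⟨i, rfl⟩, e⟩) <;> have := horth i <;> rw [← e] at this
    · rw [F.norm] at this; omega
    · rw [(latDot_neg_neg _ _).1, F.norm] at this; omega
  have hT : ∀ z ∈ insert y (P ∪ N), z = y ∨ ∃ i, z = F.e i ∨ z = -F.e i := by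
    intro z hz
    simp only [hP, hN, mem_insert, mem_union, mem_image, mem_univ, true_and] at hz
    rcases hz with e | ⟨i, e⟩ | ⟨_, ⟨i, rfl⟩, e⟩
    · exact Or.inl e
    · exact Or.inr ⟨i, Or.inl e.symm⟩
    · exact Or.inr ⟨i, Or.inr e.symm⟩
  have hcard := card_le_two_mul h (insert y (P ∪ N)) (fun z hz => ?_) (fun z hz z' hz' => ?_)
  · rw [card_insert_of_notMem hnot, card_union_of_disjoint hPN, hN,
      card_image_of_injective _ neg_injective, hP, card_image_of_injective _ hinj, card_univ,
      card_pts] at hcard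
    omega
  · rcases hT z hz with rfl | ⟨i, rfl | rfl⟩
    · exact hy0
    · exact hpos i
    · exact neg_ne_zero.2 (hpos i)
  · have hflip : ∀ i, latDot B (F.e i) y = 0 := fun i => by rw [latDot_comm h.symm]; exact horth i
    rcases hT z hz with rfl | ⟨i, rfl | rfl⟩ <;> rcases hT z' hz' with rfl | ⟨j, rfl | rfl⟩ <;>
      first
        | exact Or.inl rfl
        | (by_cases hij : j = i
           · subst hij
             first
               | exact Or.inl rfl
               | exact Or.inr (Or.inl (neg_neg _).symm)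
               | exact Or.inr (Or.inl rfl)
           · right; right
             simp [(latDot_neg_neg _ _).1, (latDot_neg_neg _ _).2, F.orth i j (Ne.symm hij)])
        | (right; right; simp [(latDot_neg_neg _ _).1, (latDot_neg_neg _ _).2, horth, hflip])

theorem dotInt_coords (h : IsRootless B) (x z : Fin 24 → ℤ) :
    dotInt (F.coords x) (F.coords z) = 8 * latDot B x z := by
  calc dotInt (F.coords x) (F.coords z) = ∑ i, latDot B (F.coords x i • F.e i) z := by
        refine sum_congr rfl fun i _ => ?_
        rw [latDot_smul_left, latDot_comm h.symm (F.e i) z]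
        rfl
    _ = latDot B ((8 : ℤ) • x) z := by rw [F.expand h x, latDot_sum_left]
    _ = _ := latDot_smul_left _ _ _

theorem sqNorm_coords (h : IsRootless B) (x : Fin 24 → ℤ) :
    sqNorm (F.coords x) = 8 * latNorm B x := by
  rw [show sqNorm (F.coords x) = dotInt (F.coords x) (F.coords x) from
    sum_congr rfl fun i _ => sq _, F.dotInt_coords h x x]
  rfl

theorem coords_injective (h : IsRootless B) : Function.Injective F.coords := by
  rw [injective_iff_map_eq_zero]
  intro x hx
  by_contra h0
  have := h.pos x h0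
  have h1 := F.sqNorm_coords h x
  rw [hx] at h1
  simp [sqNorm] at h1
  omega

theorem coords_frame (i : GolayPt) : F.coords (F.e i) = Pi.single i 8 := by
  funext j
  show latDot B (F.e i) (F.e j) = _
  by_cases hij : j = i
  · subst hij; rw [F.norm, Pi.single_eq_same]
  · rw [F.orth i j (Ne.symm hij), Pi.single_eq_of_ne hij]

theorem isModel (h : IsRootless B)
    (h4 : {x : Fin 24 → ℤ | latNorm B x = 4}.ncard = 196560) : IsModel F.coords.range where
  dot := by
    rintro _ ⟨x, rfl⟩ _ ⟨z, rfl⟩
    exact ⟨_, F.dotInt_coords h x z⟩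
  even := by
    rintro _ ⟨x, rfl⟩
    obtain ⟨k, hk⟩ := h.even x
    exact ⟨k, by rw [F.sqNorm_coords h, hk]; ring⟩
  noRoot := by
    rintro _ ⟨x, rfl⟩ hn
    rw [F.sqNorm_coords h] at hn
    exact h.noRoot x (by omega)
  pair := by
    intro i j _
    choose z hz using F.congr i j
    refine ⟨z, ?_⟩
    have he : F.e i - F.e j = z + z := funext fun k => by
      have := hz k; rw [Pi.add_apply]; omega
    have := congrArg F.coords he
    rw [map_sub, map_add, F.coords_frame, F.coords_frame] at this
    funext k
    have hk := congrFun this k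
    simp only [Pi.sub_apply, Pi.add_apply, Pi.single_apply] at hk ⊢
    split_ifs at hk ⊢ <;> omega
  single8 := fun i => ⟨F.e i, F.coords_frame i⟩
  count := by
    rw [← h4, ← Set.ncard_image_of_injective _ (F.coords_injective h)]
    congr 1
    ext a
    simp only [Set.mem_ofPred_eq, Set.mem_image]
    constructor
    · rintro ⟨⟨x, rfl⟩, hn⟩
      rw [F.sqNorm_coords h] at hn
      exact ⟨x, by omega, rfl⟩
    · rintro ⟨x, hx, rfl⟩
      exact ⟨⟨x, rfl⟩, by rw [F.sqNorm_coords h, hx]; rfl⟩

end LatFrame

/-- A frame and the count of minimal vectors give an isometry with the Leech lattice. -/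
theorem exists_isometry (h : IsRootless B) (F : LatFrame B)
    (h4 : {x : Fin 24 → ℤ | latNorm B x = 4}.ncard = 196560) :
    ∃ f : (Fin 24 → ℤ) ≃+ leechLattice, ∀ x : Fin 24 → ℤ,
      sqNorm ((f x : leechLattice) : GolayPt → ℤ) = 8 * latNorm B x := by
  obtain ⟨s, e, hs, hmap⟩ := (F.isModel h h4).exists_signPerm
  set g : (Fin 24 → ℤ) →+ (GolayPt → ℤ) := (signPerm s e).comp F.coords with hg
  have hnorm : ∀ x, sqNorm (g x) = 8 * latNorm B x := fun x => by
    rw [hg, AddMonoidHom.comp_apply, sqNorm_signPerm hs, F.sqNorm_coords h]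
  have hrange : g.range = leechLattice := by
    rw [hg, ← AddMonoidHom.map_range, hmap, leechLattice_eq]
  have hinj : Function.Injective g := by
    rw [injective_iff_map_eq_zero]
    intro x hx
    by_contra h0
    have := h.pos x h0
    have h1 := hnorm x
    rw [hx] at h1
    simp [sqNorm] at h1
    omega
  refine ⟨(AddMonoidHom.ofInjective hinj).trans (AddEquiv.addSubgroupCongr hrange), fun x => ?_⟩
  exact hnorm x

end Cfsg.Agent.Leech
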