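/-
An involution of the Higman-Sims group without fixed points on the 100 points.
-/
import Cfsg.Agent.Lib.Leech.HSGroup

set_option autoImplicit false

namespace Cfsg.Agent.Leech

open Cfsg Finset Cfsg.Spor MulAction

/-- Every member of a set filled by a certified orbit has its packed form in the certificate. -/
theorem orbit_list {F : List ℕ} {gens : List Gen} {seed : ℕ} {steps : List ℕ} {n : ℕ}
    (h : orbitOK F gens seed steps n = true) (x₀ : leechLattice)
    (hx₀ : (x₀ : GolayPt → ℤ) = dec seed) (A : Set leechLattice) (hfin : A.Finite)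
    (hA : A.ncard ≤ n) (hsub : ∀ g : Co0, FixesAll F g → g • x₀ ∈ A) :
    ∀ y ∈ A, ∃ Y ∈ seed :: steps.map stepVec, (y : GolayPt → ℤ) = dec Y := by
  classical
  simp only [orbitOK, Bool.and_eq_true, List.all_eq_true, beq_iff_eq, decide_eq_true_eq] at h
  obtain ⟨⟨⟨⟨hgens, htree⟩, hlen⟩, hlt⟩, hins⟩ := h
  set L := seed :: steps.map stepVec with hL
  have hreach : ∀ Y ∈ L, ∃ y ∈ A, (y : GolayPt → ℤ) = dec Y := by
    intro Y hY
    rcases List.mem_cons.1 hY with rfl | hY
    · exact ⟨x₀, by simpa using hsub 1 (fixesAll_one F), hx₀⟩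
    obtain ⟨s, hs, rfl⟩ := List.mem_map.1 hY
    obtain ⟨c, hc, hcs⟩ := vecTreeOK_spec (F := F) (gens := gens) (fun a ha => by
      obtain ⟨c, hc⟩ := exists_gen (hgens a ha).1
      exact ⟨c, fun Z hZ v hv => Subtype.ext (by rw [hc Z v hv, edgeOK_spec ((hgens a ha).2 Z hZ), hv]),
        fun X Y he v hv => by rw [hc X v hv, edgeOK_spec he]⟩) x₀ steps [seed]
      (fun Z hZ => ⟨1, fixesAll_one F, by rw [one_smul, hx₀, List.mem_singleton.1 hZ]⟩) htree s hs
    exact ⟨c • x₀, hsub c hc, hcs⟩
  choose f hfA hfv using hreach
  intro y hy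
  set S := L.toFinset.attach.image fun Y => f Y.1 (List.mem_toFinset.1 Y.2) with hS
  have hcard : S.card = n := by
    rw [hS, card_image_of_injective, card_attach,
      List.toFinset_card_of_nodup (Mathieu.insAllOK_spec _ _ _ hins).1, hL]
    · simpa using hlen
    · rintro ⟨Y, hY⟩ ⟨Z, hZ⟩ e
      have e' := congrArg Subtype.val e
      simp only [hfv] at e'
      exact Subtype.ext (dec_injective (hlt _ (List.mem_toFinset.1 hY)) (hlt _ (List.mem_toFinset.1 hZ)) e')
  have hSA : (S : Set leechLattice) ⊆ A := fun z hz => by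
    obtain ⟨Y, -, rfl⟩ := mem_image.1 hz
    exact hfA _ _
  have he : (S : Set leechLattice) = A :=
    Set.eq_of_subset_of_ncard_le hSA (by rwa [Set.ncard_coe_finset, hcard]) hfin
  rw [← he] at hy
  obtain ⟨Y, -, rfl⟩ := mem_image.1 hy
  exact ⟨Y.1, List.mem_toFinset.1 Y.2, hfv _ _⟩

/-- The involution. -/
def invGen : Gen := [(0x6080f16130315011211090c000b07140d0a04050e171002, 0x3380b), (0x14060a00070809050c0e0d121702010b0403150f10111613, 0xa54b00), (0x14040e0a0d01000c1510030f11170605070b161309080212, 0x140659)]

/-- Its orbits on the 100 points. -/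
def invPairs : List (ℕ × ℕ) := [
  (0x488888888888888888888884, 0x688688868886888886886686),
  (0x688888688688888888686666, 0x688688888888686666888886),
  (0x668888868868888888868666, 0x686666888886886888888886),
  (0x686868888888888866888666, 0x688668888888688888866866),
  (0x688886888886688688888666, 0x686688668888888688888866),
  (0x688688886888866888888666, 0x688686688888888868868686),
  (0x688888888868868686886866, 0x686886688888688886886886),
  (0x688886868888886868886866, 0x688888688886886886868866),
  (0x666888886886888888886866, 0x688866868888888686868886),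
  (0x688888886888888668668866, 0x7777777777b7777777777777),
  (0x686886888688868888868866, 0x777777777b77777777777777),
  (0x668686888888888886688866, 0x686888888888886688866686),
  (0x686888888868686888688866, 0x77777777b777777777777777),
  (0x688868868886868888688866, 0x686888868886688868868886),
  (0x688888866688688886888866, 0x688868688886888668886886),
  (0x668888688888668868888866, 0x7b7777777777777777777777),
  (0x688688888666888868888866, 0x688868668888686888888686),
  (0x668868888688886688888866, 0x7777777777777b7777777777),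
  (0x688866686868888888888866, 0x777777777777777777b77777),
  (0x688888886868688868886686, 0x688668688688868886888886),
  (0x668866888888868888886686, 0x686688886868888886868886),
  (0x688888888888668886668686, 0x686688888888868868686886),
  (0x688868886686888888868686, 0x668668866888888868888886),
  (0x668888888886886868688686, 0x688688868688886888668886),
  (0x688668888868888688688686, 0x666688888688688888888686),
  (0x686886866888888888688686, 0x668688888886868688868886),
  (0x668888686888888686888686, 0x688686886688888688886886),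
  (0x688886888668886886888686, 0x668688688868886888886886),
  (0x688888868688868668888686, 0x688688686886688888688886),
  (0x686888688866868888888686, 0x688686868868668888888886),
  (0x688886888866888888666886, 0x666888868888866886888886),
  (0x668888888688888866866886, 0x688868886888886886686886),
  (0x688888666888868888866886, 0x688886886886868866888886),
  (0x668888868888688688686886, 0x686888888686888686688886),
  (0x688888888686666888886886, 0x688888668868888866688886),
  (0x686868868668888888886886, 0x668868888866688886888886),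
  (0x666868688888888888668886, 0x777777b77777777777777777),
  (0x688868888868866868868886, 0x777777777777777b77777777),
  (0x688888688668688688868886, 0x7777777777777777777b7777),
  (0x668886886888686888868886, 0x777777777777b77777777777),
  (0x688866888688688868688886, 0x77777b777777777777777777),
  (0x688886688888866688688886, 0x7777b7777777777777777777),
  (0x668888886668868888688886, 0x7777777777777777777777b7),
  (0x666886888868888668888886, 0x7777777777777777b7777777),
  (0x686888686688886868888886, 0x77b777777777777777777777),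
  (0x688888866866886688888886, 0x668886668686888888888886),
  (0x686868886888668688888886, 0x77777777777777b777777777),
  (0x777b77777777777777777777, 0x777777777777777777777b77),
  (0x7777777b7777777777777777, 0x77777777777b777777777777),
  (0x77777777777777777b777777, 0x77777777777777777777b777)]

theorem invPairs_ok : invGen.ok = true ∧
    (Orb.hsPointsF.all fun Z => edgeOK invGen Z Z) = true ∧
    (invPairs.all fun p => edgeOK invGen p.1 p.2 && edgeOK invGen p.2 p.1 && p.1 != p.2 &&
      decide (p.1 < 16 ^ 24) && decide (p.2 < 16 ^ 24)) = true ∧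
    ((Orb.hsPointsSeed :: Orb.hsPointsSteps.map stepVec).all fun Y =>
      invPairs.any fun p => p.1 == Y || p.2 == Y) = true := by
  decide +kernel

theorem hs_involution_base : ∃ g : hsGrp, orderOf g = 2 ∧ ∀ y : HSPoint, g • y ≠ y := by
  obtain ⟨hok, hF, hP, hcov⟩ := invPairs_ok
  simp only [List.all_eq_true, Bool.and_eq_true, bne_iff_ne, decide_eq_true_eq] at hF hP
  simp only [List.all_eq_true, List.any_eq_true, Bool.or_eq_true, beq_iff_eq] at hcov
  obtain ⟨a, ha⟩ := exists_gen hok
  have hfix : FixesAll Orb.hsPointsF a := fun Z hZ v hv =>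
    Subtype.ext (by rw [ha Z v hv, edgeOK_spec (hF Z hZ), hv])
  obtain ⟨h1, h2⟩ := fix_hs hfix
  let g : hsGrp := ⟨a, mem_stabilizer_iff.2 h1, mem_stabilizer_iff.2 (by
    rw [baseW, sub_eq_add_neg, co0_add, h2, co0_neg, h1])⟩
  have hedge : ∀ {Y Z : ℕ}, edgeOK invGen Y Z = true → ∀ y : HSPoint,
      ((y : leechLattice) : GolayPt → ℤ) = dec Y → (((g • y : HSPoint) : leechLattice) : GolayPt → ℤ) = dec Z :=
    fun {Y Z} he y hy => (ha Y _ hy).trans (edgeOK_spec he)
  have hmove : ∀ y : HSPoint, g • y ≠ y ∧ g • g • y = y := by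
    intro y
    obtain ⟨Y, hY, hyY⟩ := orbit_list Orb.hsPoints_ok baseV hsF.2.2.2.2.symm (decompAt baseU baseY 0)
      (decompAt_finite _ _ _) hs_counts_base.1.le (fun h hh => by
        obtain ⟨e1, e2⟩ := fix_hs hh
        have := (decompAt_smul (g := h)).2 baseV_mem_hs
        rwa [e1, e2] at this) y.1 (by rw [← hsSet_base]; exact y.2)
    obtain ⟨⟨p, q⟩, hp, hpY⟩ := hcov Y hY
    obtain ⟨⟨⟨⟨e12, e21⟩, hne⟩, l1⟩, l2⟩ := hP _ hp
    have key : ∀ {P Q : ℕ}, edgeOK invGen P Q = true → edgeOK invGen Q P = true → P ≠ Q → P < 16 ^ 24 →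
        Q < 16 ^ 24 → ((y : leechLattice) : GolayPt → ℤ) = dec P → g • y ≠ y ∧ g • g • y = y := by
      intro P Q eP eQ hPQ lP lQ hy
      have h := hedge eP y hy
      refine ⟨fun e => hPQ (dec_injective lP lQ ?_), Subtype.ext (Subtype.ext ?_)⟩
      · rw [← hy, ← h, e]
      · rw [hedge eQ _ h, hy]
    rcases hpY with rfl | rfl
    · exact key e12 e21 hne l1 l2 hyY
    · exact key e21 e12 hne.symm l2 l1 hyY
  refine ⟨g, orderOf_eq_prime ?_ fun e => ?_, fun y => (hmove y).1⟩
  · refine eq_of_smul_eq_smul fun y : HSPoint => ?_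
    rw [sq, mul_smul, one_smul, (hmove y).2]
  · exact (hmove ptV).1 (by rw [e, one_smul])

theorem hs_involution {v w : leechLattice} (hv : sqNorm (v : GolayPt → ℤ) = 48)
    (hw : sqNorm (w : GolayPt → ℤ) = 48) (hvw : dotInt (v : GolayPt → ℤ) (w : GolayPt → ℤ) = -32) :
    ∃ g : Co0, g • v = v ∧ g • w = w ∧ orderOf g = 2 ∧ ∀ x ∈ hsSet v w, g • x ≠ x := by
  obtain ⟨a, a1, a2⟩ := hs_normal hv hw hvw
  obtain ⟨g, hg, hfree⟩ := hs_involution_base
  refine ⟨a⁻¹ * (g : Co0) * a, ?_, ?_, ?_, fun x hx e => ?_⟩
  · rw [mul_smul, mul_smul, inv_smul_eq_iff, a1, mem_stabilizer_iff.1 g.2.1]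
  · rw [mul_smul, mul_smul, inv_smul_eq_iff, a2, mem_stabilizer_iff.1 g.2.2]
  · rw [← (MulAut.conj a).orderOf_eq]
    simp [mul_assoc, hg]
  · rw [mul_smul, mul_smul, inv_smul_eq_iff] at e
    exact hfree ⟨a • x, by rw [← a1, ← a2]; exact hsSet_smul.2 hx⟩ (Subtype.ext e)

end Cfsg.Agent.Leech
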