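import Cfsg.Agent.Lib.Leech.Order
import Cfsg.Agent.Lib.Mathieu.PermCert
import Mathlib.Data.Matrix.Mul

/-!
Elements of `Co0` given by integer matrices (eight times the action on coordinates), with kernel
checks on lists.
-/

set_option autoImplicit false

namespace Cfsg.Agent.Leech

open Cfsg Finset

/-- Dot product of lists. -/
def dotZ : List ℤ → List ℤ → ℤ
  | a :: l, b :: m => a * b + dotZ l m
  | _, _ => 0

/-- An entry. -/
def entM (A : List (List ℤ)) (i j : ℕ) : ℤ := (A.getD i []).getD j 0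

/-- Transpose of 24 columns. -/
def trM (A : List (List ℤ)) : List (List ℤ) :=
  (List.range 24).map fun j => A.map fun r => r.getD j 0

/-- Digits in base `2 ^ 32`. -/
def packZ (l : List ℤ) : ℤ := l.foldr (fun a acc => a + 4294967296 * acc) 0

/-- Signed digit extraction. -/
def unpackZ : ℕ → ℤ → List ℤ
  | 0, _ => []
  | n + 1, x => ((x + 2147483648) % 4294967296 - 2147483648) ::
      unpackZ n ((x + 2147483648) / 4294967296)

/-- A combination of packed rows. -/
def combZ (r P : List ℤ) : ℤ := (List.zipWith (fun a b => a * b) r P).foldr (fun a acc => a + acc) 0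

/-- Product. -/
def prodM (A B : List (List ℤ)) : List (List ℤ) :=
  let P := B.map packZ
  A.map fun r => unpackZ 24 (combZ r P)

/-- Scaling. -/
def scaleM (k : ℤ) (A : List (List ℤ)) : List (List ℤ) := A.map fun r => r.map (k * ·)

/-- Diagonal. -/
def diagM (k : ℤ) : List (List ℤ) :=
  (List.range 24).map fun i => (List.range 24).map fun j => if i == j then k else 0

/-- Shape. -/
def shapeM (A : List (List ℤ)) : Bool :=
  A.length == 24 && A.all fun r => r.length == 24 && r.all fun x => decide (x.natAbs ≤ 4096)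

/-- The matrix on coordinates. -/
def Mof (A : List (List ℤ)) : Matrix GolayPt GolayPt ℤ :=
  Matrix.of fun p q => entM A (Mathieu.ptEnc p).val (Mathieu.ptEnc q).val

theorem sum_range_getD : ∀ (a b : List ℤ) (n : ℕ), a.length = n → b.length = n →
    dotZ a b = ∑ i ∈ Finset.range n, a.getD i 0 * b.getD i 0
  | [], _, n, ha, _ => by subst ha; simp [dotZ]
  | x :: a, [], n, ha, hb => by subst hb; simp at ha
  | x :: a, y :: b, n, ha, hb => by
    subst ha
    simp only [List.length_cons, Nat.add_right_cancel_iff] at hb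
    rw [List.length_cons, Finset.sum_range_succ', dotZ, sum_range_getD a b _ rfl hb, add_comm]
    rfl

theorem sum_pt (F : ℕ → ℤ) :
    ∑ q : GolayPt, F (Mathieu.ptEnc q).val = ∑ i ∈ Finset.range 24, F i := by
  rw [Equiv.sum_comp Mathieu.ptEnc (fun k : Fin 24 => F k.val), Fin.sum_univ_eq_sum_range]

theorem getD_map_range {α : Type*} (f : ℕ → α) (d : α) {n i : ℕ} (hi : i < n) :
    ((List.range n).map f).getD i d = f i := by
  simp [List.getD, hi]

theorem entM_trM {A : List (List ℤ)} {i j : ℕ} (hj : j < 24) : entM (trM A) j i = entM A i j := by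
  rw [entM, trM, getD_map_range _ _ hj, entM]
  simp only [List.getD, List.getElem?_map]
  rcases h : A[i]? with _ | r <;> simp

theorem packZ_eq : ∀ (l : List ℤ) (n : ℕ), l.length = n →
    packZ l = ∑ j ∈ Finset.range n, l.getD j 0 * 4294967296 ^ j
  | [], n, h => by subst h; rfl
  | a :: l, n, h => by
    subst h
    rw [List.length_cons, Finset.sum_range_succ', show packZ (a :: l) = a + 4294967296 * packZ l from rfl,
      packZ_eq l _ rfl, Finset.mul_sum, add_comm]
    simp only [pow_zero, mul_one, List.getD_cons_zero, add_left_inj]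
    exact Finset.sum_congr rfl fun j _ => by rw [List.getD_cons_succ]; ring

theorem unpackZ_packZ : ∀ (l : List ℤ), (∀ x ∈ l, -2147483648 ≤ x ∧ x < 2147483648) →
    unpackZ l.length (packZ l) = l
  | [], _ => rfl
  | a :: l, h => by
    have ha := h a List.mem_cons_self
    have e : packZ (a :: l) = a + 4294967296 * packZ l := rfl
    rw [List.length_cons, unpackZ, e,
      show (a + 4294967296 * packZ l + 2147483648) % 4294967296 - 2147483648 = a by omega,
      show (a + 4294967296 * packZ l + 2147483648) / 4294967296 = packZ l by omega,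
      unpackZ_packZ l fun x hx => h x (List.mem_cons_of_mem _ hx)]

theorem combZ_eq : ∀ (r P : List ℤ) (n : ℕ), r.length = n → P.length = n →
    combZ r P = ∑ k ∈ Finset.range n, r.getD k 0 * P.getD k 0
  | [], _, n, h, _ => by subst h; rfl
  | x :: r, [], n, h, h' => by subst h'; simp at h
  | x :: r, y :: P, n, h, h' => by
    subst h
    simp only [List.length_cons, Nat.add_right_cancel_iff] at h'
    rw [List.length_cons, Finset.sum_range_succ', show combZ (x :: r) (y :: P) = x * y + combZ r P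
      from rfl, combZ_eq r P _ rfl h', add_comm]
    rfl

theorem shapeM_bound {A : List (List ℤ)} (hA : shapeM A = true) (i j : ℕ) :
    (entM A i j).natAbs ≤ 4096 := by
  simp only [shapeM, Bool.and_eq_true, beq_iff_eq, List.all_eq_true, decide_eq_true_eq] at hA
  rw [entM, List.getD, List.getD]
  rcases h : A[i]? with _ | r
  · simp
  · rcases h' : r[j]? with _ | x
    · simp [h']
    · simp only [Option.getD_some, h']
      exact (hA.2 r (List.mem_of_getElem? h)).2 x (List.mem_of_getElem? h')

theorem prodM_eq {A B : List (List ℤ)} (hA : shapeM A = true) (hB : shapeM B = true) :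
    prodM A B = A.map fun r => (trM B).map fun c => dotZ r c := by
  have hA' := hA
  have hB' := hB
  simp only [shapeM, Bool.and_eq_true, beq_iff_eq, List.all_eq_true, decide_eq_true_eq] at hA hB
  refine List.map_congr_left fun r hr => ?_
  set d := (trM B).map fun c => dotZ r c with hd
  have hlen : d.length = 24 := by simp [hd, trM]
  have hr24 : r.length = 24 := (hA.2 r hr).1
  have hcolLen : ∀ c ∈ trM B, c.length = 24 := by
    intro c hc
    obtain ⟨j, -, rfl⟩ := List.mem_map.1 hc
    rw [List.length_map, hB.1]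
  have hdj : ∀ j, j < 24 → d.getD j 0 = ∑ k ∈ Finset.range 24, r.getD k 0 * entM B k j := by
    intro j hj
    have hj' : j < (trM B).length := by simp [trM, hj]
    rw [hd, List.getD, List.getElem?_map, List.getElem?_eq_getElem hj', Option.map_some,
      Option.getD_some, sum_range_getD _ _ 24 hr24 (hcolLen _ (List.getElem_mem hj'))]
    refine Finset.sum_congr rfl fun k _ => ?_
    rw [← entM_trM (A := B) (i := k) hj]
    simp [entM, List.getD, hj']
  have e : combZ r (B.map packZ) = packZ d := by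
    rw [combZ_eq _ _ 24 hr24 (by rw [List.length_map, hB.1]), packZ_eq d 24 hlen]
    have hP : ∀ k ∈ Finset.range 24, (B.map packZ).getD k 0 =
        ∑ j ∈ Finset.range 24, entM B k j * 4294967296 ^ j := by
      intro k hk
      have hk' : k < B.length := by rw [hB.1]; exact Finset.mem_range.1 hk
      rw [List.getD, List.getElem?_map, List.getElem?_eq_getElem hk', Option.map_some,
        Option.getD_some, packZ_eq _ 24 (hB.2 _ (List.getElem_mem hk')).1]
      simp [entM, List.getD, hk']
    rw [Finset.sum_congr rfl fun k hk => by rw [hP k hk, Finset.mul_sum], Finset.sum_comm]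
    refine Finset.sum_congr rfl fun j hj => ?_
    rw [hdj j (Finset.mem_range.1 hj), Finset.sum_mul]
    exact Finset.sum_congr rfl fun k _ => by ring
  rw [e]
  refine (congrArg (fun n => unpackZ n (packZ d)) hlen.symm).trans (unpackZ_packZ d fun x hx => ?_)
  obtain ⟨j, hj, rfl⟩ := List.getElem_of_mem hx
  have hj24 : j < 24 := by omega
  have e' := hdj j hj24
  rw [List.getD, List.getElem?_eq_getElem hj, Option.getD_some] at e'
  have hb : |∑ k ∈ Finset.range 24, r.getD k 0 * entM B k j| ≤
      ∑ _k ∈ Finset.range 24, (4096 * 4096 : ℤ) := by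
    refine (Finset.abs_sum_le_sum_abs _ _).trans (Finset.sum_le_sum fun k _ => ?_)
    rw [abs_mul]
    refine mul_le_mul ?_ ?_ (abs_nonneg _) (by norm_num)
    · rw [List.getD]
      rcases h : r[k]? with _ | x
      · simp
      · simp only [Option.getD_some]
        have := (hA.2 r hr).2 x (List.mem_of_getElem? h)
        exact abs_le.2 ⟨by omega, by omega⟩
    · have := shapeM_bound hB' k j
      exact abs_le.2 ⟨by omega, by omega⟩
  rw [← e', Finset.sum_const, Finset.card_range, nsmul_eq_mul, abs_le] at hb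
  constructor <;> [have := hb.1; have := hb.2] <;> push_cast at this <;> omega

theorem entM_prodM {A B : List (List ℤ)} (hA : shapeM A = true) (hB : shapeM B = true) {i j : ℕ}
    (hi : i < 24) (hj : j < 24) :
    entM (prodM A B) i j = ∑ k ∈ Finset.range 24, entM A i k * entM B k j := by
  rw [prodM_eq hA hB]
  simp only [shapeM, Bool.and_eq_true, beq_iff_eq, List.all_eq_true] at hA hB
  have hi' : i < A.length := by omega
  have hj' : j < (trM B).length := by simp [trM, hj]
  have hlen : (A[i]).length = 24 := (hA.2 _ (List.getElem_mem hi')).1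
  have h1 : entM (A.map fun r => (trM B).map fun c => dotZ r c) i j = dotZ (A[i]) ((trM B)[j]) := by
    simp [entM, List.getD, hi', hj']
  have hcol : ((trM B)[j]).length = 24 := by simp [trM, hB.1]
  rw [h1, sum_range_getD _ _ 24 hlen hcol]
  refine Finset.sum_congr rfl fun k _ => ?_
  have e1 : entM A i k = (A[i]).getD k 0 := by simp [entM, List.getD, hi']
  have e2 : entM (trM B) j k = ((trM B)[j]).getD k 0 := by simp [entM, List.getD, hj']
  rw [e1, ← entM_trM (A := B) (i := k) hj, e2]

theorem Mof_prodM {A B : List (List ℤ)} (hA : shapeM A = true) (hB : shapeM B = true) :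
    Mof (prodM A B) = Mof A * Mof B := by
  ext p q
  rw [Matrix.mul_apply]
  simp only [Mof, Matrix.of_apply]
  rw [entM_prodM hA hB (Mathieu.ptEnc p).isLt (Mathieu.ptEnc q).isLt,
    ← sum_pt (fun k => entM A (Mathieu.ptEnc p).val k * entM B k (Mathieu.ptEnc q).val)]

theorem Mof_scaleM (k : ℤ) (A : List (List ℤ)) : Mof (scaleM k A) = k • Mof A := by
  ext p q
  simp only [Mof, scaleM, entM, Matrix.of_apply, Matrix.smul_apply, smul_eq_mul, List.getD,
    List.getElem?_map]
  rcases h : A[(Mathieu.ptEnc p).val]? with _ | r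
  · simp
  · simp only [Option.map_some, Option.getD_some, List.getElem?_map]
    rcases r[(Mathieu.ptEnc q).val]? with _ | x <;> simp

theorem Mof_diagM (k : ℤ) : Mof (diagM k) = k • (1 : Matrix GolayPt GolayPt ℤ) := by
  ext p q
  simp only [Mof, diagM, entM, Matrix.of_apply, Matrix.smul_apply, smul_eq_mul]
  rw [getD_map_range _ _ (Mathieu.ptEnc p).isLt, getD_map_range _ _ (Mathieu.ptEnc q).isLt]
  by_cases h : p = q
  · subst h; simp
  · have : (Mathieu.ptEnc p).val ≠ (Mathieu.ptEnc q).val := fun e =>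
      h (Mathieu.ptEnc.injective (Fin.ext e))
    simp [this, h, Matrix.one_apply_ne]

theorem Mof_trM (A : List (List ℤ)) : Mof (trM A) = (Mof A).transpose := by
  ext p q
  exact entM_trM (Mathieu.ptEnc p).isLt

/-- `g` acts on coordinates as an eighth of the matrix. -/
def RepM (A : List (List ℤ)) (g : Co0) : Prop :=
  ∀ v : leechLattice,
    (Mof A).mulVec (v : GolayPt → ℤ) = fun p => 8 * ((g • v : leechLattice) : GolayPt → ℤ) p

/-- The values of a function at the points in order. -/
def coordsZ (x : GolayPt → ℤ) : List ℤ :=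
  (List.range 24).map fun k => x (Mathieu.idx Mathieu.ptEnc k)

theorem coordsZ_getD (x : GolayPt → ℤ) (q : GolayPt) :
    (coordsZ x).getD (Mathieu.ptEnc q).val 0 = x q := by
  rw [coordsZ, getD_map_range _ _ (Mathieu.ptEnc q).isLt]
  simp [Mathieu.idx]

theorem mulVec_eq_dotZ {A : List (List ℤ)} (hA : shapeM A = true) (x : GolayPt → ℤ) (p : GolayPt) :
    (Mof A).mulVec x p = dotZ (A.getD (Mathieu.ptEnc p).val []) (coordsZ x) := by
  simp only [shapeM, Bool.and_eq_true, beq_iff_eq, List.all_eq_true] at hA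
  have hp : (Mathieu.ptEnc p).val < A.length := by rw [hA.1]; exact (Mathieu.ptEnc p).isLt
  rw [sum_range_getD _ _ 24 ?_ (by simp [coordsZ]), ← sum_pt]
  · simp only [Matrix.mulVec, dotProduct, coordsZ_getD]
    rfl
  · simp [List.getD, hp, (hA.2 _ (List.getElem_mem hp)).1]

/-- Values of the lattice generators. -/
def genVals : List (List ℤ) :=
  [[4,0,0,0,0,0,0,0,0,0,0,0,0,0,0,0,0,0,0,0,0,0,0,4],
   [0,4,0,0,0,0,0,0,0,0,0,0,0,0,0,0,0,0,0,0,0,0,0,4],
   [0,0,4,0,0,0,0,0,0,0,0,0,0,0,0,0,0,0,0,0,0,0,0,4],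
   [0,0,0,4,0,0,0,0,0,0,0,0,0,0,0,0,0,0,0,0,0,0,0,4],
   [0,0,0,0,4,0,0,0,0,0,0,0,0,0,0,0,0,0,0,0,0,0,0,4],
   [0,0,0,0,0,4,0,0,0,0,0,0,0,0,0,0,0,0,0,0,0,0,0,4],
   [0,0,0,0,0,0,4,0,0,0,0,0,0,0,0,0,0,0,0,0,0,0,0,4],
   [0,0,0,0,0,0,0,4,0,0,0,0,0,0,0,0,0,0,0,0,0,0,0,4],
   [0,0,0,0,0,0,0,0,4,0,0,0,0,0,0,0,0,0,0,0,0,0,0,4],
   [0,0,0,0,0,0,0,0,0,4,0,0,0,0,0,0,0,0,0,0,0,0,0,4],
   [0,0,0,0,0,0,0,0,0,0,4,0,0,0,0,0,0,0,0,0,0,0,0,4],
   [0,0,0,0,0,0,0,0,0,0,0,4,0,0,0,0,0,0,0,0,0,0,0,4],
   [0,0,0,0,0,0,0,0,0,0,0,0,4,0,0,0,0,0,0,0,0,0,0,4],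
   [0,0,0,0,0,0,0,0,0,0,0,0,0,4,0,0,0,0,0,0,0,0,0,4],
   [0,0,0,0,0,0,0,0,0,0,0,0,0,0,4,0,0,0,0,0,0,0,0,4],
   [0,0,0,0,0,0,0,0,0,0,0,0,0,0,0,4,0,0,0,0,0,0,0,4],
   [0,0,0,0,0,0,0,0,0,0,0,0,0,0,0,0,4,0,0,0,0,0,0,4],
   [0,0,0,0,0,0,0,0,0,0,0,0,0,0,0,0,0,4,0,0,0,0,0,4],
   [0,0,0,0,0,0,0,0,0,0,0,0,0,0,0,0,0,0,4,0,0,0,0,4],
   [0,0,0,0,0,0,0,0,0,0,0,0,0,0,0,0,0,0,0,4,0,0,0,4],
   [0,0,0,0,0,0,0,0,0,0,0,0,0,0,0,0,0,0,0,0,4,0,0,4],
   [0,0,0,0,0,0,0,0,0,0,0,0,0,0,0,0,0,0,0,0,0,4,0,4],
   [0,0,0,0,0,0,0,0,0,0,0,0,0,0,0,0,0,0,0,0,0,0,4,4],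
   [0,0,0,0,0,0,0,0,0,0,0,0,0,0,0,0,0,0,0,0,0,0,0,8],
   [1,1,1,1,1,1,1,1,1,1,1,1,1,1,1,1,1,1,1,1,1,1,1,(-3)],
   [2,0,0,0,0,0,0,0,0,0,0,0,2,0,2,0,2,2,2,0,0,0,2,2],
   [0,2,0,0,0,0,0,0,0,0,0,0,2,2,2,2,2,0,0,2,0,0,2,0],
   [0,0,2,0,0,0,0,0,0,0,0,0,2,2,0,2,0,0,2,0,2,0,2,2],
   [0,0,0,2,0,0,0,0,0,0,0,0,2,2,0,0,0,2,2,2,0,2,2,0],
   [0,0,0,0,2,0,0,0,0,0,0,0,2,2,0,0,2,2,0,2,2,0,0,2],
   [0,0,0,0,0,2,0,0,0,0,0,0,0,2,2,0,0,2,2,0,2,2,0,2],
   [0,0,0,0,0,0,2,0,0,0,0,0,0,0,2,2,0,0,2,2,0,2,2,2],
   [0,0,0,0,0,0,0,2,0,0,0,0,2,0,2,2,0,2,2,2,2,0,0,0],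
   [0,0,0,0,0,0,0,0,2,0,0,0,0,2,0,2,2,0,2,2,2,2,0,0],
   [0,0,0,0,0,0,0,0,0,2,0,0,0,0,2,0,2,2,0,2,2,2,2,0],
   [0,0,0,0,0,0,0,0,0,0,2,0,2,0,2,2,2,0,0,0,2,2,0,2],
   [0,0,0,0,0,0,0,0,0,0,0,2,0,2,0,2,2,2,0,0,0,2,2,2]]

theorem genVals_eq : latGens.map coordsZ = genVals := by decide +kernel

/-- Mask of the second binary digits. -/
def maskL : List ℤ → ℕ
  | [] => 0
  | a :: l => (if a / 2 % 2 = 1 then 1 else 0) + 2 * maskL l

theorem testBit_maskL : ∀ (l : List ℤ) (i : ℕ),
    (maskL l).testBit i = decide (l.getD i 0 / 2 % 2 = 1)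
  | [], i => by simp [maskL]
  | a :: l, 0 => by
    rw [maskL, Nat.testBit_zero, List.getD_cons_zero]
    split_ifs with h <;> simp [h]
  | a :: l, i + 1 => by
    rw [maskL, Nat.testBit_succ, List.getD_cons_succ, ← testBit_maskL l i]
    congr 1
    split_ifs <;> omega

/-- Membership in the lattice, on values. -/
def inLList (y : List ℤ) : Bool :=
  y.length == 24 && (y.all fun a => decide (a % 2 = y.getD 23 0 % 2)) &&
    Mathieu.inCode (maskL y) &&
    decide (y.foldr (fun a acc => a + acc) 0 % 8 = 4 * y.getD 23 0 % 8)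

theorem foldr_add_eq : ∀ (l : List ℤ) (n : ℕ), l.length = n →
    l.foldr (fun a acc => a + acc) 0 = ∑ i ∈ Finset.range n, l.getD i 0
  | [], n, h => by subst h; rfl
  | a :: l, n, h => by
    subst h
    rw [List.length_cons, Finset.sum_range_succ', List.foldr_cons, foldr_add_eq l _ rfl, add_comm]
    rfl

theorem inL_of_inLList {x : GolayPt → ℤ} {y : List ℤ}
    (hy : ∀ p, y.getD (Mathieu.ptEnc p).val 0 = x p) (h : inLList y = true) : InL x := by
  simp only [inLList, Bool.and_eq_true, beq_iff_eq, List.all_eq_true, decide_eq_true_eq] at h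
  obtain ⟨⟨⟨hlen, hpar⟩, hcode⟩, hsum⟩ := h
  have h23 : y.getD 23 0 = x none := by rw [← hy none]; rfl
  refine ⟨fun p => ?_, ?_, ?_⟩
  · have hp : (Mathieu.ptEnc p).val < y.length := by rw [hlen]; exact (Mathieu.ptEnc p).isLt
    have := hpar _ (List.getElem_mem hp)
    rwa [h23, show y[(Mathieu.ptEnc p).val] = x p by rw [← hy p]; simp [List.getD, hp]] at this
  · have e : hb x = Mathieu.wordOf (maskL y) := by
      funext p
      rw [Mathieu.wordOf, Mathieu.hasPt, testBit_maskL, hy p]
      split_ifs with h2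
      · exact hb_eq_one_iff.2 (by simpa using h2)
      · refine hb_eq_zero_iff.2 ?_
        simp only [decide_eq_true_eq] at h2
        omega
    rw [e]
    exact Mathieu.wordOf_mem_of_inCode hcode
  · rw [foldr_add_eq y 24 hlen, ← sum_pt (fun i => y.getD i 0), h23] at hsum
    simpa only [hy] using hsum

/-- The product with a vector, given the packed columns `T`. -/
def mvT (T : List ℤ) (x : List ℤ) : List ℤ := unpackZ 24 (combZ x T)

/-- A short vector. -/
def vecOK (x : List ℤ) : Bool := x.length == 24 && x.all fun a => decide (a.natAbs ≤ 4096)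

theorem mvT_eq {A : List (List ℤ)} (hA : shapeM A = true) (hT : shapeM (trM A) = true) {x : List ℤ}
    (hx : vecOK x = true) : mvT ((trM A).map packZ) x = A.map fun r => dotZ r x := by
  simp only [vecOK, Bool.and_eq_true, beq_iff_eq] at hx
  have hX : shapeM (x :: List.replicate 23 (List.replicate 24 0)) = true := by
    simp only [shapeM, List.length_cons, List.length_replicate, List.all_cons, beq_self_eq_true,
      Bool.true_and, Bool.and_eq_true, beq_iff_eq]
    refine ⟨⟨hx.1, hx.2⟩, ?_⟩
    decide +kernel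
  have h := prodM_eq hX hT
  simp only [prodM, List.map_cons, List.cons.injEq] at h
  simp only [shapeM, Bool.and_eq_true, beq_iff_eq, List.all_eq_true] at hA
  rw [mvT, h.1]
  refine List.ext_getElem (by simp [trM, hA.1]) fun j h1 h2 => ?_
  have hj : j < 24 := by simpa [trM] using h1
  simp only [List.getElem_map]
  have hrow : ((trM (trM A))[j]'(by simpa [trM] using hj)) = A[j]'(by omega) := by
    refine List.ext_getElem ?_ fun k k1 k2 => ?_
    · simp [trM, (hA.2 _ (List.getElem_mem (show j < A.length by omega))).1]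
    · have hk : k < 24 := by simpa [trM] using k1
      have := entM_trM (A := trM A) (i := k) hj
      rw [entM_trM hk] at this
      have hk2 : k < ((trM (trM A))[j]'(by simpa [trM] using hj)).length := k1
      have hjl : j < (trM (trM A)).length := by simpa [trM] using hj
      have hjA : j < A.length := by omega
      simpa [entM, List.getD, List.getElem?_eq_getElem hjl, List.getElem?_eq_getElem hjA,
        List.getElem?_eq_getElem hk2, List.getElem?_eq_getElem k2] using this
  rw [hrow, sum_range_getD _ _ 24 hx.1 (hA.2 _ (List.getElem_mem (show j < A.length by omega))).1,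
    sum_range_getD _ _ 24 (hA.2 _ (List.getElem_mem (show j < A.length by omega))).1 hx.1]
  exact Finset.sum_congr rfl fun k _ => mul_comm _ _

/-- The image of a lattice generator is eight times a lattice vector. -/
def genOK (A : List (List ℤ)) (g : List ℤ) : Bool :=
  let y := mvT ((trM A).map packZ) g
  vecOK g && (y.all fun t => decide (t % 8 = 0)) && inLList (y.map (· / 8))

/-- Validity: orthogonal and preserving the lattice. -/
def matOK (A : List (List ℤ)) : Bool :=
  shapeM A && shapeM (trM A) && (prodM (trM A) A == diagM 64) && genVals.all (genOK A)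

theorem inL_of_genOK {A : List (List ℤ)} (hA : shapeM A = true) (hT : shapeM (trM A) = true)
    (h : ∀ g ∈ latGens, genOK A (coordsZ g) = true) {x : GolayPt → ℤ} (hx : InL x) :
    (∀ p, 8 ∣ (Mof A).mulVec x p) ∧ InL (fun p => (Mof A).mulVec x p / 8) := by
  have hgen : ∀ g ∈ latGens, (∀ p, 8 ∣ (Mof A).mulVec g p) ∧
      InL (fun p => (Mof A).mulVec g p / 8) := by
    intro g hg
    have h' := h g hg
    simp only [genOK, Bool.and_eq_true] at h'
    rw [mvT_eq hA hT h'.1.1] at h'
    replace h' := And.intro h'.1.2 h'.2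
    simp only [List.all_eq_true, decide_eq_true_eq] at h'
    have hy : ∀ p, (A.map fun r => dotZ r (coordsZ g)).getD (Mathieu.ptEnc p).val 0 =
        (Mof A).mulVec g p := by
      intro p
      rw [mulVec_eq_dotZ hA]
      have hA' := hA
      simp only [shapeM, Bool.and_eq_true, beq_iff_eq] at hA'
      have hp : (Mathieu.ptEnc p).val < A.length := by rw [hA'.1]; exact (Mathieu.ptEnc p).isLt
      simp [List.getD, hp]
    refine ⟨fun p => ?_, ?_⟩
    · rw [← hy p]
      refine Int.dvd_of_emod_eq_zero (h'.1 _ ?_)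
      have hA' := hA
      simp only [shapeM, Bool.and_eq_true, beq_iff_eq] at hA'
      have hp : (Mathieu.ptEnc p).val < A.length := by rw [hA'.1]; exact (Mathieu.ptEnc p).isLt
      rw [List.getD, List.getElem?_eq_getElem (by simpa using hp), Option.getD_some]
      exact List.getElem_mem _
    · refine inL_of_inLList (fun p => ?_) h'.2
      rw [← hy p]
      simp only [List.getD, List.getElem?_map]
      rcases (A[(Mathieu.ptEnc p).val]?) with _ | a <;> simp
  have hcl := mem_closure_latGens hx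
  clear hx
  induction hcl using AddSubgroup.closure_induction with
  | mem g hg => exact hgen g hg
  | zero =>
    rw [Matrix.mulVec_zero]
    exact ⟨fun p => by simp, by simpa [Pi.zero_def] using inL_zero⟩
  | add a b _ _ iha ihb =>
    rw [Matrix.mulVec_add]
    refine ⟨fun p => dvd_add (iha.1 p) (ihb.1 p), ?_⟩
    have e := inL_add iha.2 ihb.2
    convert e using 1
    funext p
    simp only [Pi.add_apply, Int.add_ediv_of_dvd_left (iha.1 p)]
  | neg a _ iha =>
    rw [Matrix.mulVec_neg]
    refine ⟨fun p => dvd_neg.2 (iha.1 p), ?_⟩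
    have e := inL_neg iha.2
    convert e using 1
    funext p
    simp only [Pi.neg_apply, Int.neg_ediv_of_dvd (iha.1 p)]

/-- A valid matrix gives an element of `Co0`. -/
theorem exists_repM {A : List (List ℤ)} (h : matOK A = true) : ∃ g : Co0, RepM A g := by
  simp only [matOK, ← genVals_eq, Bool.and_eq_true, beq_iff_eq, List.all_eq_true, List.mem_map] at h
  obtain ⟨⟨⟨hA, hT⟩, h1⟩, hg⟩ := h
  have gA := fun (x : GolayPt → ℤ) (hx : InL x) =>
    inL_of_genOK hA hT (fun g hg' => hg _ ⟨g, hg', rfl⟩) hx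
  let f : (GolayPt → ℤ) → GolayPt → ℤ := fun x p => (Mof A).mulVec x p / 8
  let f' : (GolayPt → ℤ) → GolayPt → ℤ := fun x p => (Mof (trM A)).mulVec x p / 8
  have e1 : Mof (trM A) * Mof A = (64 : ℤ) • 1 := by rw [← Mof_prodM hT hA, h1, Mof_diagM]
  have cancel : ∀ x : GolayPt → ℤ, InL x → f' (f x) = x := by
    intro x hx
    have hd := (gA x hx).1
    have e : (8 : ℤ) • (fun q => (Mof A).mulVec x q / 8) = (Mof A).mulVec x :=
      funext fun q => Int.mul_ediv_cancel' (hd q)
    have h3 := congrArg (fun z => (Mof (trM A)).mulVec z) e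
    simp only [Matrix.mulVec_smul, Matrix.mulVec_mulVec, e1, Matrix.smul_mulVec,
      Matrix.one_mulVec] at h3
    funext p
    have := congrFun h3 p
    simp only [Pi.smul_apply, smul_eq_mul] at this
    simp only [f', f]
    omega
  have hadd : ∀ x y, InL x → InL y → f (x + y) = f x + f y := fun x y hx hy => by
    funext p
    simp only [f, Matrix.mulVec_add, Pi.add_apply, Int.add_ediv_of_dvd_left ((gA x hx).1 p)]
  have hnorm : ∀ x, InL x → sqNorm (f x) = sqNorm x := by
    intro x hx
    have e : (8 : ℤ) • f x = (Mof A).mulVec x :=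
      funext fun q => Int.mul_ediv_cancel' ((gA x hx).1 q)
    have h3 : dotProduct ((8 : ℤ) • f x) ((8 : ℤ) • f x) = 64 * dotProduct x x := by
      rw [e, Matrix.dotProduct_mulVec, ← Matrix.mulVec_transpose, ← Mof_trM, Matrix.mulVec_mulVec,
        e1, Matrix.smul_mulVec, Matrix.one_mulVec, smul_dotProduct, smul_eq_mul]
    have hs : ∀ z : GolayPt → ℤ, dotProduct z z = sqNorm z := fun z =>
      Finset.sum_congr rfl fun i _ => (sq (z i)).symm
    rw [smul_dotProduct, dotProduct_smul, hs, hs, smul_eq_mul, smul_eq_mul] at h3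
    omega
  -- each sphere is finite, so the injection is onto it
  have surj : ∀ y, InL y → ∃ x, InL x ∧ f x = y := by
    intro y hy
    set S : Set (GolayPt → ℤ) := {w | InL w ∧ sqNorm w = sqNorm y}
    have hfin : S.Finite := by
      refine Set.Finite.subset (Set.Finite.pi' fun _ : GolayPt =>
        Set.finite_Icc (-sqNorm y) (sqNorm y)) ?_
      intro w hw p
      have h1 : (w p) ^ 2 ≤ sqNorm y :=
        hw.2 ▸ Finset.single_le_sum (fun i _ => sq_nonneg (w i)) (Finset.mem_univ p)
      have h2 := Int.natAbs_le_self_sq (w p)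
      constructor <;> omega
    haveI := hfin.to_subtype
    let F : S → S := fun w => ⟨f w.1, (gA _ w.2.1).2, (hnorm _ w.2.1).trans w.2.2⟩
    have hF : Function.Injective F := fun a b hab => Subtype.ext <| by
      rw [← cancel _ a.2.1, ← cancel _ b.2.1, show f a.1 = f b.1 from congrArg Subtype.val hab]
    obtain ⟨x, hx⟩ := Finite.injective_iff_surjective.1 hF ⟨y, hy, rfl⟩
    exact ⟨x.1, x.2.1, congrArg Subtype.val hx⟩
  refine ⟨mkCo0 f f' hadd hnorm (fun x hx => (gA x hx).2) (fun y hy => ?_) cancel (fun y hy => ?_),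
    fun v => ?_⟩
  · obtain ⟨x, hx, rfl⟩ := surj y hy
    rwa [cancel x hx]
  · obtain ⟨x, hx, rfl⟩ := surj y hy
    rw [cancel x hx]
  funext p
  rw [mkCo0_smul]
  exact (Int.mul_ediv_cancel' ((gA _ (mem_leechLattice.1 v.2)).1 p)).symm

/-- A matrix determines the element. -/
theorem RepM.eq {A B : List (List ℤ)} {g h : Co0} (hg : RepM A g) (hh : RepM B h)
    (e : Mof A = Mof B) : g = h := by
  refine eq_of_smul_eq_smul (α := leechLattice) fun v => Subtype.ext (funext fun p => ?_)
  have h1 := congrFun (hg v) p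
  have h2 := congrFun (hh v) p
  rw [e, h2] at h1
  omega

theorem repM_one : RepM (diagM 8) (1 : Co0) := fun v => by
  rw [Mof_diagM, Matrix.smul_mulVec, Matrix.one_mulVec, one_smul]
  rfl

theorem repM_negElt : RepM (diagM (-8)) negElt := fun v => by
  rw [Mof_diagM, Matrix.smul_mulVec, Matrix.one_mulVec, negElt_smul]
  funext p
  simp

theorem RepM.mul_apply {A B : List (List ℤ)} {g h : Co0} (hg : RepM A g) (hh : RepM B h)
    (v : leechLattice) :
    (Mof A * Mof B).mulVec (v : GolayPt → ℤ) =
      fun p => 64 * (((g * h) • v : leechLattice) : GolayPt → ℤ) p := by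
  rw [← Matrix.mulVec_mulVec, hh v]
  have : (fun p => 8 * ((h • v : leechLattice) : GolayPt → ℤ) p) =
      (8 : ℤ) • ((h • v : leechLattice) : GolayPt → ℤ) := rfl
  rw [this, Matrix.mulVec_smul, hg (h • v), mul_smul]
  funext p
  simp only [Pi.smul_apply, smul_eq_mul]
  ring

/-- The image vector. -/
def applyM (A : List (List ℤ)) (x : List ℤ) : List ℤ :=
  if vecOK x then (mvT ((trM A).map packZ) x).map (· / 8) else A.map fun r => dotZ r x / 8

theorem RepM.applyM_eq {A : List (List ℤ)} {g : Co0} (hg : RepM A g) (hA : shapeM A = true)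
    (hT : shapeM (trM A) = true) (v : leechLattice) :
    applyM A (coordsZ (v : GolayPt → ℤ)) = coordsZ ((g • v : leechLattice) : GolayPt → ℤ) := by
  have hplain : applyM A (coordsZ (v : GolayPt → ℤ)) =
      A.map fun r => dotZ r (coordsZ (v : GolayPt → ℤ)) / 8 := by
    unfold applyM
    split_ifs with h
    · rw [mvT_eq hA hT h, List.map_map]; rfl
    · rfl
  rw [hplain]
  have hA' := hA
  simp only [shapeM, Bool.and_eq_true, beq_iff_eq] at hA'
  refine List.ext_getElem (by simp [coordsZ, hA'.1]) fun i h1 _ => ?_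
  have hi : i < 24 := by simpa [hA'.1] using h1
  set p := Mathieu.idx Mathieu.ptEnc i
  have hp : (Mathieu.ptEnc p).val = i := by simp [p, Mathieu.idx, Nat.mod_eq_of_lt hi]
  have e := congrFun (hg v) p
  rw [mulVec_eq_dotZ hA, hp] at e
  simp only [coordsZ, List.getElem_map, List.getElem_range]
  have e' : A.getD i [] = A[i]'(by omega) := by simp [List.getD, hA'.1, hi]
  rw [e'] at e
  simp only [coordsZ, p] at e ⊢
  omega

theorem shapes_of_matOK {A : List (List ℤ)} (h : matOK A = true) :
    shapeM A = true ∧ shapeM (trM A) = true := by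
  simp only [matOK, Bool.and_eq_true] at h
  exact ⟨h.1.1.1, h.1.1.2⟩

/-- A vector with distinct nonzero absolute values. -/
def probeVals : List ℤ := [5,9,13,17,21,25,29,33,37,41,45,49,53,57,61,65,69,73,77,81,85,89,93,(-3)]

/-- The vector with those values. -/
def probe : leechLattice :=
  ⟨fun p => probeVals.getD (Mathieu.ptEnc p).val 0, mem_leechLattice.2 (inL_of_inLList (fun _ => rfl)
    (by decide +kernel))⟩

theorem probe_coords : coordsZ (probe : GolayPt → ℤ) = probeVals := by decide +kernel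

theorem probe_abs : ∀ p q : GolayPt,
    (probeVals.getD (Mathieu.ptEnc p).val 0).natAbs = (probeVals.getD (Mathieu.ptEnc q).val 0).natAbs →
      p = q := by decide +kernel

theorem probe_ne : ∀ p : GolayPt, probeVals.getD (Mathieu.ptEnc p).val 0 ≠ 0 := by decide +kernel

/-- An element fixing `8 e_∞` and the probe is the identity. -/
theorem eq_one_of_fixes {g : Co0} (h8 : g • eight none = eight none) (hp : g • probe = probe) :
    g = 1 := by
  have hmon : FixesStd g := fixesStd_iff.2 (by rw [h8])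
  obtain ⟨⟨s, c⟩, rfl⟩ := exists_monoElt_of_fixesStd hmon
  have hv : ∀ k, signedPerm (s : Equiv.Perm GolayPt) (support₂ (c : GolayPt → ZMod 2))
      (probe : GolayPt → ℤ) k = (probe : GolayPt → ℤ) k := fun k => by
    have := congrArg (fun v : leechLattice => (v : GolayPt → ℤ) k) hp
    simpa only [monoElt_smul] using this
  have habs : ∀ k, (s : Equiv.Perm GolayPt).symm k = k := fun k => by
    refine probe_abs _ _ ?_
    have := hv k
    simp only [signedPerm, probe] at this
    split_ifs at this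
    · rw [← Int.natAbs_neg, this]
    · rw [this]
  have hs : s = 1 := Subtype.ext (Equiv.ext fun k => by
    show (s : Equiv.Perm GolayPt) k = k
    conv_lhs => rw [← habs k]
    rw [Equiv.apply_symm_apply])
  have hc : (c : GolayPt → ZMod 2) = 0 := funext fun k => by
    rcases zmod2_cases ((c : GolayPt → ZMod 2) k) with h | h
    · exact h
    · exfalso
      have := hv k
      simp only [signedPerm, probe, mem_supp, h, habs, if_true] at this
      exact probe_ne k (by omega)
  refine eq_of_smul_eq_smul (α := leechLattice) fun v => Subtype.ext (funext fun k => ?_)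
  rw [monoElt_smul, one_smul]
  simp [signedPerm, mem_supp, hc, hs]
  rfl

/-- The images under a word, rightmost first. -/
def applyWord (ms : List (List (List ℤ))) (w : List ℕ) (x : List ℤ) : List ℤ :=
  w.foldr (fun i y => applyM (ms.getD i []) y) x

end Cfsg.Agent.Leech
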