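/-
The 2025 vectors with dot products 0 and 16 with two minimal vectors of dot product -8: transitivity
and the suborbits of lengths 330, 462 and 1232.
-/
import Cfsg.Agent.Lib.Leech.ConfigsHS
import Cfsg.Agent.Lib.Leech.Orb.MclSub330
import Cfsg.Agent.Lib.Leech.Orb.MclSub462
import Cfsg.Agent.Lib.Leech.Orb.MclSub1232

set_option autoImplicit false

namespace Cfsg.Agent.Leech

open Cfsg Finset Cfsg.Spor MulAction

/-- The 2025, at the standard configuration and negated. -/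
def mcl2025Set : Set leechLattice :=
  {x | x ∈ minus16Set baseU ∧ dotInt (x : GolayPt → ℤ) (baseV : GolayPt → ℤ) = 0}

theorem mcl2025Set_smul {g : Co0} (hU : g • baseU = baseU) (hV : g • baseV = baseV) {x : leechLattice}
    (hx : x ∈ mcl2025Set) : g • x ∈ mcl2025Set := by
  refine ⟨?_, ?_⟩
  · have := (minus16Set_smul (g := g)).2 hx.1
    rwa [hU] at this
  · rw [← hV, co0_dot]; exact hx.2

theorem mcl2025Set_finite : mcl2025Set.Finite := (minus16Set_finite baseU).subset fun _ h => h.1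

theorem leechU'_mem_2025 : leechU' ∈ mcl2025Set :=
  ⟨⟨by decide +kernel, by decide +kernel⟩, (dot_symm _ _).trans baseY_facts.2.2.2⟩

theorem fix_mcl2025 {g : Co0} (h : FixesAll Orb.mcl2025F g) : g • baseU = baseU ∧ g • baseV = baseV :=
  fix_mcl (mcl2025F.1 ▸ h)

theorem ncard_mcl2025Set : mcl2025Set.ncard = 2025 := by
  classical
  have hSf := decompSet_finite baseU
  have hPf := minus16Set_finite baseU
  let r : leechLattice → leechLattice → Prop := fun v x =>
    dotInt (x : GolayPt → ℤ) (v : GolayPt → ℤ) = 0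
  have hbelow : ∀ x ∈ hPf.toFinset, (hSf.toFinset.bipartiteBelow r x).card = 100 := by
    intro x hx
    obtain ⟨g, hg, rfl⟩ := minus16_base x ((Set.Finite.mem_toFinset _).1 hx)
    rw [← Set.ncard_coe_finset, ← hs_counts_base.1, ← ncard_preimage_smul g⁻¹ (decompAt baseU baseY 0)]
    congr 1
    ext v
    simp only [Finset.bipartiteBelow, coe_filter, Set.Finite.mem_toFinset, Set.mem_ofPred_eq, r]
    rw [← decompAt_smul (g := g) (x := g⁻¹ • v), smul_inv_smul, hg, co0_neg]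
    refine and_congr_right fun _ => ?_
    rw [AddSubgroup.coe_neg]
    rw [dot_symm (-_), dot_neg, neg_eq_zero, dot_symm]
  have habove : ∀ v ∈ hSf.toFinset, (hPf.toFinset.bipartiteAbove r v).card = mcl2025Set.ncard := by
    intro v hv
    obtain ⟨g, hg, rfl⟩ := decomp_base v ((Set.Finite.mem_toFinset _).1 hv)
    rw [← Set.ncard_coe_finset, ← ncard_preimage_smul g⁻¹ mcl2025Set]
    congr 1
    ext x
    simp only [Finset.bipartiteAbove, coe_filter, Set.Finite.mem_toFinset, Set.mem_ofPred_eq, r, mcl2025Set]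
    have e1 : x ∈ minus16Set baseU ↔ g⁻¹ • x ∈ minus16Set baseU := by
      have := minus16Set_smul (g := g) (u := baseU) (x := g⁻¹ • x)
      rwa [hg, smul_inv_smul] at this
    rw [e1, ← co0_dot g ((g⁻¹ • x : leechLattice)) baseV, smul_inv_smul]
  have h := Finset.sum_card_bipartiteAbove_eq_sum_card_bipartiteBelow r (s := hSf.toFinset)
    (t := hPf.toFinset)
  rw [sum_congr rfl habove, sum_congr rfl hbelow, sum_const, sum_const, smul_eq_mul, smul_eq_mul,
    ← Set.ncard_eq_toFinset_card _ hSf, ← Set.ncard_eq_toFinset_card _ hPf,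
    ncard_decompSet baseU_norm, ncard_minus16Set baseU_norm] at h
  omega

theorem mcl2025_base {x : leechLattice} (hx : x ∈ mcl2025Set) :
    ∃ g : Co0, g • baseU = baseU ∧ g • baseV = baseV ∧ g • leechU' = x := by
  obtain ⟨g, hg, e⟩ := (orbit_fills Orb.mcl2025_ok leechU' mcl2025F.2.symm mcl2025Set
    mcl2025Set_finite ncard_mcl2025Set.le fun g hg =>
      mcl2025Set_smul (fix_mcl2025 hg).1 (fix_mcl2025 hg).2 leechU'_mem_2025).2 x hx
  exact ⟨g, (fix_mcl2025 hg).1, (fix_mcl2025 hg).2, e⟩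

/-- The stabiliser of the three standard vectors. -/
abbrev tripGrp : Subgroup Co0 := stabilizer Co0 baseU ⊓ stabilizer Co0 baseV ⊓ stabilizer Co0 leechU'

theorem subF : Orb.mclSub330F = Orb.mclSub462F ∧ Orb.mclSub1232F = Orb.mclSub462F ∧
    Orb.mclSub462F.length = 3 ∧ Orb.mclSub462F.take 2 = Orb.mcl2025F ∧
    dec (Orb.mclSub462F.getD 2 0) = (leechU' : GolayPt → ℤ) := by decide +kernel

theorem fix_sub {g : Co0} (h : FixesAll Orb.mclSub462F g) : g ∈ tripGrp := by
  obtain ⟨-, -, hl, ht, h2⟩ := subF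
  obtain ⟨a, b⟩ := fix_mcl2025 (g := g) fun Z hZ => h Z (List.mem_of_mem_take (i := 2) (ht ▸ hZ))
  refine ⟨⟨mem_stabilizer_iff.2 a, mem_stabilizer_iff.2 b⟩, mem_stabilizer_iff.2 (h _ ?_ _ h2.symm)⟩
  rw [List.getD_eq_getElem _ _ (show 2 < _ by omega)]; exact List.getElem_mem _

theorem none_inv {g : Co0} (hg : g ∈ tripGrp) (y : leechLattice) :
    ((g • y : leechLattice) : GolayPt → ℤ) none = (y : GolayPt → ℤ) none := by
  have hV := mem_stabilizer_iff.1 hg.1.2
  have hU' := mem_stabilizer_iff.1 hg.2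
  have hUv : g • leechU = leechU := by simpa [baseV, co0_neg] using hV
  have he : eight none = leechU + leechU' := by
    refine Subtype.ext ?_
    rw [eight_val, AddSubgroup.coe_add]
    decide +kernel
  have h := co0_dot g (eight none) y
  rw [he, co0_add, hUv, hU', ← he, eight_val, dotInt_eight, dotInt_eight] at h
  omega

theorem suborbit_ncard {n : ℕ} {k : ℤ} {F : List ℕ} {gens : List Gen} {seed : ℕ} {steps : List ℕ}
    (hok : orbitOK F gens seed steps n = true) (hF : F = Orb.mclSub462F) (s : leechLattice)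
    (hs : (s : GolayPt → ℤ) = dec seed) (hsX : s ∈ mcl2025Set) (hk : (s : GolayPt → ℤ) none = k) :
    n ≤ (orbit tripGrp s).ncard ∧
      orbit tripGrp s ⊆ {y | y ∈ mcl2025Set ∧ (y : GolayPt → ℤ) none = k} := by
  subst hF
  have hsub : orbit tripGrp s ⊆ {y | y ∈ mcl2025Set ∧ (y : GolayPt → ℤ) none = k} := by
    rintro _ ⟨⟨g, hg⟩, rfl⟩
    exact ⟨mcl2025Set_smul (mem_stabilizer_iff.1 hg.1.1) (mem_stabilizer_iff.1 hg.1.2) hsX,
      (none_inv hg s).trans hk⟩
  exact ⟨orbit_le hok s hs _ (mcl2025Set_finite.subset fun y hy => (hsub hy).1)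
    fun g hg => ⟨⟨g, fix_sub hg⟩, rfl⟩, hsub⟩

theorem mcl2025_suborbits : ∃ y₁ ∈ mcl2025Set, ∃ y₂ ∈ mcl2025Set, ∃ y₃ ∈ mcl2025Set,
    (orbit tripGrp y₁).ncard = 330 ∧ (orbit tripGrp y₂).ncard = 462 ∧
      (orbit tripGrp y₃).ncard = 1232 := by
  classical
  have mk : ∀ (X : ℕ) (m : ℕ) (k : ℤ), Mathieu.inCode m = true → Mathieu.wordOf m = hb (dec X) →
      (∀ i, dec X i % 2 = dec X none % 2) → ((∑ i, dec X i) % 8 = 4 * dec X none % 8) →
      sqNorm (dec X) = 32 → dotInt (baseU : GolayPt → ℤ) (dec X) = -16 →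
      dotInt (dec X) (baseV : GolayPt → ℤ) = 0 → dec X none = k →
      ∃ s : leechLattice, (s : GolayPt → ℤ) = dec X ∧ s ∈ mcl2025Set ∧ (s : GolayPt → ℤ) none = k :=
    fun X m k h1 h2 h3 h4 h5 h6 h7 h8 =>
      ⟨⟨_, mem_leechLattice.2 (inL_dec m h1 h2 h3 h4)⟩, rfl, ⟨⟨h5, h6⟩, h7⟩, h8⟩
  let M : ℕ → ℕ := fun X =>
    (List.range 24).foldr (fun i m => if dig X i / 2 % 2 = 1 then 2 ^ i + m else m) 0
  obtain ⟨a, ha, haX, hak⟩ := mk Orb.mclSub330Seed (M Orb.mclSub330Seed) 0 (by decide +kernel)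
    (by decide +kernel) (by decide +kernel) (by decide +kernel) (by decide +kernel) (by decide +kernel)
    (by decide +kernel) (by decide +kernel)
  obtain ⟨b, hb, hbX, hbk⟩ := mk Orb.mclSub462Seed (M Orb.mclSub462Seed) 2 (by decide +kernel)
    (by decide +kernel) (by decide +kernel) (by decide +kernel) (by decide +kernel) (by decide +kernel)
    (by decide +kernel) (by decide +kernel)
  obtain ⟨c, hc, hcX, hck⟩ := mk Orb.mclSub1232Seed (M Orb.mclSub1232Seed) 1 (by decide +kernel)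
    (by decide +kernel) (by decide +kernel) (by decide +kernel) (by decide +kernel) (by decide +kernel)
    (by decide +kernel) (by decide +kernel)
  obtain ⟨a1, a2⟩ := suborbit_ncard Orb.mclSub330_ok subF.1 a ha haX hak
  obtain ⟨b1, b2⟩ := suborbit_ncard Orb.mclSub462_ok rfl b hb hbX hbk
  obtain ⟨c1, c2⟩ := suborbit_ncard Orb.mclSub1232_ok subF.2.1 c hc hcX hck
  have hne : ∀ {k l : ℤ} {P Q : Set leechLattice}, k ≠ l →
      P ⊆ {y | y ∈ mcl2025Set ∧ (y : GolayPt → ℤ) none = k} →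
      Q ⊆ {y | y ∈ mcl2025Set ∧ (y : GolayPt → ℤ) none = l} → Disjoint P Q := fun {k l P Q} h hP hQ =>
    Set.disjoint_left.2 fun y y1 y2 => h ((hP y1).2.symm.trans (hQ y2).2)
  have hu : (leechU' : GolayPt → ℤ) none = 4 := by decide +kernel
  have hU : ({leechU'} : Set leechLattice) ⊆ {y | y ∈ mcl2025Set ∧ (y : GolayPt → ℤ) none = 4} := by
    rintro _ rfl; exact ⟨leechU'_mem_2025, hu⟩
  have fa := mcl2025Set_finite.subset fun y hy => (a2 hy).1
  have fb := mcl2025Set_finite.subset fun y hy => (b2 hy).1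
  have fc := mcl2025Set_finite.subset fun y hy => (c2 hy).1
  have hle := Set.ncard_le_ncard (s := orbit tripGrp a ∪ orbit tripGrp b ∪ orbit tripGrp c ∪ {leechU'})
    (t := mcl2025Set) (by
      rintro y (((h | h) | h) | h)
      exacts [(a2 h).1, (b2 h).1, (c2 h).1, (hU h).1]) mcl2025Set_finite
  rw [Set.ncard_union_eq ?_ ((fa.union fb).union fc) (Set.finite_singleton _),
    Set.ncard_union_eq ?_ (fa.union fb) fc, Set.ncard_union_eq ?_ fa fb, Set.ncard_singleton,
    ncard_mcl2025Set] at hle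
  · exact ⟨a, haX, b, hbX, c, hcX, by omega⟩
  · exact hne (by norm_num) a2 b2
  · exact Set.disjoint_union_left.2 ⟨hne (by norm_num) a2 c2, hne (by norm_num) b2 c2⟩
  · exact Set.disjoint_union_left.2 ⟨Set.disjoint_union_left.2
      ⟨hne (by norm_num) a2 hU, hne (by norm_num) b2 hU⟩, hne (by norm_num) c2 hU⟩

/-- The set in the general configuration. -/
def dot016Set (v w : leechLattice) : Set leechLattice :=
  {x | sqNorm (x : GolayPt → ℤ) = 32 ∧ dotInt (v : GolayPt → ℤ) (x : GolayPt → ℤ) = 0 ∧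
    dotInt (w : GolayPt → ℤ) (x : GolayPt → ℤ) = 16}

theorem dot016_general {v w : leechLattice} (hv : sqNorm (v : GolayPt → ℤ) = 32)
    (hw : sqNorm (w : GolayPt → ℤ) = 32) (hvw : dotInt (v : GolayPt → ℤ) (w : GolayPt → ℤ) = -8) :
    (dot016Set v w).ncard = 2025 ∧
    (∀ x ∈ dot016Set v w, ∀ x' ∈ dot016Set v w, ∃ g : Co0, g • v = v ∧ g • w = w ∧ g • x = x') ∧
    ∀ x ∈ dot016Set v w, ∃ y₁ ∈ dot016Set v w, ∃ y₂ ∈ dot016Set v w, ∃ y₃ ∈ dot016Set v w,
      (orbit ↥(stabilizer Co0 v ⊓ stabilizer Co0 w ⊓ stabilizer Co0 x) y₁).ncard = 330 ∧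
      (orbit ↥(stabilizer Co0 v ⊓ stabilizer Co0 w ⊓ stabilizer Co0 x) y₂).ncard = 462 ∧
      (orbit ↥(stabilizer Co0 v ⊓ stabilizer Co0 w ⊓ stabilizer Co0 x) y₃).ncard = 1232 := by
  have hu : sqNorm ((v + w : leechLattice) : GolayPt → ℤ) = 48 := by
    rw [AddSubgroup.coe_add, sqNorm_add, hv, hw, hvw]; norm_num
  have hvu : v ∈ decompSet (v + w) := ⟨hv, by
    rw [AddSubgroup.coe_add, dot_symm, dot_add, dot_self, hv, hvw]; norm_num⟩
  obtain ⟨a, a1, a2⟩ := decomp_normal hu hvu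
  have a3 : a • w = baseU - baseV := by
    rw [← a1, ← a2, sub_eq_add_neg, ← co0_neg, ← co0_add]
    congr 1
    abel
  have hmem : ∀ x, x ∈ dot016Set v w ↔ -(a • x) ∈ mcl2025Set := by
    intro x
    simp only [dot016Set, mcl2025Set, minus16Set, Set.mem_ofPred_eq]
    have hn : sqNorm ((-(a • x) : leechLattice) : GolayPt → ℤ) = sqNorm (x : GolayPt → ℤ) := by
      rw [AddSubgroup.coe_neg, ← co0_norm a x]; simp [sqNorm]
    have hz1 : dotInt ((-(a • x) : leechLattice) : GolayPt → ℤ) (baseV : GolayPt → ℤ) =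
        -dotInt (v : GolayPt → ℤ) (x : GolayPt → ℤ) := by
      rw [dot_symm, ← a2, AddSubgroup.coe_neg, dot_neg, co0_dot]
    have hz2 : dotInt (baseU : GolayPt → ℤ) ((-(a • x) : leechLattice) : GolayPt → ℤ) =
        -(dotInt (v : GolayPt → ℤ) (x : GolayPt → ℤ) + dotInt (w : GolayPt → ℤ) (x : GolayPt → ℤ)) := by
      rw [AddSubgroup.coe_neg, dot_neg, ← a1, co0_dot, AddSubgroup.coe_add, dot_symm, dot_add,
        dot_symm (x : GolayPt → ℤ), dot_symm (x : GolayPt → ℤ)]
    rw [hn, hz1, hz2]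
    constructor
    · rintro ⟨p, q, r⟩; exact ⟨⟨p, by omega⟩, by omega⟩
    · rintro ⟨⟨p, q⟩, r⟩; exact ⟨p, by omega, by omega⟩
  have hback : ∀ x ∈ dot016Set v w,
      ∃ g : Co0, g • v = baseV ∧ g • w = baseU - baseV ∧ g • x = -leechU' := by
    intro x hx
    obtain ⟨g, g1, g2, g3⟩ := mcl2025_base ((hmem x).1 hx)
    refine ⟨g⁻¹ * a, ?_, ?_, ?_⟩ <;> rw [mul_smul, inv_smul_eq_iff]
    · rw [a2, g2]
    · rw [a3, sub_eq_add_neg, co0_add, co0_neg, g1, g2]
    · rw [co0_neg, g3, neg_neg]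
  refine ⟨?_, fun x hx x' hx' => ?_, fun x hx => ?_⟩
  · rw [← ncard_mcl2025Set]
    exact Set.ncard_congr (fun x _ => -(a • x)) (fun x hx => (hmem x).1 hx)
      (fun p q _ _ e => MulAction.injective a (neg_injective e))
      fun y hy => ⟨a⁻¹ • (-y), (hmem _).2 (by rwa [smul_inv_smul, neg_neg]), by rw [smul_inv_smul, neg_neg]⟩
  · obtain ⟨g, g1, g2, g3⟩ := hback x hx
    obtain ⟨h, h1, h2, h3⟩ := hback x' hx'
    refine ⟨h⁻¹ * g, ?_, ?_, ?_⟩ <;> rw [mul_smul, inv_smul_eq_iff]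
    · rw [g1, h1]
    · rw [g2, h2]
    · rw [g3, h3]
  · obtain ⟨g, g1, g2, g3⟩ := hback x hx
    have g12 : g • (v + w) = baseU := by rw [co0_add, g1, g2, add_sub_cancel]
    have hset : ∀ y, y ∈ dot016Set v w ↔ -(g • y) ∈ mcl2025Set := by
      intro y
      rw [hmem]
      have e1 : (g * a⁻¹) • baseU = baseU := by rw [mul_smul, inv_smul_eq_iff.2 a1.symm, g12]
      have e2 : (g * a⁻¹) • baseV = baseV := by rw [mul_smul, inv_smul_eq_iff.2 a2.symm, g1]
      have e3 : (g * a⁻¹) • (-(a • y)) = -(g • y) := by rw [co0_neg, mul_smul, inv_smul_smul]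
      refine ⟨fun h => e3 ▸ mcl2025Set_smul e1 e2 h, fun h => ?_⟩
      have := mcl2025Set_smul (g := (g * a⁻¹)⁻¹) (inv_smul_eq_iff.2 e1.symm)
        (inv_smul_eq_iff.2 e2.symm) (e3 ▸ h)
      rwa [inv_smul_smul] at this
    set K := stabilizer Co0 v ⊓ stabilizer Co0 w ⊓ stabilizer Co0 x with hK
    have horb : ∀ s : leechLattice, (orbit K (g⁻¹ • (-s))).ncard = (orbit tripGrp s).ncard := by
      intro s
      have hinj : Function.Injective fun z : leechLattice => g⁻¹ • (-z) :=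
        fun p q e => neg_injective (MulAction.injective g⁻¹ e)
      rw [← Set.ncard_image_of_injective (orbit tripGrp s) hinj]
      congr 1
      ext z
      constructor
      · rintro ⟨⟨k, ⟨k1, k2⟩, k3⟩, rfl⟩
        have kv : k • v = v := k1
        have kw : k • w = w := k2
        have kx : k • x = x := k3
        refine ⟨(g * k * g⁻¹) • s, ⟨⟨g * k * g⁻¹, ⟨?_, ?_⟩, ?_⟩, rfl⟩, ?_⟩
        · show (g * k * g⁻¹) • baseU = baseU
          rw [mul_smul, mul_smul, inv_smul_eq_iff.2 g12.symm, co0_add, kv, kw, g12]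
        · show (g * k * g⁻¹) • baseV = baseV
          rw [mul_smul, mul_smul, inv_smul_eq_iff.2 g1.symm, kv, g1]
        · show (g * k * g⁻¹) • leechU' = leechU'
          have hx' : leechU' = g • (-x) := by rw [co0_neg, g3, neg_neg]
          rw [mul_smul, mul_smul, inv_smul_eq_iff.2 hx', co0_neg k, kx, ← hx']
        · show g⁻¹ • (-((g * k * g⁻¹) • s)) = k • g⁻¹ • (-s)
          rw [← co0_neg, mul_smul, mul_smul, inv_smul_smul]
      · rintro ⟨_, ⟨⟨k, ⟨k1, k2⟩, k3⟩, rfl⟩, rfl⟩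
        have kU : k • baseU = baseU := k1
        have kV : k • baseV = baseV := k2
        have kx : k • leechU' = leechU' := k3
        refine ⟨⟨g⁻¹ * k * g, ⟨?_, ?_⟩, ?_⟩, ?_⟩
        · show (g⁻¹ * k * g) • v = v
          rw [mul_smul, mul_smul, g1, kV, inv_smul_eq_iff, g1]
        · show (g⁻¹ * k * g) • w = w
          rw [mul_smul, mul_smul, g2, sub_eq_add_neg, co0_add, co0_neg k, kU, kV, ← sub_eq_add_neg,
            inv_smul_eq_iff, g2]
        · show (g⁻¹ * k * g) • x = x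
          rw [mul_smul, mul_smul, g3, co0_neg k, kx, inv_smul_eq_iff, g3]
        · show (g⁻¹ * k * g) • g⁻¹ • (-s) = g⁻¹ • (-(k • s))
          rw [mul_smul, mul_smul, smul_inv_smul, co0_neg k]
    obtain ⟨s1, h1, s2, h2, s3, h3, n1, n2, n3⟩ := mcl2025_suborbits
    have hin : ∀ s ∈ mcl2025Set, g⁻¹ • (-s) ∈ dot016Set v w := fun s hs =>
      (hset _).2 (by rwa [smul_inv_smul, neg_neg])
    exact ⟨_, hin s1 h1, _, hin s2 h2, _, hin s3 h3, (horb s1).trans n1, (horb s2).trans n2,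
      (horb s3).trans n3⟩

end Cfsg.Agent.Leech
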