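/-
Orbit trees with distinctness checked in buckets of residues.
-/
import Cfsg.Agent.Lib.Leech.OrbitEngine

set_option autoImplicit false

namespace Cfsg.Agent.Leech

open Cfsg Finset

/-- All members differ. -/
def pairwiseNe : List ℕ → Bool
  | [] => true
  | a :: l => l.all (fun b => !(Nat.beq a b)) && pairwiseNe l

theorem pairwiseNe_spec : ∀ l : List ℕ, pairwiseNe l = true → l.Nodup
  | [], _ => List.nodup_nil
  | a :: l, h => by
    simp only [pairwiseNe, Bool.and_eq_true, List.all_eq_true, Bool.not_eq_eq_eq_not,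
      Bool.not_true] at h
    refine List.nodup_cons.2 ⟨fun ha => ?_, pairwiseNe_spec l h.2⟩
    have := h.1 a ha
    simp at this

/-- Bucket of a number. -/
def bucketOf (Y : ℕ) : ℕ := Y % 4093 % 61

/-- All members differ, bucket by bucket. -/
def bucketsOK (L : List ℕ) : Bool :=
  (List.range 61).all fun r => pairwiseNe (L.filter fun Y => Nat.beq (bucketOf Y) r)

theorem bucketsOK_spec {L : List ℕ} (h : bucketsOK L = true) : L.Nodup := by
  simp only [bucketsOK, List.all_eq_true, List.mem_range] at h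
  refine List.nodup_iff_count_le_one.2 fun a => ?_
  have hn := pairwiseNe_spec _ (h (bucketOf a) (Nat.mod_lt _ (by norm_num)))
  have := List.nodup_iff_count_le_one.1 hn a
  rwa [List.count_filter] at this
  simp

/-- The tree, checked in parts, gives distinct images of the seed. -/
theorem orbit_parts_cert {F : List ℕ} {gens : List Gen} {seed : ℕ} {steps : List ℕ} {n : ℕ}
    (hgens : gens.all (fun a => a.ok && F.all fun Z => edgeOK a Z Z) = true)
    (htree : vecTreeOK gens [seed] steps = true)
    (hlen : (steps.length + 1 == n) = true)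
    (hlt : (seed :: steps.map stepVec).all (fun Y => decide (Y < 16 ^ 24)) = true)
    (hnd : (seed :: steps.map stepVec).Nodup) (x₀ : leechLattice)
    (hx₀ : (x₀ : GolayPt → ℤ) = dec seed) :
    ∃ S : Finset leechLattice, S.card = n ∧ ∀ y ∈ S, ∃ g : Co0, FixesAll F g ∧ g • x₀ = y := by
  classical
  simp only [Bool.and_eq_true, List.all_eq_true, beq_iff_eq, decide_eq_true_eq] at hgens hlen hlt
  have hg : ∀ a ∈ gens, ∃ c : Co0, FixesAll F c ∧ ∀ X Y : ℕ, edgeOK a X Y = true →
      ∀ v : leechLattice, (v : GolayPt → ℤ) = dec X →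
        ((c • v : leechLattice) : GolayPt → ℤ) = dec Y := by
    intro a ha
    obtain ⟨c, hc⟩ := exists_gen (hgens a ha).1
    exact ⟨c, fun Z hZ v hv => Subtype.ext (by rw [hc Z v hv, edgeOK_spec ((hgens a ha).2 Z hZ), hv]),
      fun X Y he v hv => by rw [hc X v hv, edgeOK_spec he]⟩
  set L := seed :: steps.map stepVec with hL
  have hall : ∀ Y ∈ L, ∃ g : Co0, FixesAll F g ∧ ((g • x₀ : leechLattice) : GolayPt → ℤ) = dec Y := by
    have h0 : ∃ g : Co0, FixesAll F g ∧ ((g • x₀ : leechLattice) : GolayPt → ℤ) = dec seed :=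
      ⟨1, fixesAll_one F, by rw [one_smul, hx₀]⟩
    intro Y hY
    rcases List.mem_cons.1 hY with rfl | hY
    · exact h0
    obtain ⟨s, hs, rfl⟩ := List.mem_map.1 hY
    exact vecTreeOK_spec hg x₀ steps [seed] (fun Z hZ => by
      rw [List.mem_singleton.1 hZ]; exact h0) htree s hs
  choose f hf hfv using hall
  refine ⟨L.toFinset.attach.image fun Y => f Y.1 (List.mem_toFinset.1 Y.2) • x₀, ?_, ?_⟩
  · rw [card_image_of_injective, card_attach, List.toFinset_card_of_nodup hnd, hL]
    · simpa using hlen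
    · rintro ⟨Y, hY⟩ ⟨Z, hZ⟩ e
      have e' := congrArg Subtype.val e
      simp only [hfv] at e'
      exact Subtype.ext (dec_injective (hlt _ (List.mem_toFinset.1 hY)) (hlt _ (List.mem_toFinset.1 hZ)) e')
  · intro y hy
    obtain ⟨Y, -, rfl⟩ := mem_image.1 hy
    exact ⟨_, hf _ _, rfl⟩

end Cfsg.Agent.Leech
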