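/-
Two minimal vectors with dot product -16: a single orbit.
-/
import Cfsg.Agent.Lib.Leech.ConfigsHS
import Cfsg.Agent.Lib.Leech.Orb.CoTwo4600Checks

set_option autoImplicit false

namespace Cfsg.Agent.Leech

open Cfsg Finset Cfsg.Spor

/-- The 4600. -/
def minusPairSet (v : leechLattice) : Set leechLattice :=
  {w | sqNorm (w : GolayPt → ℤ) = 32 ∧ dotInt (v : GolayPt → ℤ) (w : GolayPt → ℤ) = -16}

theorem minusPairSet_smul {g : Co0} {v w : leechLattice} :
    g • w ∈ minusPairSet (g • v) ↔ w ∈ minusPairSet v := by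
  simp [minusPairSet, co0_norm, co0_dot]

theorem coTwo4600F : Orb.coTwo4600F.length = 1 ∧ dec (Orb.coTwo4600F.getD 0 0) = (leechU : GolayPt → ℤ) ∧
    sqNorm (dec Orb.coTwo4600Seed) = 32 ∧ dotInt (leechU : GolayPt → ℤ) (dec Orb.coTwo4600Seed) = -16 ∧
    sqNorm (leechU : GolayPt → ℤ) = 32 := by
  decide +kernel

/-- The stabiliser of the standard vector is transitive on its 4600. -/
theorem minusPair_base : ∃ w₀ : leechLattice, ∀ w ∈ minusPairSet leechU,
    ∃ g : Co0, g • leechU = leechU ∧ g • w₀ = w := by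
  obtain ⟨hl, hF, hn, hd, hu⟩ := coTwo4600F
  have hL : InL (dec Orb.coTwo4600Seed) := inL_dec
    ((List.range 24).foldr (fun i m => if dig Orb.coTwo4600Seed i / 2 % 2 = 1 then 2 ^ i + m else m) 0)
    (by decide +kernel) (by decide +kernel) (by decide +kernel) (by decide +kernel)
  let w₀ : leechLattice := ⟨_, mem_leechLattice.2 hL⟩
  have hfix : ∀ g : Co0, FixesAll Orb.coTwo4600F g → g • leechU = leechU := fun g hg => hg _ (by
    rw [List.getD_eq_getElem _ _ (show 0 < _ by omega)]; exact List.getElem_mem _) _ hF.symm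
  have hcard : (minusPairSet leechU).ncard = 4600 := by
    rw [← (census32 (mem_leechLattice.1 leechU.2) hu).1, ← ncard_dot_sub 32 (by norm_num)]
    rfl
  refine ⟨w₀, fun w hw => ?_⟩
  obtain ⟨S, hS, hSg⟩ := orbit_parts_cert Orb.coTwo4600_gens Orb.coTwo4600_tree Orb.coTwo4600_len
    Orb.coTwo4600_lt (bucketsOK_spec Orb.coTwo4600_distinct) w₀ rfl
  have hsub : (S : Set leechLattice) ⊆ minusPairSet leechU := fun y hy => by
    obtain ⟨g, hg, rfl⟩ := hSg y hy
    have h := (minusPairSet_smul (g := g) (v := leechU) (w := w₀)).2 ⟨hn, hd⟩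
    rwa [hfix g hg] at h
  have he : (S : Set leechLattice) = minusPairSet leechU :=
    Set.eq_of_subset_of_ncard_le hsub (by rw [Set.ncard_coe_finset, hS, hcard])
      (Set.finite_of_ncard_ne_zero (by rw [hcard]; norm_num))
  obtain ⟨g, hg, e⟩ := hSg w (mem_coe.1 (he ▸ hw))
  exact ⟨g, hfix g hg, e⟩

theorem minus16pair_transitive (v w w' : leechLattice) (hv : sqNorm (v : GolayPt → ℤ) = 32)
    (hw : w ∈ minusPairSet v) (hw' : w' ∈ minusPairSet v) :
    ∃ g : Co0, g • v = v ∧ g • w = w' := by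
  obtain ⟨a, ha⟩ := co0_transitive v leechU 32 (Or.inl rfl) hv coTwo4600F.2.2.2.2
  obtain ⟨w₀, hbase⟩ := minusPair_base
  obtain ⟨g, g1, g2⟩ := hbase (a • w) (by rw [← ha]; exact minusPairSet_smul.2 hw)
  obtain ⟨h, h1, h2⟩ := hbase (a • w') (by rw [← ha]; exact minusPairSet_smul.2 hw')
  refine ⟨a⁻¹ * (h * g⁻¹ * a), ?_, ?_⟩
  · rw [mul_smul, mul_smul, mul_smul, ha, inv_smul_eq_iff.2 g1.symm, h1, ← ha, inv_smul_smul]
  · rw [mul_smul, mul_smul, mul_smul, ← g2, inv_smul_smul, h2, inv_smul_smul]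

end Cfsg.Agent.Leech
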