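/-
Orthogonal pairs of minimal vectors form a single orbit: their sum is conjugate to eight times a
unit vector, and the monomial group moves the two fours.
-/
import Cfsg.Agent.Lib.Leech.MinList
import Cfsg.Agent.Lib.Leech.ModTwo

set_option autoImplicit false

namespace Cfsg.Agent.Leech

open Cfsg Finset

theorem dotInt_comm (x y : GolayPt → ℤ) : dotInt x y = dotInt y x :=
  sum_congr rfl fun _ _ => mul_comm _ _

theorem dotInt_add_left (x y z : GolayPt → ℤ) : dotInt (x + y) z = dotInt x z + dotInt y z := by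
  simp [dotInt, add_mul, sum_add_distrib]

theorem dotInt_single (k : GolayPt) (a : ℤ) (z : GolayPt → ℤ) :
    dotInt (Pi.single k a) z = a * z k := by
  simp [dotInt, Pi.single_apply]

/-- A minimal vector with a 4 at `∞` is a pair of fours. -/
theorem shape_of_four_at_inf {x : GolayPt → ℤ} (hx : InL x) (hn : sqNorm x = 32) (h4 : x none = 4) :
    ∃ (k : GolayPt) (s : ℤ), k ≠ none ∧ (s = 4 ∨ s = -4) ∧
      x = Pi.single none 4 + Pi.single k s := by
  obtain ⟨t, ht, rfl⟩ := exists_code hx hn
  rcases t with ⟨i, j, si, sj⟩ | ⟨m, s⟩ | ⟨k, c⟩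
  · have hij : i < j ∧ j < 24 := by
      simp only [minList, List.mem_append, minFour, minTwo, minOdd, List.mem_flatMap, List.mem_range,
        List.mem_cons, List.mem_map, List.not_mem_nil, or_false, reduceCtorEq, and_false,
        exists_const] at ht
      obtain ⟨b, hb, a, ha, e⟩ := ht
      rcases e with e | e | e | e <;> cases e <;> exact ⟨ha, hb⟩
    have e23 : (Mathieu.ptEnc none).val = 23 := rfl
    simp only [MinCode.val, MinCode.at, e23] at h4
    have hj : j = 23 ∧ sj = false := by
      split_ifs at h4 with a b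
      · omega
      · cases sj <;> simp [sgn] at h4 ⊢; omega
      · norm_num at h4
    obtain ⟨rfl, rfl⟩ := hj
    refine ⟨Mathieu.ptEnc.symm ⟨i, by omega⟩, 4 * sgn si, ?_, ?_, funext fun p => ?_⟩
    · intro e
      have := congrArg (fun q => (Mathieu.ptEnc q).val) e
      simp only [Equiv.apply_symm_apply, e23] at this
      omega
    · cases si <;> simp [sgn]
    · have hp : p = none ↔ (Mathieu.ptEnc p).val = 23 := by
        refine ⟨fun e => by rw [e]; exact e23, fun e => Mathieu.ptEnc.injective (Fin.ext ?_)⟩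
        rw [e, e23]
      have hq : p = Mathieu.ptEnc.symm ⟨i, by omega⟩ ↔ (Mathieu.ptEnc p).val = i := by
        rw [Equiv.eq_symm_apply, Fin.ext_iff]
      simp only [MinCode.val, MinCode.at, Pi.add_apply, Pi.single_apply, hp, hq]
      split_ifs <;> simp [sgn] <;> omega
  · exfalso
    simp only [MinCode.val, MinCode.at, sgn] at h4
    split_ifs at h4 <;> norm_num at h4
  · exfalso
    simp only [MinCode.val, MinCode.at, sgn] at h4
    split_ifs at h4 <;> norm_num at h4

/-- Ordered orthogonal pairs of minimal vectors are conjugate to one standard pair. -/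
theorem ortho_pair_normal {v w : leechLattice} (hv : sqNorm (v : GolayPt → ℤ) = 32)
    (hw : sqNorm (w : GolayPt → ℤ) = 32) (hd : dotInt (v : GolayPt → ℤ) (w : GolayPt → ℤ) = 0) :
    ∃ g : Co0, g • v = pairV none (some 0) (Option.some_ne_none _).symm 4 (Or.inl rfl) ∧
      g • (v + w) = eight none := by
  obtain ⟨g, hg⟩ := co0_transitive (v + w) (eight none) 64 (Or.inr (Or.inr rfl))
    (by rw [AddSubgroup.coe_add, sqNorm_add, hv, hw, hd]; norm_num) (sqNorm_eight none)
  set x : leechLattice := g • v with hxdef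
  have hx4 : (x : GolayPt → ℤ) none = 4 := by
    have h := co0_dot g (v + w) v
    rw [hg, eight_val, dotInt_single, AddSubgroup.coe_add, dotInt_add_left, dotInt_comm (w : GolayPt → ℤ),
      hd] at h
    have hself : dotInt (v : GolayPt → ℤ) (v : GolayPt → ℤ) = 32 := by
      rw [← hv]; exact sum_congr rfl fun i _ => (sq _).symm
    rw [hxdef]
    omega
  obtain ⟨k, s, hk, hs, hxeq⟩ := shape_of_four_at_inf (mem_leechLattice.1 x.2)
    ((co0_norm g v).trans hv) hx4
  obtain ⟨σ, hσ, hσs⟩ := Mathieu.M24_exists_map (k := 2) (by norm_num)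
    ⟨![none, k], by intro i j; fin_cases i <;> fin_cases j <;> simp [hk, hk.symm]⟩
    ⟨![none, some 0], by decide⟩
  obtain ⟨c, hc, hcv⟩ := code_interp {none, some 0} (card_le_two.trans (by norm_num))
    fun p => if p = none then 0 else if s = 4 then 0 else 1
  have hc0 : c none = 0 := by rw [hcv none (by simp)]; simp
  have hc1 : c (some 0) = if s = 4 then 0 else 1 := by rw [hcv (some 0) (by simp)]; simp
  have h0 : σ none = none := hσs 0
  have h1 : σ k = some 0 := hσs 1
  refine ⟨signElt c hc * permElt σ hσ * g, ?_, ?_⟩ <;> apply Subtype.ext <;> funext p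
  · rw [mul_smul, mul_smul, ← hxdef, signElt_smul, permElt_smul, hxeq]
    simp only [signFun, mem_supp, Pi.add_apply, Pi.single_apply, Equiv.symm_apply_eq, h0, h1, pairV]
    by_cases e0 : p = none
    · subst e0; simp [hc0]
    by_cases e1 : p = some 0
    · subst e1
      rcases hs with rfl | rfl <;> simp [hc1]
    simp [e0, e1]
  · rw [mul_smul, mul_smul, hg, signElt_smul, permElt_smul, eight_val]
    simp only [signFun, mem_supp, Pi.single_apply, Equiv.symm_apply_eq, h0]
    by_cases e0 : p = none
    · subst e0; simp [hc0]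
    · simp [e0]

/-- The stabiliser of a minimal vector is transitive on the minimal vectors orthogonal to it. -/
theorem ortho_transitive (v w w' : leechLattice) (hv : sqNorm (v : GolayPt → ℤ) = 32)
    (hw : sqNorm (w : GolayPt → ℤ) = 32) (hw' : sqNorm (w' : GolayPt → ℤ) = 32)
    (hd : dotInt (v : GolayPt → ℤ) (w : GolayPt → ℤ) = 0)
    (hd' : dotInt (v : GolayPt → ℤ) (w' : GolayPt → ℤ) = 0) :
    ∃ g : Co0, g • v = v ∧ g • w = w' := by
  obtain ⟨a, ha, ha'⟩ := ortho_pair_normal hv hw hd
  obtain ⟨b, hb, hb'⟩ := ortho_pair_normal hv hw' hd'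
  have e1 : (b⁻¹ * a) • v = v := by rw [mul_smul, ha, ← hb, inv_smul_smul]
  refine ⟨b⁻¹ * a, e1, ?_⟩
  have e2 : (b⁻¹ * a) • (v + w) = v + w' := by rw [mul_smul, ha', ← hb', inv_smul_smul]
  rw [co0_add, e1] at e2
  exact add_left_cancel e2

end Cfsg.Agent.Leech
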