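import Cfsg.Agent.Lib.Leech.U35Checks
import Cfsg.Agent.Lib.Leech.HSGroup
import Cfsg.Agent.Lib.HallJanko.HomBuilder
import Cfsg.Agent.Lib.ClassicalSimple.UnitaryMatrix
import Cfsg.Agent.Lib.Forms.HermCenter
import Cfsg.Agent.Lib.Transpos.SUThreeTwo

/-!
# `PSU(3, 5)` as a group of permutations of 50 objects

Two permutations of 50 objects are induced by two lattice automorphisms, and by two unitary matrices: each of
the 126 isotropic points corresponds to a partition of the 50 into two halves.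
-/

set_option autoImplicit false
set_option maxRecDepth 20000

namespace Cfsg.Agent.Leech.U35

open Cfsg Matrix MulAction

/-! ## The permutation group -/

/-- Permutation number `g`. -/
noncomputable def gPerm (g : Fin 2) : Equiv.Perm (Fin 50) :=
  Equiv.ofBijective (fun i => ⟨ptN g i, (perm_lt g i)⟩)
    (Finite.injective_iff_bijective.1 fun i j h => perm_injective g i j (congrArg Fin.val h))

theorem gPerm_val (g : Fin 2) (i : Fin 50) : (gPerm g i : ℕ) = ptN g i := rfl

theorem gPerm_ofNat (g : Fin 2) (i : Fin 50) : Fin.ofNat 50 (ptN g i) = gPerm g i :=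
  Fin.ext (Nat.mod_eq_of_lt (perm_lt g i))

/-- The group of the five permutations. -/
noncomputable def P50 : Subgroup (Equiv.Perm (Fin 50)) := Subgroup.closure (Set.range gPerm)

theorem word_mem : ∀ (w : List ℕ), (∀ k ∈ w, k < 2) →
    ∃ π ∈ P50, ∀ i : Fin 50, (π i : ℕ) = pwN w i
  | [], _ => ⟨1, one_mem _, fun _ => rfl⟩
  | k :: w, h => by
    obtain ⟨π, hπ, e⟩ := word_mem w fun a ha => h a (List.mem_cons_of_mem _ ha)
    refine ⟨gPerm ⟨k, h k List.mem_cons_self⟩ * π,
      mul_mem (Subgroup.subset_closure ⟨_, rfl⟩) hπ, fun i => ?_⟩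
    rw [Equiv.Perm.mul_apply, gPerm_val]
    show ptN k (π i) = ptN k (pwN w i)
    rw [e i]

theorem level_step (H : Subgroup (Equiv.Perm (Fin 50))) {cert : List (ℕ × List ℕ)} {fix : List ℕ}
    {root : Fin 50} (h : levelOK cert fix root = true)
    (hH : ∀ π ∈ P50, (∀ f ∈ fix, ∀ i : Fin 50, (i : ℕ) = f → π i = i) → π ∈ H) :
    cert.length * Nat.card (H ⊓ stabilizer (Equiv.Perm (Fin 50)) root : Subgroup (Equiv.Perm (Fin 50))) ≤
      Nat.card H := by
  simp only [levelOK, Bool.and_eq_true, decide_eq_true_eq, List.all_eq_true] at h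
  obtain ⟨hnd, hall⟩ := h
  have hO : ((cert.map fun e => Fin.ofNat 50 e.1).toFinset).card = cert.length := by
    rw [List.toFinset_card_of_nodup, List.length_map]
    refine List.Nodup.of_map (Fin.val) ?_
    rw [List.map_map]
    convert hnd using 1
    exact List.map_congr_left fun e he => Nat.mod_eq_of_lt (hall e he).1.1.2
  rw [← hO]
  refine HJ.card_ge_orbit_chain H root _ fun x hx => ?_
  obtain ⟨e, he, rfl⟩ := List.mem_map.1 (List.mem_toFinset.1 hx)
  obtain ⟨⟨⟨hlt, hb⟩, hr⟩, hf⟩ := hall e he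
  obtain ⟨π, hπ, hval⟩ := word_mem e.2 hlt
  refine ⟨π, hH π hπ fun f hf' i hi => Fin.ext ?_, Fin.ext ?_⟩
  · rw [hval, hi]; exact hf f hf'
  · rw [hval, hr]; exact (Nat.mod_eq_of_lt hb).symm

theorem card_P50_ge : 126000 ≤ Nat.card P50 := by
  have h := chain_ok
  simp only [Bool.and_eq_true] at h
  obtain ⟨⟨⟨h0, h1⟩, h2⟩, h3⟩ := h
  obtain ⟨l0, l1, l2, l3⟩ := chain_lengths
  set H0 := P50
  set H1 := H0 ⊓ stabilizer (Equiv.Perm (Fin 50)) (0 : Fin 50)
  set H2 := H1 ⊓ stabilizer (Equiv.Perm (Fin 50)) (1 : Fin 50)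
  set H3 := H2 ⊓ stabilizer (Equiv.Perm (Fin 50)) (2 : Fin 50)
  have a0 := level_step H0 (root := (0 : Fin 50)) h0 fun π hπ _ => hπ
  have a1 := level_step H1 (root := (1 : Fin 50)) h1 fun π hπ hf =>
    ⟨hπ, hf 0 (by simp) 0 rfl⟩
  have a2 := level_step H2 (root := (2 : Fin 50)) h2 fun π hπ hf =>
    ⟨⟨hπ, hf 0 (by simp) 0 rfl⟩, hf 1 (by simp) 1 rfl⟩
  have a3 := level_step H3 (root := (3 : Fin 50)) h3 fun π hπ hf =>
    ⟨⟨⟨hπ, hf 0 (by simp) 0 rfl⟩, hf 1 (by simp) 1 rfl⟩, hf 2 (by simp) 2 rfl⟩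
  rw [l0] at a0
  rw [l1] at a1
  rw [l2] at a2
  rw [l3] at a3
  have : 1 ≤ Nat.card (H3 ⊓ stabilizer (Equiv.Perm (Fin 50)) (3 : Fin 50) :
      Subgroup (Equiv.Perm (Fin 50))) := Nat.card_pos
  calc 126000 = 50 * (42 * (30 * (2 * 1))) := by norm_num
    _ ≤ 50 * (42 * (30 * Nat.card H3)) := by
        refine Nat.mul_le_mul_left _ (Nat.mul_le_mul_left _ (Nat.mul_le_mul_left _ ?_))
        exact (Nat.mul_le_mul_left 2 this).trans a3
    _ ≤ 50 * (42 * Nat.card H2) := Nat.mul_le_mul_left _ (Nat.mul_le_mul_left _ a2)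
    _ ≤ 50 * Nat.card H1 := Nat.mul_le_mul_left _ a1
    _ ≤ _ := a0

/-! ## The unitary side -/

/-- The two matrices as elements of the special unitary group. -/
def genSU (g : Fin 2) : SU 3 F25 5 :=
  ⟨⟨genMat g, (gen_unitary g).1⟩, fun u v => by
    have h := (gen_unitary g).2
    show ∑ k, (genMat g *ᵥ u) k * (genMat g *ᵥ v) k ^ 5 = ∑ k, u k * v k ^ 5
    have : ExpChar F25 5 := by
      haveI : CharP F25 5 := (CharP.charP_iff_prime_eq_zero Nat.prime_five).2 (by decide +kernel)
      exact ExpChar.prime Nat.prime_five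
    simp only [Matrix.mulVec, dotProduct, sum_pow_char 5, mul_pow, Finset.sum_mul, Finset.mul_sum]
    rw [Finset.sum_comm]
    refine Finset.sum_congr rfl fun i _ => ?_
    rw [Finset.sum_comm, Finset.sum_eq_single i]
    · calc ∑ k, genMat g k i * u i * (genMat g k i ^ 5 * v i ^ 5)
          = (∑ k, genMat g k i * genMat g k i ^ 5) * (u i * v i ^ 5) := by
            rw [Finset.sum_mul]; exact Finset.sum_congr rfl fun k _ => by ring
        _ = u i * v i ^ 5 := by rw [h i i, if_pos rfl, one_mul]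
    · intro j _ hj
      calc ∑ k, genMat g k j * u j * (genMat g k i ^ 5 * v i ^ 5)
          = (∑ k, genMat g k j * genMat g k i ^ 5) * (u j * v i ^ 5) := by
            rw [Finset.sum_mul]; exact Finset.sum_congr rfl fun k _ => by ring
        _ = 0 := by rw [h j i, if_neg hj, zero_mul]
    · simp⟩

/-- The matrix of an element. -/
def mat (A : SU 3 F25 5) : Matrix (Fin 3) (Fin 3) F25 := (A : Matrix.SpecialLinearGroup (Fin 3) F25).1

/-- `A` moves the points as `π` moves the partitions. -/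
def Rel (p : SU 3 F25 5 × Equiv.Perm (Fin 50)) : Prop :=
  ∀ i : Fin 126, ∃ j : Fin 126, (∃ c : F25, mat p.1 *ᵥ pt i = c • pt j) ∧
    ∃ e : Bool, ∀ a : Fin 50, side j (p.2 a) = Bool.xor (side i a) e

/-- The pairs. -/
noncomputable def T : Subgroup (SU 3 F25 5 × Equiv.Perm (Fin 50)) :=
  Subgroup.closure (Set.range fun g => (genSU g, gPerm g))

instance finiteSU : Finite (SU 3 F25 5) := inferInstance

theorem rel_of_mem {p : SU 3 F25 5 × Equiv.Perm (Fin 50)} (hp : p ∈ T) : Rel p := by
  have hp' : p ∈ Submonoid.closure (Set.range fun g => (genSU g, gPerm g)) := by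
    rw [← Subgroup.closure_toSubmonoid_of_finite]; exact hp
  clear hp
  induction hp' using Submonoid.closure_induction with
  | mem q hq =>
    obtain ⟨g, rfl⟩ := hq
    intro i
    obtain ⟨hlt, hk⟩ := gen_pts g i
    refine ⟨Fin.ofNat 126 (qtN g i), ⟨_, funext hk⟩,
      Bool.xor (side (qtN g i) (ptN g 0)) (side i 0), fun a => ?_⟩
    rw [show ((Fin.ofNat 126 (qtN g i) : Fin 126) : ℕ) = qtN g i from Nat.mod_eq_of_lt hlt]
    exact gen_sides g i a
  | one =>
    intro i
    refine ⟨i, ⟨1, ?_⟩, false, fun a => (Bool.xor_false _).symm⟩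
    rw [one_smul]
    exact Matrix.one_mulVec _
  | mul q r _ _ hq hr =>
    intro i
    obtain ⟨j, ⟨c, hc⟩, e, he⟩ := hr i
    obtain ⟨k, ⟨c', hc'⟩, e', he'⟩ := hq j
    refine ⟨k, ⟨c * c', ?_⟩, Bool.xor e e', fun a => ?_⟩
    · show (mat q.1 * mat r.1) *ᵥ pt i = _
      rw [← Matrix.mulVec_mulVec, hc, Matrix.mulVec_smul, hc', smul_smul]
    · show side k ((q.2 * r.2) a) = _
      rw [Equiv.Perm.mul_apply, he', he, Bool.xor_assoc]

theorem center_scalar {z : SU 3 F25 5} (hz : z ∈ Subgroup.center (SU 3 F25 5)) :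
    ∃ c : F25, c ≠ 0 ∧ mat z = c • 1 := by
  have hF : Fintype.card F25 = 5 ^ 2 := card_F25
  refine ⟨mat z 0 0, fun h0 => ?_, ?_⟩
  · have hd : (mat z).det = 1 := (z : Matrix.SpecialLinearGroup (Fin 3) F25).2
    rw [Matrix.det_eq_zero_of_row_eq_zero 0] at hd
    · exact zero_ne_one hd
    · intro j
      by_cases h : (0 : Fin 3) = j
      · rw [← h]; exact h0
      · exact (Forms.center_SU_diagonal hF z hz 0 j h).1
  · ext r s
    by_cases h : r = s
    · subst h
      rw [Matrix.smul_apply, Matrix.one_apply_eq, smul_eq_mul, mul_one]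
      by_cases h0 : r = 0
      · rw [h0]
      · exact (Forms.center_SU_diagonal hF z hz r 0 h0).2
    · rw [Matrix.smul_apply, Matrix.one_apply_ne h, smul_zero]
      exact (Forms.center_SU_diagonal hF z hz r s h).1

theorem central_fixes {p : SU 3 F25 5 × Equiv.Perm (Fin 50)} (hp : p ∈ T)
    (hc : p.1 ∈ Subgroup.center (SU 3 F25 5)) : p.2 = 1 := by
  obtain ⟨c, hc0, hs⟩ := center_scalar hc
  have key : ∀ i : Fin 126, ∃ e : Bool, ∀ a : Fin 50, side i (p.2 a) = Bool.xor (side i a) e := by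
    intro i
    obtain ⟨j, ⟨d, hd⟩, e, he⟩ := rel_of_mem hp i
    rw [hs, Matrix.smul_mulVec, Matrix.one_mulVec] at hd
    have hij : i = j := pts_distinct i j fun k => by
      have hk := congrFun hd k
      have hp := congrFun hd (piv j)
      simp only [Pi.smul_apply, smul_eq_mul, pt_pivot, mul_one] at hk hp
      refine mul_left_cancel₀ hc0 ?_
      rw [hk, ← hp, mul_assoc]
    exact ⟨e, hij ▸ he⟩
  have hshift : ∀ a : Fin 50, sigN (p.2 a) = sigN a ^^^ (sigN (p.2 0) ^^^ sigN 0) := by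
    intro a
    refine Nat.eq_of_testBit_eq fun i => ?_
    simp only [Nat.testBit_xor]
    by_cases hi : i < 126
    · obtain ⟨e, he⟩ := key ⟨i, hi⟩
      have h1 := he a
      have h2 := he 0
      simp only [side, Fin.val_zero] at h1 h2
      simp only [sigN, Fin.val_zero]
      rw [h1, h2]
      cases (U35Data.sigTab.getD a 0).testBit i <;> cases (U35Data.sigTab.getD 0 0).testBit i <;>
        cases e <;> rfl
    · have hb : ∀ b : Fin 50, (sigN b).testBit i = false := fun b =>
        Nat.testBit_lt_two_pow ((sig_lt b).trans_le (Nat.pow_le_pow_right (by norm_num) (by omega)))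
      have h0 := hb 0
      rw [Fin.val_zero] at h0
      rw [hb, hb, hb, h0]
      rfl
  have h0 : p.2 0 = 0 := sig_no_shift _ fun a => ⟨p.2 a, hshift a⟩
  refine Equiv.ext fun a => sig_injective _ _ ?_
  rw [hshift, h0, Fin.val_zero, Nat.xor_self, Nat.xor_zero]
  rfl

theorem card_PSU35 : Nat.card (PSU 3 F25 5) = 126000 := by
  have hF : Fintype.card F25 = 5 ^ 2 := card_F25
  have h := Forms.card_PSU_mul hF (n := 3) (by norm_num)
  rw [Forms.card_GU hF 3] at h
  simp [Finset.prod_range_succ, Nat.even_iff] at h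
  omega

theorem exists_psu : Nonempty (P50 ≃* PSU 3 F25 5) := by
  have hF : Fintype.card F25 = 5 ^ 2 := card_F25
  let p1 : T →* PSU 3 F25 5 :=
    (QuotientGroup.mk' (Subgroup.center (SU 3 F25 5))).comp ((MonoidHom.fst _ _).comp T.subtype)
  let p2 : T →* Equiv.Perm (Fin 50) := (MonoidHom.snd _ _).comp T.subtype
  have hle : p1.ker ≤ p2.ker := fun t ht => by
    rw [MonoidHom.mem_ker] at ht ⊢
    exact central_fixes t.2 ((QuotientGroup.eq_one_iff _).1 ht)
  have hr : p2.range = P50 := by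
    show ((MonoidHom.snd _ _).comp T.subtype).range = _
    rw [MonoidHom.range_comp, Subgroup.range_subtype, T, MonoidHom.map_closure, ← Set.range_comp]
    rfl
  have c2 : p2.ker.index = Nat.card P50 := by rw [Subgroup.index_ker, hr]
  have hd : p2.ker.index ∣ p1.ker.index := Subgroup.index_dvd_of_le hle
  have hle1 : p1.ker.index ≤ 126000 := by
    rw [Subgroup.index_ker, ← card_PSU35]; exact Subgroup.card_le_card_group _
  have hpos : p1.ker.index ≠ 0 := Subgroup.index_ne_zero_of_finite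
  have e : p1.ker.index = p2.ker.index := by
    have h1 := Nat.le_of_dvd (Nat.pos_of_ne_zero hpos) hd
    have h2 := card_P50_ge
    omega
  have hk : p1.ker = p2.ker := by
    refine le_antisymm hle fun x hx => ?_
    have h1 := Subgroup.relIndex_mul_index hle
    rw [e] at h1
    have : p1.ker.relIndex p2.ker = 1 :=
      Nat.eq_of_mul_eq_mul_right (Nat.pos_of_ne_zero (e ▸ hpos)) (h1.trans (one_mul _).symm)
    exact Subgroup.relIndex_eq_one.1 this hx
  have hsurj : Function.Surjective p1 := by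
    rw [← MonoidHom.range_eq_top]
    refine Subgroup.eq_top_of_card_eq _ ?_
    rw [← Subgroup.index_ker, e, card_PSU35]
    have := card_P50_ge
    omega
  exact ⟨((MulEquiv.subgroupCongr hr.symm).trans (QuotientGroup.quotientKerEquivRange p2).symm).trans
    ((QuotientGroup.quotientMulEquivOfEq hk.symm).trans (QuotientGroup.quotientKerEquivOfSurjective p1 hsurj))⟩

end Cfsg.Agent.Leech.U35
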