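import Cfsg.Agent.Lib.Leech.U35Data
import Cfsg.Agent.Lib.Leech.Orb.HsPoints
import Cfsg.Prelude.Def_Classical

/-!
# The field of twenty-five elements and checks for the stabiliser of one of the 352 vectors
-/

set_option autoImplicit false
set_option maxRecDepth 100000

namespace Cfsg.Agent.Leech.U35

open Matrix

/-- Entry `i` of a packed table of 8-bit numbers. -/
def byte (T i : ℕ) : ℕ := (T >>> (8 * i)) &&& 255

/-- The field with 25 elements: `a + b r` has code `a + 5 b`, where `r` squares to 2. -/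
structure F25 where
  /-- The code of an element. -/
  v : Fin 25
deriving DecidableEq

/-- `F25` as `Fin 25`. -/
def equivFin : F25 ≃ Fin 25 := ⟨F25.v, F25.mk, fun _ => rfl, fun _ => rfl⟩

/-- The element with a code. -/
def el (n : ℕ) : F25 := ⟨Fin.ofNat 25 n⟩

/-- The element with given coordinates. -/
def mk2 (a b : ℕ) : F25 := el (a % 5 + 5 * (b % 5))

/-- First coordinate. -/
def re (x : F25) : ℕ := (x.v : ℕ) % 5

/-- Second coordinate. -/
def im (x : F25) : ℕ := (x.v : ℕ) / 5

instance fintypeF25 : Fintype F25 := Fintype.ofEquiv _ equivFin.symm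
instance addF25 : Add F25 := ⟨fun x y => mk2 (re x + re y) (im x + im y)⟩
instance mulF25 : Mul F25 :=
  ⟨fun x y => mk2 (re x * re y + 2 * (im x * im y)) (re x * im y + im x * re y)⟩
instance negF25 : Neg F25 := ⟨fun x => mk2 (5 - re x) (5 - im x)⟩
instance invF25 : Inv F25 :=
  ⟨fun x => let k := ((re x * re x + 3 * (im x * im x)) % 5) ^ 3
    mk2 (k * re x) (k * (5 - im x))⟩
instance zeroF25 : Zero F25 := ⟨⟨0⟩⟩
instance oneF25 : One F25 := ⟨⟨1⟩⟩

theorem f25_assoc : ∀ a b c : F25, a + b + c = a + (b + c) ∧ a * b * c = a * (b * c) ∧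
    a * (b + c) = a * b + a * c := by decide +kernel

theorem f25_unit : ∀ a : F25, 0 + a = a ∧ -a + a = 0 ∧ 1 * a = a ∧ (a ≠ 0 → a * a⁻¹ = 1) := by
  decide +kernel

theorem f25_comm : ∀ a b : F25, a * b = b * a := by decide +kernel

instance fieldF25 : Field F25 :=
  Field.ofMinimalAxioms F25
    (fun a b c => (f25_assoc a b c).1)
    (fun a => (f25_unit a).1)
    (fun a => (f25_unit a).2.1)
    (fun a b c => (f25_assoc a b c).2.1)
    f25_comm
    (fun a => (f25_unit a).2.2.1)
    (fun a ha => (f25_unit a).2.2.2 ha)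
    (by decide +kernel)
    (fun a b c => (f25_assoc a b c).2.2)
    ⟨0, 1, by decide +kernel⟩

theorem card_F25 : Fintype.card F25 = 25 := by
  rw [Fintype.card_congr equivFin, Fintype.card_fin]

/-- Image of one of the 50 under permutation number `g`. -/
def ptN (g i : ℕ) : ℕ := byte (U35Data.permTab.getD g 0) i

/-- Image of one of the 126 under permutation number `g`. -/
def qtN (g i : ℕ) : ℕ := byte (U35Data.permPtTab.getD g 0) i

/-- Image under a word. -/
def pwN : List ℕ → ℕ → ℕ
  | [], x => x
  | k :: w, x => ptN k (pwN w x)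

/-- The two matrices. -/
def genMat (g : Fin 2) : Matrix (Fin 3) (Fin 3) F25 :=
  Matrix.of fun i j => el (byte (U35Data.matTab.getD g 0) (3 * (i : ℕ) + j))

/-- Isotropic point number `i`. -/
def pt (i : Fin 126) : Fin 3 → F25 := fun j => el (byte (U35Data.ptTab.getD i 0) j)

/-- Its pivot. -/
def piv (i : Fin 126) : Fin 3 := Fin.ofNat 3 (U35Data.ptTab.getD i 0 >>> 24)

/-- The side of `a` in partition number `i`. -/
def side (i a : ℕ) : Bool := (U35Data.sigTab.getD a 0).testBit i

theorem pt_pivot : ∀ i, pt i (piv i) = 1 := by decide +kernel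

theorem pts_distinct : ∀ i j, (∀ k, pt i k = pt i (piv j) * pt j k) → i = j := by decide +kernel

theorem gen_pts : ∀ g : Fin 2, ∀ i : Fin 126, qtN g i < 126 ∧
    ∀ k, (genMat g *ᵥ pt i) k =
      (genMat g *ᵥ pt i) (piv (Fin.ofNat 126 (qtN g i))) * pt (Fin.ofNat 126 (qtN g i)) k := by
  decide +kernel

theorem gen_sides : ∀ g : Fin 2, ∀ i : Fin 126, ∀ a : Fin 50,
    side (qtN g i) (ptN g a) = Bool.xor (side i a) (Bool.xor (side (qtN g i) (ptN g 0)) (side i 0)) := by
  decide +kernel

theorem perm_lt : ∀ g : Fin 2, ∀ i : Fin 50, ptN g i < 50 := by decide +kernel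

theorem perm_injective : ∀ g : Fin 2, ∀ i j : Fin 50, ptN g i = ptN g j → i = j := by decide +kernel

/-- The signature of one of the 50. -/
def sigN (a : ℕ) : ℕ := U35Data.sigTab.getD a 0

theorem sig_lt : ∀ a : Fin 50, sigN a < 2 ^ 126 := by decide +kernel

theorem sig_injective : ∀ a b : Fin 50, sigN a = sigN b → a = b := by decide +kernel

theorem sig_no_shift : ∀ b : Fin 50,
    (∀ a : Fin 50, ∃ c : Fin 50, sigN c = sigN a ^^^ (sigN b ^^^ sigN 0)) → b = 0 := by decide +kernel

theorem gen_unitary : ∀ g : Fin 2, (genMat g).det = 1 ∧ ∀ i j : Fin 3,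
    ∑ k, genMat g k i * genMat g k j ^ 5 = if i = j then 1 else 0 := by decide +kernel

/-- Packed vector of point `i`. -/
def vecN (i : ℕ) : ℕ := U35Data.vecTab.getD i 0

theorem vec_mem : ∀ i : Fin 100, vecN i ∈ Orb.hsPointsSeed :: Orb.hsPointsSteps.map stepVec := by
  decide +kernel

theorem vec_nodup : U35Data.vecTab.Nodup ∧ U35Data.vecTab.length = 100 := by decide +kernel

theorem vec_edges : ∀ g : Fin 2, ∀ i : Fin 50,
    edgeOK (U35Data.genTab.getD g []) (vecN i) (vecN (ptN g i)) = true := by decide +kernel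

theorem gens_ok : ∀ g : Fin 2, (U35Data.genTab.getD g []).ok = true ∧
    ∀ Z ∈ ([0x377777777777777777777777, 0x99999999999999999999999d, 0x599777999797977777777777] : List ℕ),
      edgeOK (U35Data.genTab.getD g []) Z Z = true := by decide +kernel

/-- A chain level is valid: the words move the base point as stated and fix the earlier base points. -/
def levelOK (cert : List (ℕ × List ℕ)) (fix : List ℕ) (root : ℕ) : Bool :=
  (cert.map Prod.fst).Nodup && cert.all fun e => e.2.all (fun k => decide (k < 2)) && decide (e.1 < 50) &&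
    decide (pwN e.2 root = e.1) && fix.all fun f => decide (pwN e.2 f = f)

theorem chain_ok : (levelOK U35Data.chain0 [] 0 && levelOK U35Data.chain1 [0] 1 &&
    levelOK U35Data.chain2 [0, 1] 2 && levelOK U35Data.chain3 [0, 1, 2] 3) = true := by decide +kernel

theorem chain_lengths : U35Data.chain0.length = 50 ∧ U35Data.chain1.length = 42 ∧
    U35Data.chain2.length = 30 ∧ U35Data.chain3.length = 2 := by decide +kernel

end Cfsg.Agent.Leech.U35
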