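import Cfsg.Agent.Lib.Leech.U35

/-!
# The 352 vectors of the Higman-Sims configuration and their stabiliser
-/

set_option autoImplicit false
set_option maxRecDepth 20000

namespace Cfsg.Agent.Leech.U35

open Cfsg MulAction

/-- The set of 352 attached to a pair. -/
def set352 (v w : leechLattice) : Set leechLattice :=
  {x | sqNorm (x : GolayPt → ℤ) = 32 ∧ dotInt (v : GolayPt → ℤ) (x : GolayPt → ℤ) = 16 ∧
    dotInt (w : GolayPt → ℤ) (x : GolayPt → ℤ) = -24}

theorem set352_smul {g : Co0} {v w x : leechLattice} :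
    g • x ∈ set352 (g • v) (g • w) ↔ x ∈ set352 v w := by
  simp [set352, co0_norm, co0_dot]

theorem neg_mem_iff {v w x : leechLattice} :
    x ∈ set352 v w ↔ sqNorm ((-x : leechLattice) : GolayPt → ℤ) = 32 ∧
      dotInt (w : GolayPt → ℤ) ((-x : leechLattice) : GolayPt → ℤ) = 24 ∧
      dotInt (v : GolayPt → ℤ) ((-x : leechLattice) : GolayPt → ℤ) = -16 := by
  rw [AddSubgroup.coe_neg, show sqNorm (-(x : GolayPt → ℤ)) = sqNorm (x : GolayPt → ℤ) by simp [sqNorm],
    dot_neg, dot_neg]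
  simp only [set352, Set.mem_ofPred_eq]
  omega

theorem dot_baseY (x : leechLattice) : dotInt (baseY : GolayPt → ℤ) (x : GolayPt → ℤ) =
    dotInt (baseU : GolayPt → ℤ) (x : GolayPt → ℤ) + dotInt (baseW : GolayPt → ℤ) (x : GolayPt → ℤ) := by
  rw [show (baseW : GolayPt → ℤ) = (baseY : GolayPt → ℤ) - (baseU : GolayPt → ℤ) from
    AddSubgroup.coe_sub _ _ _, dot_symm ((baseY : GolayPt → ℤ) - _), dot_sub,
    dot_symm (x : GolayPt → ℤ), dot_symm (x : GolayPt → ℤ)]
  ring

theorem set352_base {x : leechLattice} :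
    x ∈ set352 baseW baseU ↔ -x ∈ decompAt baseU baseY 8 := by
  rw [neg_mem_iff]
  simp only [decompAt, decompSet, Set.mem_ofPred_eq, dot_baseY]
  omega

theorem fix_iff_Y {g : Co0} (hU : g • baseU = baseU) : g • baseY = baseY ↔ g • baseW = baseW := by
  have e : baseW = baseY + -baseU := sub_eq_add_neg _ _
  rw [e, co0_add, co0_neg g baseU, hU]
  exact ⟨fun h => by rw [h], fun h => add_right_cancel h⟩

/-- The standard member. -/
noncomputable def baseZ : leechLattice := ⟨dec Orb.hs352Seed, mem_leechLattice.2 (inL_dec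
  ((List.range 24).foldr (fun i m => if dig Orb.hs352Seed i / 2 % 2 = 1 then 2 ^ i + m else m) 0)
  (by decide +kernel) (by decide +kernel) (by decide +kernel) (by decide +kernel))⟩

theorem baseZ_mem : baseZ ∈ decompAt baseU baseY 8 :=
  ⟨⟨(by decide +kernel : sqNorm (dec Orb.hs352Seed) = 32),
    (by decide +kernel : dotInt (baseU : GolayPt → ℤ) (dec Orb.hs352Seed) = 24)⟩,
    (by decide +kernel : dotInt (baseY : GolayPt → ℤ) (dec Orb.hs352Seed) = 8)⟩

theorem z_base (z : leechLattice) (hz : z ∈ decompAt baseU baseY 8) :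
    ∃ g : Co0, g • baseU = baseU ∧ g • baseW = baseW ∧ g • baseZ = z := by
  obtain ⟨g, hg, e⟩ := (orbit_fills Orb.hs352_ok baseZ rfl _ (decompAt_finite _ _ _)
    hs_counts_base.2.le fun g hg => by
      obtain ⟨h1, h2⟩ := fix_hs (hsF.1 ▸ hg)
      have := (decompAt_smul (g := g)).2 baseZ_mem
      rwa [h1, h2] at this).2 z hz
  obtain ⟨h1, h2⟩ := fix_hs (hsF.1 ▸ hg)
  exact ⟨g, h1, (fix_iff_Y h1).1 h2, e⟩

theorem normal {v w x : leechLattice} (hv : sqNorm (v : GolayPt → ℤ) = 48)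
    (hw : sqNorm (w : GolayPt → ℤ) = 48) (hvw : dotInt (v : GolayPt → ℤ) (w : GolayPt → ℤ) = -32)
    (hx : x ∈ set352 v w) : ∃ a : Co0, a • w = baseU ∧ a • v = baseW ∧ a • x = -baseZ := by
  obtain ⟨a, a1, a2⟩ := hs_normal hw hv ((dot_symm _ _).trans hvw)
  have h := (set352_smul (g := a)).2 hx
  rw [a1, a2] at h
  obtain ⟨g, g1, g2, g3⟩ := z_base _ (set352_base.1 h)
  refine ⟨g⁻¹ * a, ?_, ?_, ?_⟩ <;> rw [mul_smul, inv_smul_eq_iff]
  · rw [a1, g1]
  · rw [a2, g2]
  · rw [co0_neg, g3, neg_neg]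

theorem ncard_set352 {v w : leechLattice} (hv : sqNorm (v : GolayPt → ℤ) = 48)
    (hw : sqNorm (w : GolayPt → ℤ) = 48) (hvw : dotInt (v : GolayPt → ℤ) (w : GolayPt → ℤ) = -32) :
    (set352 v w).ncard = 352 := by
  obtain ⟨a, a1, a2⟩ := hs_normal hw hv ((dot_symm _ _).trans hvw)
  have e : set352 v w = (fun x => a • x) ⁻¹' (Neg.neg ⁻¹' decompAt baseU baseY 8) := by
    ext x
    rw [Set.mem_preimage, Set.mem_preimage, ← set352_base, ← a1, ← a2, set352_smul]
  rw [e, show ∀ B : Set leechLattice, ((fun x => a • x) ⁻¹' B).ncard = B.ncard from fun B => ncard_preimage_smul a B,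
    Set.ncard_preimage_of_injective_subset_range neg_injective
    (fun y _ => ⟨-y, neg_neg y⟩), hs_counts_base.2]

theorem closed {v w x : leechLattice} (hw : sqNorm (w : GolayPt → ℤ) = 48)
    (hvw : dotInt (v : GolayPt → ℤ) (w : GolayPt → ℤ) = -32) (hx : x ∈ set352 v w) :
    -w - x ∈ set352 v w := by
  obtain ⟨h1, h2, h3⟩ := hx
  rw [set352, Set.mem_ofPred_eq, show ((-w - x : leechLattice) : GolayPt → ℤ) =
    -((w : GolayPt → ℤ) + (x : GolayPt → ℤ)) by rw [AddSubgroup.coe_sub, AddSubgroup.coe_neg]; abel,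
    show ∀ z : GolayPt → ℤ, sqNorm (-z) = sqNorm z from fun z => by simp [sqNorm], sqNorm_add, dot_neg,
    dot_neg, dot_add, dot_add, dot_self, hw, h1, h2, h3, hvw]
  norm_num

theorem transitive {v w x x' : leechLattice} (hv : sqNorm (v : GolayPt → ℤ) = 48)
    (hw : sqNorm (w : GolayPt → ℤ) = 48) (hvw : dotInt (v : GolayPt → ℤ) (w : GolayPt → ℤ) = -32)
    (hx : x ∈ set352 v w) (hx' : x' ∈ set352 v w) :
    ∃ g : Co0, g • v = v ∧ g • w = w ∧ g • x = x' := by
  obtain ⟨a, a1, a2, a3⟩ := normal hv hw hvw hx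
  obtain ⟨b, b1, b2, b3⟩ := normal hv hw hvw hx'
  refine ⟨b⁻¹ * a, ?_, ?_, ?_⟩ <;> rw [mul_smul, inv_smul_eq_iff]
  · rw [a2, b2]
  · rw [a1, b1]
  · rw [a3, b3]

/-- The stabiliser of the standard configuration with its standard member. -/
noncomputable def G0 : Subgroup Co0 :=
  stabilizer Co0 baseU ⊓ stabilizer Co0 baseW ⊓ stabilizer Co0 baseZ

theorem mem_G0 {g : Co0} : g ∈ G0 ↔ g • baseU = baseU ∧ g • baseW = baseW ∧ g • baseZ = baseZ := by
  simp only [G0, Subgroup.mem_inf, mem_stabilizer_iff, and_assoc]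

/-- The 352 standard vectors. -/
abbrev ZPoint : Type := ↥(decompAt baseU baseY 8)

theorem z_mem_smul (g : hsGrp) (x : ZPoint) : (g : Co0) • (x : leechLattice) ∈ decompAt baseU baseY 8 := by
  have hU := mem_stabilizer_iff.1 g.2.1
  have h := (decompAt_smul (g := (g : Co0))).2 x.2
  rwa [hU, (fix_iff_Y hU).2 (mem_stabilizer_iff.1 g.2.2)] at h

/-- The action on the 352 standard vectors. -/
noncomputable instance zAction : MulAction hsGrp ZPoint where
  smul g x := ⟨(g : Co0) • (x : leechLattice), z_mem_smul g x⟩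
  one_smul x := Subtype.ext (one_smul Co0 (x : leechLattice))
  mul_smul g h x := Subtype.ext (mul_smul (g : Co0) (h : Co0) (x : leechLattice))

/-- The standard member as a point. -/
noncomputable def ptZ : ZPoint := ⟨baseZ, baseZ_mem⟩

theorem card_G0 : Nat.card G0 = 126000 := by
  have h := Subgroup.index_mul_card (stabilizer hsGrp ptZ)
  have horb : orbit hsGrp ptZ = Set.univ := Set.eq_univ_iff_forall.2 fun y => by
    obtain ⟨g, g1, g2, g3⟩ := z_base y.1 y.2
    exact mem_orbit_iff.2 ⟨⟨g, mem_stabilizer_iff.2 g1, mem_stabilizer_iff.2 g2⟩, Subtype.ext g3⟩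
  rw [index_stabilizer, horb, Set.ncard_univ, Nat.card_coe_set_eq, hs_counts_base.2, card_hsGrp] at h
  have e : Nat.card (stabilizer hsGrp ptZ) = Nat.card G0 := Nat.card_congr
    { toFun := fun g => ⟨(g.1 : Co0), mem_G0.2 ⟨mem_stabilizer_iff.1 g.1.2.1,
        mem_stabilizer_iff.1 g.1.2.2, congrArg Subtype.val (mem_stabilizer_iff.1 g.2)⟩⟩
      invFun := fun g => ⟨⟨(g : Co0), mem_stabilizer_iff.2 (mem_G0.1 g.2).1,
        mem_stabilizer_iff.2 (mem_G0.1 g.2).2.1⟩, mem_stabilizer_iff.2 (Subtype.ext (mem_G0.1 g.2).2.2)⟩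
      left_inv := fun _ => rfl
      right_inv := fun _ => rfl }
  omega

theorem vec_exists (i : Fin 100) : ∃ y ∈ hsSet baseU baseW, (y : GolayPt → ℤ) = dec (vecN i) := by
  have h := Orb.hsPoints_ok
  simp only [orbitOK, Bool.and_eq_true, List.all_eq_true] at h
  obtain ⟨⟨⟨⟨hgens, htree⟩, -⟩, -⟩, -⟩ := h
  have hg : ∀ a ∈ Orb.hsPointsGens, ∃ c : Co0, FixesAll Orb.hsPointsF c ∧ ∀ X Y : ℕ, edgeOK a X Y = true →
      ∀ v : leechLattice, (v : GolayPt → ℤ) = dec X → ((c • v : leechLattice) : GolayPt → ℤ) = dec Y := by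
    intro a ha
    obtain ⟨c, hc⟩ := exists_gen (hgens a ha).1
    exact ⟨c, fun Z hZ v hv => Subtype.ext (by rw [hc Z v hv, edgeOK_spec ((hgens a ha).2 Z hZ), hv]),
      fun X Y he v hv => by rw [hc X v hv, edgeOK_spec he]⟩
  have h0 : baseV ∈ hsSet baseU baseW := by rw [hsSet_base]; exact baseV_mem_hs
  have hseed : (baseV : GolayPt → ℤ) = dec Orb.hsPointsSeed := hsF.2.2.2.2.symm
  rcases List.mem_cons.1 (vec_mem i) with e | e
  · exact ⟨baseV, h0, by rw [e, hseed]⟩
  · obtain ⟨s, hs, es⟩ := List.mem_map.1 e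
    obtain ⟨c, hc, hcv⟩ := vecTreeOK_spec hg baseV Orb.hsPointsSteps [Orb.hsPointsSeed] (fun Z hZ => ⟨1,
      fixesAll_one _, by rw [one_smul, List.mem_singleton.1 hZ, hseed]⟩) htree s hs
    obtain ⟨c1, c2⟩ := fix_hs hc
    refine ⟨c • baseV, ?_, by rw [hcv, es]⟩
    have := (hsSet_smul (g := c)).2 h0
    rwa [c1, (fix_iff_Y c1).1 c2] at this

/-- Vector number `i`. -/
noncomputable def nv (i : Fin 100) : leechLattice := (vec_exists i).choose

theorem nv_mem (i : Fin 100) : nv i ∈ hsSet baseU baseW := (vec_exists i).choose_spec.1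

theorem nv_val (i : Fin 100) : (nv i : GolayPt → ℤ) = dec (vecN i) := (vec_exists i).choose_spec.2

theorem vec_facts : ∀ i : Fin 100, vecN i < 16 ^ 24 ∧
    (dotInt (dec Orb.hs352Seed) (dec (vecN i)) = 8 ↔ (i : ℕ) < 50) := by decide +kernel

theorem nv_injective : Function.Injective nv := by
  intro i j h
  have e := dec_injective (vec_facts i).1 (vec_facts j).1 (by rw [← nv_val, ← nv_val, h])
  obtain ⟨hnd, hlen⟩ := vec_nodup
  have hi : (i : ℕ) < U35Data.vecTab.length := by rw [hlen]; exact i.2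
  have hj : (j : ℕ) < U35Data.vecTab.length := by rw [hlen]; exact j.2
  simp only [vecN, List.getD_eq_getElem _ _ hi, List.getD_eq_getElem _ _ hj] at e
  exact Fin.ext ((List.Nodup.getElem_inj_iff hnd).1 e)

theorem nv_surjective {y : leechLattice} (hy : y ∈ hsSet baseU baseW) : ∃ i, nv i = y := by
  have hfin : (hsSet baseU baseW).Finite := hsSet_base ▸ decompAt_finite _ _ _
  have he : Set.range nv = hsSet baseU baseW := by
    refine Set.eq_of_subset_of_ncard_le (Set.range_subset_iff.2 nv_mem) ?_ hfin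
    rw [Set.ncard_range_of_injective nv_injective, Nat.card_fin, hsSet_base, hs_counts_base.1]
  rw [← he] at hy
  exact hy

/-- The first 50. -/
noncomputable def hv (i : Fin 50) : leechLattice := nv (Fin.castLE (by norm_num) i)

theorem hv_val (i : Fin 50) : (hv i : GolayPt → ℤ) = dec (vecN i) := nv_val _

theorem hv_injective : Function.Injective hv := fun _ _ h => Fin.castLE_injective _ (nv_injective h)

theorem exists_act (g : G0) (i : Fin 50) : ∃ j, hv j = (g : Co0) • hv i := by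
  obtain ⟨hu, hw, hz⟩ := mem_G0.1 g.2
  have hm := (hsSet_smul (g := (g : Co0))).2 (nv_mem (Fin.castLE (by norm_num : 50 ≤ 100) i))
  rw [hu, hw] at hm
  obtain ⟨k, hk⟩ := nv_surjective hm
  have hd : dotInt (baseZ : GolayPt → ℤ) (nv k : GolayPt → ℤ) = 8 := by
    rw [hk, ← hz, co0_dot, nv_val]
    exact (vec_facts _).2.2 i.2
  rw [nv_val] at hd
  exact ⟨⟨k, (vec_facts k).2.1 hd⟩, hk⟩

/-- The induced map on numbers. -/
noncomputable def actFun (g : G0) (i : Fin 50) : Fin 50 := (exists_act g i).choose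

theorem hv_actFun (g : G0) (i : Fin 50) : hv (actFun g i) = (g : Co0) • hv i :=
  (exists_act g i).choose_spec

theorem actFun_one (i : Fin 50) : actFun 1 i = i :=
  hv_injective (by rw [hv_actFun]; exact one_smul Co0 _)

theorem actFun_mul (g h : G0) (i : Fin 50) : actFun (g * h) i = actFun g (actFun h i) :=
  hv_injective (by rw [hv_actFun, hv_actFun, hv_actFun]; exact mul_smul (g : Co0) (h : Co0) _)

/-- The permutation representation on the 50. -/
noncomputable def rep : G0 →* Equiv.Perm (Fin 50) where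
  toFun g :=
    { toFun := actFun g
      invFun := actFun g⁻¹
      left_inv := fun i => by rw [← actFun_mul, inv_mul_cancel, actFun_one]
      right_inv := fun i => by rw [← actFun_mul, mul_inv_cancel, actFun_one] }
  map_one' := Equiv.ext actFun_one
  map_mul' g h := Equiv.ext (actFun_mul g h)

theorem gPerm_mem (k : Fin 2) : gPerm k ∈ rep.range := by
  obtain ⟨hok, hF⟩ := gens_ok k
  obtain ⟨c, hc⟩ := exists_gen hok
  have hfix : ∀ (X : ℕ) (v : leechLattice), (v : GolayPt → ℤ) = dec X →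
      edgeOK (U35Data.genTab.getD k []) X X = true → c • v = v := fun X v hv he =>
    Subtype.ext (by rw [hc X v hv, edgeOK_spec he, hv])
  have hUW : (baseU : GolayPt → ℤ) = dec 0x377777777777777777777777 ∧
      (baseW : GolayPt → ℤ) = dec 0x99999999999999999999999d := by decide +kernel
  have hm : c ∈ G0 := mem_G0.2 ⟨hfix _ _ hUW.1 (hF _ (by simp)), hfix _ _ hUW.2 (hF _ (by simp)),
    hfix Orb.hs352Seed _ rfl (hF _ (by simp [Orb.hs352Seed]))⟩
  refine ⟨⟨c, hm⟩, Equiv.ext fun i => hv_injective (Subtype.ext ?_)⟩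
  show (hv (actFun ⟨c, hm⟩ i) : GolayPt → ℤ) = _
  rw [hv_actFun, hc _ (hv i) (hv_val i), edgeOK_spec (vec_edges k i), hv_val]
  rfl

theorem exists_iso : Nonempty (G0 ≃* P50) := by
  have hle : P50 ≤ rep.range := (Subgroup.closure_le _).2 (Set.range_subset_iff.2 gPerm_mem)
  have h1 : Nat.card P50 ≤ Nat.card rep.range := Subgroup.card_le_of_le hle
  have h2 : Nat.card rep.range ≤ Nat.card G0 :=
    Nat.card_le_card_of_surjective _ rep.rangeRestrict_surjective
  haveI : Finite G0 := Nat.finite_of_card_ne_zero (by rw [card_G0]; norm_num)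
  have h3 := card_P50_ge
  rw [card_G0] at h2
  have hbij : Function.Bijective rep.rangeRestrict := (Nat.bijective_iff_surjective_and_card _).2
    ⟨rep.rangeRestrict_surjective, by rw [card_G0]; omega⟩
  have he : P50 = rep.range := Subgroup.eq_of_le_of_card_ge hle (by omega)
  exact ⟨(MulEquiv.ofBijective rep.rangeRestrict hbij).trans (MulEquiv.subgroupCongr he.symm)⟩

theorem stab_iso_PSU35 {v w x : leechLattice} (hv : sqNorm (v : GolayPt → ℤ) = 48)
    (hw : sqNorm (w : GolayPt → ℤ) = 48) (hvw : dotInt (v : GolayPt → ℤ) (w : GolayPt → ℤ) = -32)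
    (hx : x ∈ set352 v w) (F : Type) [Field F] [Fintype F] (hF : Fintype.card F = 25) :
    Nonempty (↥(stabilizer Co0 v ⊓ stabilizer Co0 w ⊓ stabilizer Co0 x) ≃* PSU 3 F 5) := by
  obtain ⟨a, haw, hav, hax⟩ := normal hv hw hvw hx
  obtain ⟨e1⟩ := exists_iso
  obtain ⟨e2⟩ := exists_psu
  obtain ⟨r⟩ : Nonempty (F25 ≃+* F) := ⟨FiniteField.ringEquivOfCardEq (card_F25.trans hF.symm)⟩
  let φ := Transpos.SU32.suMap r 3 5
  let e3 : PSU 3 F25 5 ≃* PSU 3 F 5 :=
    QuotientGroup.congr _ _ φ (by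
    ext z
    simp only [Subgroup.mem_map, MulEquiv.coe_toMonoidHom, Subgroup.mem_center_iff]
    constructor
    · rintro ⟨y, hy, rfl⟩ w
      show w * φ y = φ y * w
      rw [← φ.apply_symm_apply w, ← map_mul, ← map_mul, hy]
    · intro hz
      exact ⟨φ.symm z, fun w => φ.injective (by simp [map_mul, hz]), φ.apply_symm_apply z⟩)
  have hmap : (stabilizer Co0 v ⊓ stabilizer Co0 w ⊓ stabilizer Co0 x).map (MulAut.conj a).toMonoidHom =
      G0 := by
    rw [Subgroup.map_inf _ _ _ (MulAut.conj a).injective, Subgroup.map_inf _ _ _ (MulAut.conj a).injective,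
      ← stabilizer_smul_eq_stabilizer_map_conj, ← stabilizer_smul_eq_stabilizer_map_conj,
      ← stabilizer_smul_eq_stabilizer_map_conj, haw, hav, hax]
    ext g
    simp only [Subgroup.mem_inf, mem_stabilizer_iff, mem_G0, co0_neg, neg_inj]
    tauto
  exact ⟨(((MulAut.conj a).subgroupMap _).trans (MulEquiv.subgroupCongr hmap)).trans
    ((e1.trans e2).trans e3)⟩

end Cfsg.Agent.Leech.U35
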