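import Cfsg.Agent.Lib.Leech.U43Data
import Cfsg.Agent.Lib.Leech.Orb.MclNear
import Cfsg.Prelude.Def_Classical

/-!
# The field of nine elements by tables, and checks for the stabiliser of a point in the McLaughlin configuration
-/

set_option autoImplicit false
set_option maxRecDepth 100000

namespace Cfsg.Agent.Leech.U43

open Matrix

/-- Entry `i` of a packed table of 4-bit numbers. -/
def nib (T i : ℕ) : ℕ := (T >>> (4 * i)) &&& 15

/-- The field with nine elements: `a + b i` has code `a + 3 b`. -/
structure F9 where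
  /-- The code of an element. -/
  v : Fin 9
deriving DecidableEq

/-- `F9` as `Fin 9`. -/
def equivFin : F9 ≃ Fin 9 := ⟨F9.v, F9.mk, fun _ => rfl, fun _ => rfl⟩

/-- The element with a code. -/
def el (n : ℕ) : F9 := ⟨Fin.ofNat 9 n⟩

instance fintypeF9 : Fintype F9 := Fintype.ofEquiv _ equivFin.symm
instance addF9 : Add F9 := ⟨fun a b => el (nib 0x435102768354021687543210876102768435021687354210876543768435102687354021876543210 (9 * (a.v : ℕ) + b.v))⟩
instance mulF9 : Mul F9 := ⟨fun a b => el (nib 0x615237480138624570582471360264318750327165840741852630453786120876543210000000000 (9 * (a.v : ℕ) + b.v))⟩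
instance negF9 : Neg F9 := ⟨fun a => el (nib 0x453786120 a.v)⟩
instance invF9 : Inv F9 := ⟨fun a => el (nib 0x783456210 a.v)⟩
instance zeroF9 : Zero F9 := ⟨⟨0⟩⟩
instance oneF9 : One F9 := ⟨⟨1⟩⟩

theorem f9_assoc : ∀ a b c : F9, a + b + c = a + (b + c) ∧ a * b * c = a * (b * c) ∧
    a * (b + c) = a * b + a * c := by decide +kernel

theorem f9_unit : ∀ a : F9, 0 + a = a ∧ -a + a = 0 ∧ 1 * a = a ∧ (a ≠ 0 → a * a⁻¹ = 1) := by
  decide +kernel

theorem f9_comm : ∀ a b : F9, a * b = b * a := by decide +kernel

instance fieldF9 : Field F9 :=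
  Field.ofMinimalAxioms F9
    (fun a b c => (f9_assoc a b c).1)
    (fun a => (f9_unit a).1)
    (fun a => (f9_unit a).2.1)
    (fun a b c => (f9_assoc a b c).2.1)
    f9_comm
    (fun a => (f9_unit a).2.2.1)
    (fun a ha => (f9_unit a).2.2.2 ha)
    (by decide +kernel)
    (fun a b c => (f9_assoc a b c).2.2)
    ⟨0, 1, by decide +kernel⟩

theorem card_F9 : Fintype.card F9 = 9 := by
  rw [Fintype.card_congr equivFin, Fintype.card_fin]

/-- Image of a point under permutation number `g`. -/
def ptN (g i : ℕ) : ℕ := (U43Data.permTab.getD g 0 >>> (8 * i)) &&& 255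

/-- Image of a point under a word. -/
def pwN : List ℕ → ℕ → ℕ
  | [], x => x
  | k :: w, x => ptN k (pwN w x)

/-- The five matrices. -/
def genMat (g : Fin 5) : Matrix (Fin 4) (Fin 4) F9 :=
  Matrix.of fun i j => el (nib (U43Data.matTab.getD g 0) (4 * (i : ℕ) + j))

/-- The first spanning vector of line `i`. -/
def lineU (i : Fin 112) : Fin 4 → F9 := fun j => el (nib (U43Data.lineTab.getD i 0) j)

/-- The second spanning vector of line `i`. -/
def lineV (i : Fin 112) : Fin 4 → F9 := fun j => el (nib (U43Data.lineTab.getD i 0) (4 + (j : ℕ)))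

/-- First pivot of line `i`. -/
def pivP (i : Fin 112) : Fin 4 := Fin.ofNat 4 (U43Data.lineTab.getD i 0 >>> 32)

/-- Second pivot of line `i`. -/
def pivQ (i : Fin 112) : Fin 4 := Fin.ofNat 4 (U43Data.lineTab.getD i 0 >>> 34)

/-- Lying on line `i`, read from the pivot coordinates. -/
def OnLine (i : Fin 112) (x : Fin 4 → F9) : Prop :=
  ∀ j, x j = x (pivP i) * lineU i j + x (pivQ i) * lineV i j

instance decOnLine (i : Fin 112) (x : Fin 4 → F9) : Decidable (OnLine i x) :=
  inferInstanceAs (Decidable (∀ j, x j = x (pivP i) * lineU i j + x (pivQ i) * lineV i j))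

theorem line_pivots : ∀ i, lineU i (pivP i) = 1 ∧ lineU i (pivQ i) = 0 ∧ lineV i (pivP i) = 0 ∧
    lineV i (pivQ i) = 1 := by decide +kernel

theorem lines_distinct : ∀ i j, OnLine j (lineU i) → OnLine j (lineV i) → i = j := by decide +kernel

theorem gen_lines : ∀ g : Fin 5, ∀ i : Fin 112, ptN g i < 112 ∧
    OnLine (Fin.ofNat 112 (ptN g i)) (genMat g *ᵥ lineU i) ∧
    OnLine (Fin.ofNat 112 (ptN g i)) (genMat g *ᵥ lineV i) := by decide +kernel

theorem perm_injective : ∀ g : Fin 5, ∀ i j : Fin 112, ptN g i = ptN g j → i = j := by decide +kernel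

theorem gen_unitary : ∀ g : Fin 5, (genMat g).det = 1 ∧ ∀ i j : Fin 4,
    ∑ k, genMat g k i * genMat g k j ^ 3 = if i = j then 1 else 0 := by decide +kernel

/-- Packed vector of point `i`. -/
def vecN (i : ℕ) : ℕ := U43Data.vecTab.getD i 0

theorem vec_mem : ∀ i : Fin 112, vecN i ∈ Orb.mclNearSeed :: Orb.mclNearSteps.map stepVec := by
  decide +kernel

theorem vec_nodup : U43Data.vecTab.Nodup ∧ U43Data.vecTab.length = 112 := by decide +kernel

theorem vec_edges : ∀ g : Fin 5, ∀ i : Fin 112,
    edgeOK (Orb.mclNearGens.getD g []) (vecN i) (vecN (ptN g i)) = true := by decide +kernel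

theorem gens_length : Orb.mclNearGens.length = 5 := by decide +kernel

/-- A chain level is valid: the words move the base point as stated and fix the earlier base points. -/
def levelOK (cert : List (ℕ × List ℕ)) (fix : List ℕ) (root : ℕ) : Bool :=
  (cert.map Prod.fst).Nodup && cert.all fun e => e.2.all (fun k => decide (k < 5)) && decide (e.1 < 112) &&
    decide (pwN e.2 root = e.1) && fix.all fun f => decide (pwN e.2 f = f)

theorem chain_ok : (levelOK U43Data.chain0 [] 0 && levelOK U43Data.chain1 [0] 4 &&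
    levelOK U43Data.chain2 [0, 4] 5 && levelOK U43Data.chain3 [0, 4, 5] 7) = true := by decide +kernel

theorem chain_lengths : U43Data.chain0.length = 112 ∧ U43Data.chain1.length = 81 ∧
    U43Data.chain2.length = 30 ∧ U43Data.chain3.length = 12 := by decide +kernel

end Cfsg.Agent.Leech.U43
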