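import Cfsg.Agent.Lib.Leech.U43

/-!
# The point stabiliser of the McLaughlin configuration
-/

set_option autoImplicit false
set_option maxRecDepth 20000

namespace Cfsg.Agent.Leech.U43

open Cfsg MulAction

/-- The stabiliser of the standard configuration with its standard point. -/
noncomputable def G0 : Subgroup Co0 :=
  stabilizer Co0 baseU ⊓ stabilizer Co0 baseV ⊓ stabilizer Co0 baseX

theorem mem_G0 {g : Co0} : g ∈ G0 ↔ g • baseU = baseU ∧ g • baseV = baseV ∧ g • baseX = baseX := by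
  simp only [G0, Subgroup.mem_inf, mem_stabilizer_iff, and_assoc]

theorem card_G0 : Nat.card G0 = 3265920 := by
  have h := Subgroup.index_mul_card (stabilizer mclGrp ptX)
  have horb : orbit mclGrp ptX = Set.univ := Set.eq_univ_iff_forall.2 fun y => mcl_exists_smul y
  rw [index_stabilizer, horb, Set.ncard_univ, card_MclPoint, card_mclGrp] at h
  have e : Nat.card (stabilizer mclGrp ptX) = Nat.card G0 := Nat.card_congr
    { toFun := fun g => ⟨(g.1 : Co0), mem_G0.2 ⟨mem_stabilizer_iff.1 g.1.2.1,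
        mem_stabilizer_iff.1 g.1.2.2, congrArg Subtype.val (mem_stabilizer_iff.1 g.2)⟩⟩
      invFun := fun g => ⟨⟨(g : Co0), mem_stabilizer_iff.2 (mem_G0.1 g.2).1,
        mem_stabilizer_iff.2 (mem_G0.1 g.2).2.1⟩, mem_stabilizer_iff.2 (Subtype.ext (mem_G0.1 g.2).2.2)⟩
      left_inv := fun _ => rfl
      right_inv := fun _ => rfl }
  omega

/-- The near suborbit. -/
noncomputable def nearSet : Set leechLattice := mclNearSet baseU baseV baseX

theorem near_smul {g : Co0} (hg : g ∈ G0) {y : leechLattice} (hy : y ∈ nearSet) : g • y ∈ nearSet := by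
  obtain ⟨hu, hv, hx⟩ := mem_G0.1 hg
  refine ⟨?_, ?_⟩
  · have := (decompAt_smul (g := g)).2 hy.1
    rwa [hu, hv] at this
  · rw [← hx, co0_dot]; exact hy.2

theorem gens_spec : ∀ a ∈ Orb.mclNearGens, ∃ c : Co0, c ∈ G0 ∧ ∀ X Y : ℕ, edgeOK a X Y = true →
    ∀ v : leechLattice, (v : GolayPt → ℤ) = dec X → ((c • v : leechLattice) : GolayPt → ℤ) = dec Y := by
  intro a ha
  have h := Orb.mclNear_ok
  simp only [orbitOK, Bool.and_eq_true, List.all_eq_true] at h
  obtain ⟨⟨⟨⟨hgens, -⟩, -⟩, -⟩, -⟩ := h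
  obtain ⟨c, hc⟩ := exists_gen (hgens a ha).1
  have hF : FixesAll Orb.mclNearF c := fun Z hZ v hv =>
    Subtype.ext (by rw [hc Z v hv, edgeOK_spec ((hgens a ha).2 Z hZ), hv])
  exact ⟨c, mem_G0.2 (fix_mclNear hF), fun X Y he v hv => by rw [hc X v hv, edgeOK_spec he]⟩

theorem vec_exists (i : Fin 112) : ∃ y ∈ nearSet, (y : GolayPt → ℤ) = dec (vecN i) := by
  classical
  obtain ⟨y₀, hy₀, hy₀m⟩ : ∃ y : leechLattice, (y : GolayPt → ℤ) = dec Orb.mclNearSeed ∧ y ∈ nearSet := by
    have hL : InL (dec Orb.mclNearSeed) := ⟨by decide +kernel, by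
      rw [Mathieu.mem_golayCode_iff]
      exact ⟨(List.range 24).foldr (fun i m => if dig Orb.mclNearSeed i / 2 % 2 = 1 then 2 ^ i + m else m) 0,
        by decide +kernel, by decide +kernel⟩, by decide +kernel⟩
    exact ⟨⟨_, mem_leechLattice.2 hL⟩, rfl,
      ⟨⟨(by decide +kernel : sqNorm (dec Orb.mclNearSeed) = 32),
        (by decide +kernel : dotInt (baseU : GolayPt → ℤ) (dec Orb.mclNearSeed) = 24)⟩,
        (by decide +kernel : dotInt (baseV : GolayPt → ℤ) (dec Orb.mclNearSeed) = 16)⟩,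
      (by decide +kernel : dotInt (baseX : GolayPt → ℤ) (dec Orb.mclNearSeed) = 8)⟩
  have h := Orb.mclNear_ok
  simp only [orbitOK, Bool.and_eq_true, List.all_eq_true] at h
  obtain ⟨⟨⟨⟨hgens, htree⟩, -⟩, -⟩, -⟩ := h
  have hg : ∀ a ∈ Orb.mclNearGens, ∃ c : Co0, FixesAll Orb.mclNearF c ∧ ∀ X Y : ℕ, edgeOK a X Y = true →
      ∀ v : leechLattice, (v : GolayPt → ℤ) = dec X → ((c • v : leechLattice) : GolayPt → ℤ) = dec Y := by
    intro a ha
    obtain ⟨c, hc⟩ := exists_gen (hgens a ha).1
    exact ⟨c, fun Z hZ v hv => Subtype.ext (by rw [hc Z v hv, edgeOK_spec ((hgens a ha).2 Z hZ), hv]),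
      fun X Y he v hv => by rw [hc X v hv, edgeOK_spec he]⟩
  rcases List.mem_cons.1 (vec_mem i) with e | e
  · exact ⟨y₀, hy₀m, by rw [e, hy₀]⟩
  · obtain ⟨s, hs, es⟩ := List.mem_map.1 e
    obtain ⟨c, hc, hcv⟩ := vecTreeOK_spec hg y₀ Orb.mclNearSteps [Orb.mclNearSeed] (fun Z hZ => ⟨1,
      fixesAll_one _, by rw [one_smul, List.mem_singleton.1 hZ, hy₀]⟩) htree s hs
    exact ⟨c • y₀, near_smul (mem_G0.2 (fix_mclNear hc)) hy₀m, by rw [hcv, es]⟩

/-- Vector number `i`. -/
noncomputable def nv (i : Fin 112) : leechLattice := (vec_exists i).choose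

theorem nv_mem (i : Fin 112) : nv i ∈ nearSet := (vec_exists i).choose_spec.1

theorem nv_val (i : Fin 112) : (nv i : GolayPt → ℤ) = dec (vecN i) := (vec_exists i).choose_spec.2

theorem vec_lt : ∀ i : Fin 112, vecN i < 16 ^ 24 := by decide +kernel

theorem nv_injective : Function.Injective nv := by
  intro i j h
  have e := dec_injective (vec_lt i) (vec_lt j) (by rw [← nv_val, ← nv_val, h])
  obtain ⟨hnd, hlen⟩ := vec_nodup
  have hi : (i : ℕ) < U43Data.vecTab.length := by rw [hlen]; exact i.2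
  have hj : (j : ℕ) < U43Data.vecTab.length := by rw [hlen]; exact j.2
  simp only [vecN, List.getD_eq_getElem _ _ hi, List.getD_eq_getElem _ _ hj] at e
  exact Fin.ext ((List.Nodup.getElem_inj_iff hnd).1 e)

theorem nv_surjective {y : leechLattice} (hy : y ∈ nearSet) : ∃ i, nv i = y := by
  have hfin : nearSet.Finite := (decompAt_finite baseU baseV 16).subset fun _ h => h.1
  have he : Set.range nv = nearSet := by
    refine Set.eq_of_subset_of_ncard_le (Set.range_subset_iff.2 nv_mem) ?_ hfin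
    rw [Set.ncard_range_of_injective nv_injective, Nat.card_fin]
    exact mcl_suborbits_base.1.le
  rw [← he] at hy
  exact hy

theorem exists_act (g : G0) (i : Fin 112) : ∃ j, nv j = (g : Co0) • nv i :=
  nv_surjective (near_smul g.2 (nv_mem i))

/-- The induced map on numbers. -/
noncomputable def actFun (g : G0) (i : Fin 112) : Fin 112 := (exists_act g i).choose

theorem nv_actFun (g : G0) (i : Fin 112) : nv (actFun g i) = (g : Co0) • nv i :=
  (exists_act g i).choose_spec

theorem actFun_one (i : Fin 112) : actFun 1 i = i :=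
  nv_injective (by rw [nv_actFun]; exact one_smul Co0 _)

theorem actFun_mul (g h : G0) (i : Fin 112) : actFun (g * h) i = actFun g (actFun h i) :=
  nv_injective (by rw [nv_actFun, nv_actFun, nv_actFun]; exact mul_smul (g : Co0) (h : Co0) _)

/-- The permutation representation on the near suborbit. -/
noncomputable def rep : G0 →* Equiv.Perm (Fin 112) where
  toFun g :=
    { toFun := actFun g
      invFun := actFun g⁻¹
      left_inv := fun i => by rw [← actFun_mul, inv_mul_cancel, actFun_one]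
      right_inv := fun i => by rw [← actFun_mul, mul_inv_cancel, actFun_one] }
  map_one' := Equiv.ext actFun_one
  map_mul' g h := Equiv.ext (actFun_mul g h)

theorem gPerm_mem (k : Fin 5) : gPerm k ∈ rep.range := by
  have hk : (k : ℕ) < Orb.mclNearGens.length := by rw [gens_length]; exact k.2
  obtain ⟨c, hc, hedge⟩ := gens_spec (Orb.mclNearGens.getD k [])
    (by rw [List.getD_eq_getElem _ _ hk]; exact List.getElem_mem _)
  refine ⟨⟨c, hc⟩, Equiv.ext fun i => nv_injective (Subtype.ext ?_)⟩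
  show (nv (actFun ⟨c, hc⟩ i) : GolayPt → ℤ) = _
  rw [nv_actFun, hedge _ _ (vec_edges k i) (nv i) (nv_val i), nv_val]
  rfl

theorem exists_iso : Nonempty (G0 ≃* P112) := by
  have hle : P112 ≤ rep.range := (Subgroup.closure_le _).2 (Set.range_subset_iff.2 gPerm_mem)
  have h1 : Nat.card P112 ≤ Nat.card rep.range := Subgroup.card_le_of_le hle
  have h2 : Nat.card rep.range ≤ Nat.card G0 :=
    Nat.card_le_card_of_surjective _ rep.rangeRestrict_surjective
  haveI : Finite G0 := Nat.finite_of_card_ne_zero (by rw [card_G0]; norm_num)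
  have h3 := card_P112_ge
  rw [card_G0] at h2
  have hbij : Function.Bijective rep.rangeRestrict := (Nat.bijective_iff_surjective_and_card _).2
    ⟨rep.rangeRestrict_surjective, by rw [card_G0]; omega⟩
  have he : P112 = rep.range := Subgroup.eq_of_le_of_card_ge hle (by omega)
  exact ⟨(MulEquiv.ofBijective rep.rangeRestrict hbij).trans (MulEquiv.subgroupCongr he.symm)⟩

theorem stab_iso_PSU43 {u v x : leechLattice} (hu : sqNorm (u : GolayPt → ℤ) = 48) (hv : v ∈ decompSet u)
    (hx : x ∈ decompAt u v 16) (F : Type) [Field F] [Fintype F] (hF : Fintype.card F = 9) :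
    Nonempty (↥(stabilizer Co0 u ⊓ stabilizer Co0 v ⊓ stabilizer Co0 x) ≃* PSU 4 F 3) := by
  obtain ⟨a, hau, hav, hax⟩ := mcl_normal hu hv hx
  obtain ⟨e1⟩ := exists_iso
  obtain ⟨e2⟩ := exists_psu
  obtain ⟨r⟩ : Nonempty (F9 ≃+* F) := ⟨FiniteField.ringEquivOfCardEq (card_F9.trans hF.symm)⟩
  let φ := Transpos.SU32.suMap r 4 3
  let e3 : PSU 4 F9 3 ≃* PSU 4 F 3 :=
    QuotientGroup.congr _ _ φ (by
    ext z
    simp only [Subgroup.mem_map, MulEquiv.coe_toMonoidHom, Subgroup.mem_center_iff]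
    constructor
    · rintro ⟨y, hy, rfl⟩ w
      show w * φ y = φ y * w
      rw [← φ.apply_symm_apply w, ← map_mul, ← map_mul, hy]
    · intro hz
      exact ⟨φ.symm z, fun w => φ.injective (by simp [map_mul, hz]), φ.apply_symm_apply z⟩)
  have hmap : (stabilizer Co0 u ⊓ stabilizer Co0 v ⊓ stabilizer Co0 x).map (MulAut.conj a).toMonoidHom =
      G0 := by
    rw [Subgroup.map_inf _ _ _ (MulAut.conj a).injective, Subgroup.map_inf _ _ _ (MulAut.conj a).injective,
      ← stabilizer_smul_eq_stabilizer_map_conj, ← stabilizer_smul_eq_stabilizer_map_conj,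
      ← stabilizer_smul_eq_stabilizer_map_conj, hau, hav, hax]
    rfl
  exact ⟨(((MulAut.conj a).subgroupMap _).trans (MulEquiv.subgroupCongr hmap)).trans
    ((e1.trans e2).trans e3)⟩

end Cfsg.Agent.Leech.U43
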