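import Cfsg.Agent.Lib.Leech.U62Checks
import Cfsg.Agent.Lib.Leech.Minus16Pair
import Cfsg.Agent.Lib.Leech.Co2Group
import Cfsg.Agent.Lib.Leech.HSGroup
import Cfsg.Agent.Lib.Presented.FiU6Iso
import Cfsg.Agent.Lib.Transpos.SUThreeTwo

/-!
# The joint stabiliser of two minimal vectors with dot product -16 is `PSU(6, 2)`

Eight lattice automorphisms satisfy the relators of the eight transvections, so the group they generate is
an image of the simple group `PSU(6, 2)`; the stabiliser has the same order.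
-/

set_option autoImplicit false
set_option maxRecDepth 20000

namespace Cfsg.Agent.Leech.U62

open Cfsg Cfsg.Spor MulAction Cfsg.Agent.Presented Cfsg.Agent.Presented.FiU6Iso FiIndex

/-! ## Homomorphisms out of `PSU(6, 2)` -/

theorem exists_hom_of_rels {P : Type*} [Group P] [Finite P] (s : ℕ → P) (hhigh : ∀ i, ¬ i < 8 → s i = 1)
    (hrel : ∀ w ∈ FiU6Data.rels, wval s w = 1) (haw : wval s FiU6Data.aWord = 1) :
    ∃ ψ : PU →* P, ∀ i < 8, ψ (pu i) = s i := by
  set t : ℕ → Fi22 × (PU × P) := fun i => (fu i, (pu i, s i))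
  have trel : ∀ w ∈ FiU6Data.rels, wval t w = 1 := fun w hw => by
    refine Prod.ext ?_ (Prod.ext ?_ ?_)
    · exact (wval_map (MonoidHom.fst Fi22 (PU × P)) w).trans (fu_rels hw)
    · exact (wval_map ((MonoidHom.fst PU P).comp (MonoidHom.snd Fi22 (PU × P))) w).trans
        (pu_word (List.mem_append_left _ hw))
    · exact (wval_map ((MonoidHom.snd PU P).comp (MonoidHom.snd Fi22 (PU × P))) w).trans (hrel w hw)
  have tsq : ∀ g, t g * t g = 1 := fun g => by
    by_cases hg : g < 8
    · have key : ∀ i < 8, [i, i] ∈ FiU6Data.rels := by decide +kernel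
      simpa [wval] using trel _ (key g hg)
    · simp [t, fu_high hg, pu_high hg, hhigh g hg]
  set S := Subgroup.closure (t '' {g | g ∈ List.range 8}) with hS
  obtain ⟨hfin, hle⟩ := bound8 tsq trel
  have h1 : S.map (MonoidHom.fst Fi22 (PU × P)) = hSub := by
    rw [hS, MonoidHom.map_closure, Set.image_image, ← fu_closure]
    rfl
  haveI : Finite Fi22 := FiOrder.card_le.1
  have i1 : Function.Injective ((MonoidHom.fst Fi22 (PU × P)).subgroupMap S) :=
    ((Nat.bijective_iff_surjective_and_card _).2 ⟨MonoidHom.subgroupMap_surjective _ _, le_antisymm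
      (hle.trans (le_of_eq (by rw [h1, FiOrder.card_hSub])))
      (Nat.card_le_card_of_surjective _ (MonoidHom.subgroupMap_surjective _ _))⟩).1
  let E : S ≃* hSub := (MulEquiv.ofBijective _ ⟨i1, MonoidHom.subgroupMap_surjective _ _⟩).trans
    (MulEquiv.subgroupCongr h1)
  let Φ : hSub →* PU × P :=
    (MonoidHom.snd Fi22 (PU × P)).comp (S.subtype.comp E.symm.toMonoidHom)
  have hΦ : ∀ w : List ℕ, (∀ g ∈ w, g < 8) → Φ (wval hu w) = (wval pu w, wval s w) := by
    intro w hw
    have hm : wval t w ∈ S := by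
      induction w with
      | nil => exact S.one_mem
      | cons g w ih =>
        exact S.mul_mem (ih fun x hx => hw x (List.mem_cons_of_mem _ hx))
          (Subgroup.subset_closure ⟨g, List.mem_range.2 (hw g List.mem_cons_self), rfl⟩)
    have hE : E ⟨_, hm⟩ = wval hu w :=
      Subtype.ext ((wval_map (MonoidHom.fst Fi22 (PU × P)) w).trans (coe_wval_hu w).symm)
    rw [← hE]
    simp only [Φ, MonoidHom.comp_apply, MulEquiv.coe_toMonoidHom, MulEquiv.symm_apply_apply]
    refine Prod.ext ?_ ?_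
    · exact wval_map ((MonoidHom.fst PU P).comp (MonoidHom.snd Fi22 (PU × P))) w
    · exact wval_map ((MonoidHom.snd PU P).comp (MonoidHom.snd Fi22 (PU × P))) w
  let φ : hSub →* PU := (MonoidHom.fst PU P).comp Φ
  let χ : hSub →* P := (MonoidHom.snd PU P).comp Φ
  have hgen : ∀ i < 8, φ (hu i) = pu i ∧ χ (hu i) = s i := fun i hi => by
    have := hΦ [i] (by simpa using hi)
    simp only [wval, one_mul] at this
    exact ⟨congrArg Prod.fst this, congrArg Prod.snd this⟩
  have hφ : Function.Surjective φ := by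
    rw [← MonoidHom.range_eq_top]
    refine top_le_iff.1 ?_
    calc (⊤ : Subgroup PU)
        = Subgroup.closure ((fun g => QuotientGroup.mk' _ (FiU6.uS g)) '' {g | g ∈ List.range 8}) := by
          rw [← Set.image_image, ← MonoidHom.map_closure,
            show {g | g ∈ List.range 8} = {g : ℕ | g < 8} from Set.ext fun g => List.mem_range]
          change _ = Subgroup.map _ FiU6.gen8
          rw [FiU6.gen8_eq_top, Subgroup.map_top_of_surjective _ (QuotientGroup.mk'_surjective _)]
      _ ≤ φ.range := by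
          rw [Subgroup.closure_le]
          rintro _ ⟨i, hi, rfl⟩
          exact ⟨hu i, (hgen i (List.mem_range.1 hi)).1⟩
  have hker : Nat.card φ.ker = 2 := by
    have h := φ.ker.index_mul_card
    rw [Subgroup.index_ker, MonoidHom.range_eq_top.2 hφ, Subgroup.card_top, card_PU, FiOrder.card_hSub] at h
    omega
  set a := wval hu FiU6Data.aWord with ha
  have hav := hΦ FiU6Data.aWord (by decide +kernel)
  have hkerle : φ.ker ≤ χ.ker := by
    have haφ : a ∈ φ.ker := by
      rw [MonoidHom.mem_ker]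
      exact (congrArg Prod.fst hav).trans (pu_word (by simp))
    have haχ : a ∈ χ.ker := by
      rw [MonoidHom.mem_ker]
      exact (congrArg Prod.snd hav).trans haw
    have ha1 : a ≠ 1 := fun h => gen0_ne_one (by
      rw [← fu_aWord, ← coe_wval_hu, ← ha, h, OneMemClass.coe_one])
    have hz : Subgroup.zpowers a = φ.ker := by
      refine Subgroup.eq_of_le_of_card_ge (Subgroup.zpowers_le.2 haφ) ?_
      rw [hker]
      have h1 : Nat.card (Subgroup.zpowers a) ≠ 1 := fun h =>
        ha1 (Subgroup.zpowers_eq_bot.1 (Subgroup.card_eq_one.1 h))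
      have h2 : 0 < Nat.card (Subgroup.zpowers a) := Nat.card_pos
      omega
    rw [← hz, Subgroup.zpowers_le]
    exact haχ
  refine ⟨φ.liftOfSurjective hφ ⟨χ, hkerle⟩, fun i hi => ?_⟩
  rw [← (hgen i hi).1]
  exact (MonoidHom.liftOfRightInverse_comp_apply φ _ _ ⟨χ, hkerle⟩ (hu i)).trans (hgen i hi).2

/-! ## The stabiliser -/

theorem base_facts : (leechU : GolayPt → ℤ) = dec vX ∧ sqNorm (leechU : GolayPt → ℤ) = 32 ∧
    sqNorm (dec wX) = 32 ∧ dotInt (leechU : GolayPt → ℤ) (dec wX) = -16 := by decide +kernel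

/-- The second standard vector. -/
noncomputable def baseW2 : leechLattice := ⟨dec wX, mem_leechLattice.2 (inL_dec
  ((List.range 24).foldr (fun i m => if dig wX i / 2 % 2 = 1 then 2 ^ i + m else m) 0)
  (by decide +kernel) (by decide +kernel) (by decide +kernel) (by decide +kernel))⟩

theorem baseW2_mem : baseW2 ∈ minusPairSet leechU := ⟨base_facts.2.2.1, base_facts.2.2.2⟩

/-- The stabiliser of the standard pair. -/
noncomputable def H0 : Subgroup Co0 := stabilizer Co0 leechU ⊓ stabilizer Co0 baseW2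

/-- The 4600 standard vectors. -/
abbrev WPoint : Type := ↥(minusPairSet leechU)

theorem w_mem_smul (g : co2Grp) (x : WPoint) : (g : Co0) • (x : leechLattice) ∈ minusPairSet leechU := by
  have h := (minusPairSet_smul (g := (g : Co0))).2 x.2
  rwa [mem_stabilizer_iff.1 g.2] at h

/-- The action on the 4600 standard vectors. -/
noncomputable instance wAction : MulAction co2Grp WPoint where
  smul g x := ⟨(g : Co0) • (x : leechLattice), w_mem_smul g x⟩
  one_smul x := Subtype.ext (one_smul Co0 (x : leechLattice))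
  mul_smul g h x := Subtype.ext (mul_smul (g : Co0) (h : Co0) (x : leechLattice))

/-- The second standard vector as a point. -/
noncomputable def ptW : WPoint := ⟨baseW2, baseW2_mem⟩

theorem card_H0 : Nat.card H0 = 9196830720 := by
  have h := Subgroup.index_mul_card (stabilizer co2Grp ptW)
  have horb : orbit co2Grp ptW = Set.univ := Set.eq_univ_iff_forall.2 fun y => by
    obtain ⟨g, g1, g2⟩ := minus16pair_transitive leechU baseW2 y.1 base_facts.2.1 baseW2_mem y.2
    exact mem_orbit_iff.2 ⟨⟨g, mem_stabilizer_iff.2 g1⟩, Subtype.ext g2⟩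
  have hc : Nat.card WPoint = 4600 := by
    rw [Nat.card_coe_set_eq, ← (census32 (mem_leechLattice.1 leechU.2) base_facts.2.1).1,
      ← ncard_dot_sub 32 (by norm_num)]
    rfl
  rw [index_stabilizer, horb, Set.ncard_univ, hc, card_co2Grp] at h
  have e : Nat.card (stabilizer co2Grp ptW) = Nat.card H0 := Nat.card_congr
    { toFun := fun g => ⟨(g.1 : Co0), g.1.2,
        mem_stabilizer_iff.2 (congrArg Subtype.val (mem_stabilizer_iff.1 g.2))⟩
      invFun := fun g => ⟨⟨(g : Co0), g.2.1⟩, mem_stabilizer_iff.2 (Subtype.ext (mem_stabilizer_iff.1 g.2.2))⟩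
      left_inv := fun _ => rfl
      right_inv := fun _ => rfl }
  omega

/-- An element performing elementary automorphism number `k`. -/
noncomputable def elC (k : ℕ) : Co0 :=
  if h : k < 19 then (exists_gen (elGen_ok ⟨k, h⟩)).choose else 1

theorem elC_spec {k : ℕ} (hk : k < 19) (X : ℕ) (v : leechLattice) (hv : (v : GolayPt → ℤ) = dec X) :
    ((elC k • v : leechLattice) : GolayPt → ℤ) = fun p => (elGen k).imgN X (Mathieu.ptEnc p).val := by
  rw [elC, dif_pos hk]
  exact (exists_gen (elGen_ok ⟨k, hk⟩)).choose_spec X v hv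

theorem run_spec : ∀ (w : List ℕ), (∀ k ∈ w, k < 19) → ∀ (X Y : ℕ), runOK w X Y = true →
    ∀ v : leechLattice, (v : GolayPt → ℤ) = dec X → ((wval elC w • v : leechLattice) : GolayPt → ℤ) = dec Y
  | [], _, X, Y, h, v, hv => by
    simp only [runOK, beq_iff_eq] at h
    show (((1 : Co0) • v : leechLattice) : GolayPt → ℤ) = _
    rw [one_smul, hv, h]
  | k :: w, hk, X, Y, h, v, hv => by
    simp only [runOK, Bool.and_eq_true] at h
    show (((wval elC w * elC k) • v : leechLattice) : GolayPt → ℤ) = _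
    rw [mul_smul]
    refine run_spec w (fun a ha => hk a (List.mem_cons_of_mem _ ha)) _ Y h.2 _ ?_
    rw [elC_spec (hk k List.mem_cons_self) X v hv, edgeOK_spec h.1]

theorem lets_lt (i : ℕ) : ∀ k ∈ lets i, k < 19 := by
  by_cases hi : i < 8
  · exact (lets_fix ⟨i, hi⟩).2.2
  · have hlen : U62Data.letTab.length = 8 := by decide +kernel
    rw [lets, List.getD_eq_default _ _ (by omega)]
    simp

/-- Involution number `i`. -/
noncomputable def sC (i : ℕ) : Co0 := wval elC (lets i)

theorem sC_mem (i : ℕ) : sC i ∈ H0 := by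
  by_cases hi : i < 8
  · obtain ⟨h1, h2, h3⟩ := lets_fix ⟨i, hi⟩
    exact ⟨mem_stabilizer_iff.2 (Subtype.ext ((run_spec _ h3 _ _ h1 _ base_facts.1).trans base_facts.1.symm)),
      mem_stabilizer_iff.2 (Subtype.ext (run_spec _ h3 _ _ h2 baseW2 rfl))⟩
  · have hlen : U62Data.letTab.length = 8 := by decide +kernel
    rw [sC, lets, List.getD_eq_default _ _ (by omega)]
    exact H0.one_mem

/-- Involution number `i` in the stabiliser. -/
noncomputable def sH (i : ℕ) : H0 := ⟨sC i, sC_mem i⟩

/-- A lattice vector from the spanning table. -/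
noncomputable def spanV (k : Fin 24) : leechLattice :=
  ⟨dec (U62Data.spanTab.getD k 0), mem_leechLattice.2 (inL_dec
    ((List.range 24).foldr (fun i m => if dig (U62Data.spanTab.getD k 0) i / 2 % 2 = 1 then 2 ^ i + m else m) 0)
    (by revert k; decide +kernel) (by revert k; decide +kernel) (by revert k; decide +kernel)
    (by revert k; decide +kernel))⟩

theorem eq_one_of_fix {g : Co0} (h : ∀ k, g • spanV k = spanV k) : g = 1 := by
  obtain ⟨-, h0, hk⟩ := span_dec
  have e0 : eight (some 0) = spanV 0 + spanV 1 := Subtype.ext (funext fun p => by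
    rw [eight_val, AddSubgroup.coe_add, Pi.add_apply, Pi.single_apply]; exact (h0 p).symm)
  have f0 : g • eight (some 0) = eight (some 0) := by rw [e0, co0_add, h, h]
  refine co0_ext g 1 fun i => ?_
  rw [one_smul]
  by_cases hi : Mathieu.ptEnc i = 0
  · rwa [show i = some 0 by rw [← Mathieu.ptEnc.symm_apply_apply i, hi]; decide]
  have e : eight i + eight (some 0) = spanV (Mathieu.ptEnc i) + spanV (Mathieu.ptEnc i) :=
    Subtype.ext (funext fun p => by
      have := hk _ hi p
      rw [Equiv.symm_apply_apply] at this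
      simp only [eight_val, AddSubgroup.coe_add, Pi.add_apply, Pi.single_apply]
      show _ = dec _ p + dec _ p
      omega)
  have := congrArg (fun x : leechLattice => g • x) e
  simp only [co0_add, h, f0] at this
  rw [← e] at this
  exact add_right_cancel this

/-- A vector as one integer in base 256. -/
noncomputable def pk (f : GolayPt → ℤ) : ℤ :=
  ∑ n ∈ Finset.range 24, f (Mathieu.idx Mathieu.ptEnc n) * 256 ^ n

theorem sumUp_eq (f : ℕ → ℤ) : ∀ n, sumUp f n = ∑ k ∈ Finset.range n, f k
  | 0 => rfl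
  | n + 1 => by rw [sumUp, sumUp_eq f n, Finset.sum_range_succ]

theorem pk_dec (X : ℕ) : pk (dec X) = pkX X := by
  rw [pk, pkX, sumUp_eq]
  refine Finset.sum_congr rfl fun n hn => ?_
  rw [dec, Mathieu.idx_val (Finset.mem_range.1 hn)]

theorem pk_add (f g : GolayPt → ℤ) : pk (f + g) = pk f + pk g := by
  simp only [pk, Pi.add_apply, add_mul, Finset.sum_add_distrib]

theorem pk_smul (c : ℤ) (f : GolayPt → ℤ) : pk (c • f) = c * pk f := by
  simp only [pk, Pi.smul_apply, smul_eq_mul, Finset.mul_sum, mul_assoc]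

theorem pk_sum {ι : Type*} (s : Finset ι) (f : ι → GolayPt → ℤ) : pk (∑ i ∈ s, f i) = ∑ i ∈ s, pk (f i) := by
  simp only [pk, Finset.sum_apply, Finset.sum_mul]
  exact Finset.sum_comm

theorem digit_sum : ∀ (N k : ℕ) (a : ℕ → ℕ), k < N → (∀ n, a n < 256) →
    (∑ n ∈ Finset.range N, a n * 256 ^ n) / 256 ^ k % 256 = a k
  | 0, k, a, h, _ => absurd h k.not_lt_zero
  | N + 1, k, a, h, ha => by
    have e : ∑ n ∈ Finset.range (N + 1), a n * 256 ^ n =
        a 0 + 256 * ∑ n ∈ Finset.range N, a (n + 1) * 256 ^ n := by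
      rw [Finset.sum_range_succ', pow_zero, mul_one, add_comm, Finset.mul_sum]
      exact congrArg _ (Finset.sum_congr rfl fun n _ => by ring)
    have h0 := ha 0
    rw [e]
    rcases k with _ | k
    · rw [pow_zero, Nat.div_one]; omega
    · rw [pow_succ', ← Nat.div_div_eq_div_mul, show (a 0 + 256 * ∑ n ∈ Finset.range N, a (n + 1) * 256 ^ n) /
        256 = ∑ n ∈ Finset.range N, a (n + 1) * 256 ^ n by omega]
      exact digit_sum N k (fun n => a (n + 1)) (by omega) fun n => ha _

theorem dgt_pk {v : leechLattice} (hv : sqNorm (v : GolayPt → ℤ) = 32) {n : ℕ} (hn : n < 24) :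
    dgt (pk (v : GolayPt → ℤ)) n = (v : GolayPt → ℤ) (Mathieu.idx Mathieu.ptEnc n) := by
  have hb : ∀ p, -6 < (v : GolayPt → ℤ) p ∧ (v : GolayPt → ℤ) p < 6 := fun p => by
    have h : (v : GolayPt → ℤ) p ^ 2 ≤ 32 :=
      (Finset.single_le_sum (f := fun q => (v : GolayPt → ℤ) q ^ 2) (fun _ _ => sq_nonneg _)
        (Finset.mem_univ p)).trans hv.le
    constructor <;> nlinarith
  set a : ℕ → ℕ := fun k => ((v : GolayPt → ℤ) (Mathieu.idx Mathieu.ptEnc k) + 128).toNat with ha
  have hcast : ∀ k, (a k : ℤ) = (v : GolayPt → ℤ) (Mathieu.idx Mathieu.ptEnc k) + 128 := fun k => by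
    have := hb (Mathieu.idx Mathieu.ptEnc k)
    simp only [ha]
    omega
  have hlt : ∀ k, a k < 256 := fun k => by
    have := hb (Mathieu.idx Mathieu.ptEnc k)
    have := hcast k
    omega
  have hs : pk (v : GolayPt → ℤ) + offZ = ((∑ k ∈ Finset.range 24, a k * 256 ^ k : ℕ) : ℤ) := by
    rw [off_eq, sumUp_eq, pk, ← Finset.sum_add_distrib, Nat.cast_sum]
    refine Finset.sum_congr rfl fun k _ => ?_
    rw [Nat.cast_mul, hcast, Nat.cast_pow, Nat.cast_ofNat, add_mul]
  rw [dgt, hs, Int.toNat_natCast, Nat.shiftRight_eq_div_pow, show 8 * n = 8 * n from rfl, pow_mul,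
    show (255 : ℕ) = 2 ^ 8 - 1 from rfl, Nat.and_two_pow_sub_one_eq_mod,
    show (2 : ℕ) ^ 8 = 256 from rfl, digit_sum 24 n a hn hlt, hcast, add_sub_cancel_right]

theorem sC_col (i : Fin 8) {n : ℕ} (hn : n < 24) :
    pk ((sC i • eight (Mathieu.idx Mathieu.ptEnc n) : leechLattice) : GolayPt → ℤ) = colN i n := by
  obtain ⟨-, h0, hk⟩ := span_dec
  have him : ∀ k : Fin 24, pk ((sC i • spanV k : leechLattice) : GolayPt → ℤ) = pkX (imgN8 i k) := fun k => by
    rw [← pk_dec]
    exact congrArg pk (run_spec _ (lets_lt i) _ _ (img_ok i k) (spanV k) rfl)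
  have e0 : eight (some 0) = spanV 0 + spanV 1 := Subtype.ext (funext fun p => by
    rw [eight_val, AddSubgroup.coe_add, Pi.add_apply, Pi.single_apply]; exact (h0 p).symm)
  have p0 : pk ((sC i • eight (some 0) : leechLattice) : GolayPt → ℤ) =
      pkX (imgN8 i 0) + pkX (imgN8 i 1) := by
    rw [e0, co0_add, AddSubgroup.coe_add, pk_add, him, him]
    rfl
  have hc := col_ok i ⟨n, hn⟩
  simp only [colF] at hc
  rw [hc]
  by_cases hz : n = 0
  · subst hz
    rw [if_pos rfl]
    exact p0
  · rw [if_neg hz]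
    have hi : Mathieu.idx Mathieu.ptEnc n = Mathieu.ptEnc.symm (⟨n, hn⟩ : Fin 24) :=
      congrArg Mathieu.ptEnc.symm (Fin.ext (Nat.mod_eq_of_lt hn))
    have e : eight (Mathieu.idx Mathieu.ptEnc n) + eight (some 0) =
        spanV ⟨n, hn⟩ + spanV ⟨n, hn⟩ :=
      Subtype.ext (funext fun p => by
        have := hk ⟨n, hn⟩ (fun h => hz (congrArg Fin.val h)) p
        rw [← hi] at this
        simp only [eight_val, AddSubgroup.coe_add, Pi.add_apply, Pi.single_apply]
        show _ = dec _ p + dec _ p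
        omega)
    have e' := congrArg (fun x : leechLattice => pk ((sC i • x : leechLattice) : GolayPt → ℤ)) e
    simp only [co0_add, AddSubgroup.coe_add, pk_add, him, p0] at e'
    linarith

theorem step_spec {i : ℕ} (hi : i < 8) {v : leechLattice} (hv : sqNorm (v : GolayPt → ℤ) = 32) :
    stepP i (pk (v : GolayPt → ℤ)) = pk ((sC i • v : leechLattice) : GolayPt → ℤ) := by
  have h := congrArg pk (eight_smul_expand (sC i) v)
  rw [pk_smul, pk_sum] at h
  have e : sumUp (fun n => dgt (pk (v : GolayPt → ℤ)) n * colN i n) 24 =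
      8 * pk ((sC i • v : leechLattice) : GolayPt → ℤ) := by
    rw [h, sumUp_eq, ← Equiv.sum_comp Mathieu.ptEnc.symm,
      ← Fin.sum_univ_eq_sum_range (fun n => dgt (pk (v : GolayPt → ℤ)) n * colN i n)]
    refine Finset.sum_congr rfl fun n _ => ?_
    have hi' : Mathieu.idx Mathieu.ptEnc (n : ℕ) = Mathieu.ptEnc.symm n :=
      congrArg Mathieu.ptEnc.symm (Fin.ext (Nat.mod_eq_of_lt n.2))
    rw [pk_smul, dgt_pk hv n.2, ← hi', sC_col ⟨i, hi⟩ n.2]
  rw [stepP, e, Int.mul_ediv_cancel_left _ (by norm_num)]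

theorem runP_spec : ∀ (w : List ℕ), (∀ i ∈ w, i < 8) → ∀ v : leechLattice, sqNorm (v : GolayPt → ℤ) = 32 →
    runP w (pk (v : GolayPt → ℤ)) = pk ((wval sC w • v : leechLattice) : GolayPt → ℤ)
  | [], _, v, _ => by
    show _ = pk (((1 : Co0) • v : leechLattice) : GolayPt → ℤ)
    rw [one_smul]
    rfl
  | i :: w, hw, v, hv => by
    show runP w (stepP i _) = pk (((wval sC w * sC i) • v : leechLattice) : GolayPt → ℤ)
    rw [mul_smul, step_spec (hw i List.mem_cons_self) hv]
    exact runP_spec w (fun a ha => hw a (List.mem_cons_of_mem _ ha)) _ ((co0_norm _ v).trans hv)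

theorem spanV_norm (k : Fin 24) : sqNorm (spanV k : GolayPt → ℤ) = 32 := by
  revert k
  show ∀ k : Fin 24, sqNorm (dec (U62Data.spanTab.getD k 0)) = 32
  decide +kernel

theorem wval_eq_one {w : List ℕ} (h : fixOK w = true) : wval sC w = 1 := by
  simp only [fixOK, Bool.and_eq_true, List.all_eq_true, decide_eq_true_eq, beq_iff_eq] at h
  refine eq_one_of_fix fun k => Subtype.ext (funext fun p => ?_)
  have hn := spanV_norm k
  have hmem : U62Data.spanTab.getD k 0 ∈ U62Data.spanTab := by
    rw [List.getD_eq_getElem _ _ (by rw [span_dec.1]; exact k.2)]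
    exact List.getElem_mem _
  have hp : pk ((wval sC w • spanV k : leechLattice) : GolayPt → ℤ) = pk (spanV k : GolayPt → ℤ) := by
    rw [← runP_spec w h.1 _ hn, show pk (spanV k : GolayPt → ℤ) = pkX (U62Data.spanTab.getD k 0) from pk_dec _]
    exact h.2 _ hmem
  have hd := congrArg (fun R => dgt R (Mathieu.ptEnc p)) hp
  simp only [dgt_pk ((co0_norm _ _).trans hn) (Mathieu.ptEnc p).2, dgt_pk hn (Mathieu.ptEnc p).2] at hd
  rwa [show Mathieu.idx Mathieu.ptEnc (Mathieu.ptEnc p : ℕ) = p by
    rw [Mathieu.idx, Fin.ofNat_val_eq_self, Equiv.symm_apply_apply]] at hd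

theorem sC_ne_one : sC 0 ≠ 1 := by
  intro h
  refine s0_moves ?_
  have := runP_spec [0] (by simp) (spanV 3) (spanV_norm 3)
  rw [show wval sC [0] = 1 by simp [wval, h], one_smul,
    show pk (spanV 3 : GolayPt → ℤ) = pkX (U62Data.spanTab.getD 3 0) from pk_dec _] at this
  exact this

theorem exists_iso : Nonempty (PU ≃* H0) := by
  haveI : Finite H0 := Nat.finite_of_card_ne_zero (by rw [card_H0]; norm_num)
  have hcoe : ∀ w : List ℕ, ((wval sH w : H0) : Co0) = wval sC w := fun w => wval_map H0.subtype w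
  obtain ⟨ψ, hψ⟩ := exists_hom_of_rels sH (fun i hi => Subtype.ext (by
      have hlen : U62Data.letTab.length = 8 := by decide +kernel
      show wval elC (lets i) = _
      rw [lets, List.getD_eq_default _ _ (by omega)]
      rfl))
    (fun w hw => Subtype.ext (by
      rw [hcoe]; exact wval_eq_one (List.all_eq_true.1 rels_fix w hw)))
    (Subtype.ext (by rw [hcoe]; exact wval_eq_one aWord_fix))
  haveI := pu_simple
  haveI : Finite PU := Nat.finite_of_card_ne_zero (by rw [card_PU]; norm_num)
  have hinj : Function.Injective ψ := by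
    rw [← MonoidHom.ker_eq_bot_iff]
    rcases IsSimpleGroup.eq_bot_or_eq_top_of_normal ψ.ker inferInstance with h | h
    · exact h
    · exfalso
      refine sC_ne_one (congrArg Subtype.val (((hψ 0 (by norm_num)).symm.trans ?_) : sH 0 = 1))
      rw [← MonoidHom.mem_ker, h]
      trivial
  exact ⟨MulEquiv.ofBijective ψ ((Nat.bijective_iff_injective_and_card ψ).2
    ⟨hinj, by rw [card_PU, card_H0]⟩)⟩

theorem stab_iso_PSU62 {v w : leechLattice} (hv : sqNorm (v : GolayPt → ℤ) = 32)
    (hw : w ∈ minusPairSet v) (F : Type) [Field F] [Fintype F] (hF : Fintype.card F = 4) :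
    Nonempty (↥(stabilizer Co0 v ⊓ stabilizer Co0 w) ≃* PSU 6 F 2) := by
  obtain ⟨a, ha⟩ := co0_transitive v leechU 32 (Or.inl rfl) hv base_facts.2.1
  obtain ⟨g, g1, g2⟩ := minus16pair_transitive leechU (a • w) baseW2 base_facts.2.1
    (by rw [← ha]; exact minusPairSet_smul.2 hw) baseW2_mem
  set b := g * a with hb
  have b1 : b • v = leechU := by rw [hb, mul_smul, ha, g1]
  have b2 : b • w = baseW2 := by rw [hb, mul_smul, g2]
  obtain ⟨e⟩ := exists_iso
  obtain ⟨r⟩ : Nonempty (FiU6.K ≃+* F) :=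
    ⟨FiniteField.ringEquivOfCardEq (G2Four.card_K4.trans hF.symm)⟩
  let φ := Transpos.SU32.suMap r 6 2
  let e3 : PSU 6 FiU6.K 2 ≃* PSU 6 F 2 :=
    QuotientGroup.congr _ _ φ (by
    ext z
    simp only [Subgroup.mem_map, MulEquiv.coe_toMonoidHom, Subgroup.mem_center_iff]
    constructor
    · rintro ⟨y, hy, rfl⟩ w
      show w * φ y = φ y * w
      rw [← φ.apply_symm_apply w, ← map_mul, ← map_mul, hy]
    · intro hz
      exact ⟨φ.symm z, fun w => φ.injective (by simp [map_mul, hz]), φ.apply_symm_apply z⟩)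
  exact ⟨(stabPairEquiv b b1 b2).trans (e.symm.trans e3)⟩

end Cfsg.Agent.Leech.U62
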