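import Cfsg.Agent.Lib.Leech.U62Data
import Cfsg.Agent.Lib.Presented.Data.FiU6Data

/-!
# The relators of `U₆(2)` for eight lattice automorphisms
-/

set_option autoImplicit false
set_option maxRecDepth 100000

namespace Cfsg.Agent.Leech.U62

open Cfsg

open Cfsg.Agent.Presented

/-- Elementary automorphism number `k`. -/
def elGen (k : ℕ) : Gen := U62Data.elTab.getD k []

/-- The elementary letters of involution number `i`. -/
def lets (i : ℕ) : List ℕ := U62Data.letTab.getD i []

/-- The packed image of a packed vector. -/
def stepV (g : Gen) (X : ℕ) : ℕ :=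
  (List.range 24).foldl (fun a n => a + (g.imgN X n + 8).toNat * 16 ^ n) 0

/-- The elementary automorphisms carry `X` to `Y` one after another. -/
def runOK : List ℕ → ℕ → ℕ → Bool
  | [], X, Y => X == Y
  | k :: w, X, Y =>
    let Z := stepV (elGen k) X
    edgeOK (elGen k) X Z && runOK w Z Y

/-- The packed vector of `4 4 0²²`. -/
def vX : ℕ := 0xc8888888888888888888888c

/-- The packed vector of the second minimal vector. -/
def wX : ℕ := 0x4888888888888888888888c8

/-- A sum by recursion. -/
def sumUp (f : ℕ → ℤ) : ℕ → ℤ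
  | 0 => 0
  | n + 1 => sumUp f n + f n

/-- A packed vector as one integer in base 256. -/
def pkX (X : ℕ) : ℤ := sumUp (fun n => dig X n * 256 ^ n) 24

/-- The image of spanning vector `k` under involution `i`. -/
def imgN8 (i k : ℕ) : ℕ := (U62Data.imgTab.getD i []).getD k 0

/-- The packed image of `8 e_n` under involution `i`. -/
def colN (i n : ℕ) : ℤ := (U62Data.colTab.getD i []).getD n 0

/-- The same from the images of the spanning vectors. -/
def colF (i n : ℕ) : ℤ :=
  if n = 0 then pkX (imgN8 i 0) + pkX (imgN8 i 1)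
  else 2 * pkX (imgN8 i n) - (pkX (imgN8 i 0) + pkX (imgN8 i 1))

/-- The offset making all digits non-negative. -/
def offZ : ℤ := 3150858910311745638317572730080710985337652928985868304512

/-- Digit `n` of a packed vector. -/
def dgt (R : ℤ) (n : ℕ) : ℤ := ((((R + offZ).toNat >>> (8 * n)) &&& 255 : ℕ) : ℤ) - 128

/-- An involution on packed vectors. -/
def stepP (i : ℕ) (R : ℤ) : ℤ := sumUp (fun n => dgt R n * colN i n) 24 / 8

/-- A word on packed vectors. -/
def runP : List ℕ → ℤ → ℤ
  | [], R => R
  | i :: w, R => runP w (stepP i R)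

/-- A word fixes every spanning vector. -/
def fixOK (w : List ℕ) : Bool :=
  w.all (fun i => decide (i < 8)) && U62Data.spanTab.all fun X => runP w (pkX X) == pkX X

theorem elGen_ok : ∀ k : Fin 19, (elGen k).ok = true := by decide +kernel

theorem lets_fix : ∀ i : Fin 8, runOK (lets i) vX vX = true ∧ runOK (lets i) wX wX = true ∧
    ∀ k ∈ lets i, k < 19 := by decide +kernel

theorem img_ok : ∀ i : Fin 8, ∀ k : Fin 24,
    runOK (lets i) (U62Data.spanTab.getD k 0) (imgN8 i k) = true := by decide +kernel

theorem col_ok : ∀ i : Fin 8, ∀ n : Fin 24, colN i n = colF i n := by decide +kernel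

theorem off_eq : offZ = sumUp (fun n => 128 * 256 ^ n) 24 := by decide +kernel

theorem s0_moves : runP [0] (pkX (U62Data.spanTab.getD 3 0)) ≠ pkX (U62Data.spanTab.getD 3 0) := by
  decide +kernel

theorem rels_fix : (FiU6Data.rels.all fixOK) = true := by decide +kernel

theorem aWord_fix : fixOK FiU6Data.aWord = true := by decide +kernel

theorem span_dec : U62Data.spanTab.length = 24 ∧
    (∀ p : GolayPt, dec (U62Data.spanTab.getD 0 0) p + dec (U62Data.spanTab.getD 1 0) p =
        if p = some 0 then 8 else 0) ∧
    ∀ k : Fin 24, k ≠ 0 → ∀ p : GolayPt,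
      2 * dec (U62Data.spanTab.getD k 0) p =
        (if p = some 0 then 8 else 0) + if p = Mathieu.ptEnc.symm k then 8 else 0 := by
  decide +kernel

end Cfsg.Agent.Leech.U62
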